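import Groth.Agent.L14.Iso.RankTwo
import Groth.Agent.S8465

/-!
Commutators of pairs of root points in systems of type G₂, including the exceptional exponents in characteristic three.
-/

set_option autoImplicit false
universe u

open CategoryTheory CategoryTheory.Limits AlgebraicGeometry MonoidalCategory CartesianMonoidalCategory MonObj
open Groth.L14.RankOne Groth.L25 Groth.L14.Chart Groth.L14.Chev Groth.L14.Chev.Words Groth.L14.Coroot
open Groth.L24.RootD (wd wd_append wd_nil wd_singleton wd_cons root_smul reflection_smul_idx)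

set_option backward.isDefEq.respectTransparency.types false
set_option linter.style.haveILetI false
set_option linter.unusedSectionVars false
set_option maxHeartbeats 1000000

noncomputable section

namespace Groth.L14.Iso

variable {S : Scheme.{u}} {G G' : Over S} [GrpObj G] [GrpObj G']

theorem formula_G {R : Type u} [CommRing R] (j : Spec (CommRingCat.of R) ⟶ S) {C : Type u} [CommRing C] [Algebra R C]
    [IsOpenImmersion j] (D : Red.Pinning G) (e₁ : 𝟙_ (Over S) ⟶ Red.Ga S) (he₁ : Red.gaFn e₁ = 1)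
    (hd : ∀ a ∈ D.base.support, DualAt (D := D.toSplitRed) (fun c => coav D.toSplitRed c) D.u (opp D.u) a)
    (w : D.idx → (𝟙_ (Over S) ⟶ G))
    (hw : ∀ a, w a = (e₁ ≫ D.u a) * (e₁ ≫ D.u (D.P.reflectionPerm a a))⁻¹ * (e₁ ≫ D.u a))
    {a b : D.idx} (ha : a ∈ D.base.support) (hb : b ∈ D.base.support) (hne : a ≠ b)
    (hp : D.P.pairing b a = -3) (hq : D.P.pairing a b = -1) (x y : C) :
    (gp j y ≫ D.u b) * (gp j x ≫ D.u a) = (gp j x ≫ D.u a) * (gp j y ≫ D.u b) * cj j (w b) (D.u a) (x * y) *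
        cj j (w a * w b) (D.u a) (x ^ 2 * y) * cj j (w a) (D.u b) (-(x ^ 3 * y)) *
        cj j (w b * w a) (D.u b) (-(x ^ 3 * y ^ 2)) ∧
      cj j (w b) (D.u a) y * (gp j x ≫ D.u a) = (gp j x ≫ D.u a) * cj j (w b) (D.u a) y *
        cj j (w a * w b) (D.u a) (2 * x * y) * cj j (w a) (D.u b) (-(3 * x ^ 2 * y)) *
        cj j (w b * w a) (D.u b) (-(3 * x * y ^ 2)) ∧
      cj j (w a * w b) (D.u a) y * (gp j x ≫ D.u a) =
        (gp j x ≫ D.u a) * cj j (w a * w b) (D.u a) y * cj j (w a) (D.u b) (-(3 * x * y)) ∧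
      cj j (w a) (D.u b) y * (gp j x ≫ D.u b) =
        (gp j x ≫ D.u b) * cj j (w a) (D.u b) y * cj j (w b * w a) (D.u b) (-(x * y)) ∧
      cj j (w a * w b) (D.u a) y * cj j (w b) (D.u a) x =
        cj j (w b) (D.u a) x * cj j (w a * w b) (D.u a) y * cj j (w b * w a) (D.u b) (-(3 * x * y)) := by
  haveI := (D.rootHom b).1
  have hinv : ∀ (n : 𝟙_ (Over S) ⟶ G) (X : Over S) (z : X ⟶ Red.Ga S),
      (toUnit X ≫ n) * (z ≫ D.u b)⁻¹ * (toUnit X ≫ n)⁻¹ = ((toUnit X ≫ n) * (z ≫ D.u b) * (toUnit X ≫ n)⁻¹)⁻¹ :=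
    fun n X z => by group
  have key : ∀ y : C, _ := fun y => Groth.Agent.S8465.result S e₁ he₁ G D _ (fun _ => rfl)
    (fun a ha X x y h => (hd a ha).2 X x y h) w hw a b ha hb hne hp hq
    (fun X z => (toUnit X ≫ w b) * (z ≫ D.u a) * (toUnit X ≫ w b)⁻¹) (fun _ _ => rfl)
    (fun X z => (toUnit X ≫ (w a * w b)) * (z ≫ D.u a) * (toUnit X ≫ (w a * w b))⁻¹) (fun _ _ => rfl)
    (fun X z => (toUnit X ≫ w a) * (z ≫ D.u b)⁻¹ * (toUnit X ≫ w a)⁻¹) (fun _ _ => rfl)
    (fun X z => (toUnit X ≫ (w b * w a)) * (z ≫ D.u b)⁻¹ * (toUnit X ≫ (w b * w a))⁻¹) (fun _ _ => rfl)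
    _ (gp j x) (gp j y) (gp j (x * y)) (gp j (x ^ 2 * y)) (gp j (x ^ 3 * y)) (gp j (x ^ 3 * y ^ 2))
    (gp j (2 * x * y)) (gp j (3 * x ^ 2 * y)) (gp j (3 * x * y ^ 2)) (gp j (3 * x * y)) (gp j (-(x * y)))
    (gp j (3 * x * y))
    (by simp [gaFn_gp]) (by simp [gaFn_gp, map_ofNat]) (by simp [gaFn_gp, map_ofNat]) (by simp [gaFn_gp, map_ofNat])
    (by simp [gaFn_gp, map_ofNat]) (by simp [gaFn_gp, map_ofNat]) (by simp [gaFn_gp, map_ofNat])
    (by simp [gaFn_gp, map_ofNat]) (by simp [gaFn_gp, map_ofNat]) (by simp [gaFn_gp, map_ofNat])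
  simp only [hinv] at key
  have hcj : ∀ (n : 𝟙_ (Over S) ⟶ G) (z : C),
      ((toUnit (Sp j C) ≫ n) * (gp j z ≫ D.u b) * (toUnit (Sp j C) ≫ n)⁻¹)⁻¹ = cj j n (D.u b) (-z) :=
    fun n z => (cj_neg j n (D.u b) z).symm
  simp only [hcj] at key
  obtain ⟨k1, k2, k3, -, k5⟩ := key y
  obtain ⟨-, -, -, k4, -⟩ := key (-y)
  refine ⟨k1, k2, k3, ?_, k5⟩
  simpa [mul_neg, cj] using k4

/-- The coordinates of the positive roots of a system of type G₂. -/
def rootsG {κ : Type} (a b c₁ c₂ c₃ c₄ : κ) (v : ℤ × ℤ) : κ :=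
  if v = (1, 0) then a else if v = (0, 1) then b else if v = (1, 1) then c₁ else if v = (2, 1) then c₂ else
    if v = (3, 1) then c₃ else c₄

/-- The exceptional exponents. -/
def kG (v : ℤ × ℤ) : ℕ := if v = (1, 0) ∨ v = (1, 1) ∨ v = (2, 1) then 3 else 1

namespace Dat

variable (P : Dat G G') {a b : P.D.idx} (ha : a ∈ P.D.base.support) (hb : b ∈ P.D.base.support) (hne : a ≠ b)
  (hp : P.D.P.pairing b a = -3) (hq : P.D.P.pairing a b = -1)

theorem exists_sys_eq {R : Type u} [CommRing R] (j : Spec (CommRingCat.of R) ⟶ S) [IsOpenImmersion j]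
    {C : Type u} [CommRing C] [Algebra R C] {l : List P.D.idx} (hl : ∀ x ∈ l, x ∈ P.D.base.support)
    {c₀ : P.D.idx} (hc₀ : c₀ ∈ P.D.base.support) {c : P.D.idx} (hc : wd P.D.P l • c₀ = c) (z : C) :
    ∃ z', ev j z (P.U l c₀) = ev j z' (P.sys c) := by
  obtain ⟨ε, -, h⟩ := P.car_sys_word hl hc₀ hc
  exact ⟨(ε : C) * z, by rw [ev_conj2, h R j C z]⟩

include hp hq in
theorem at_G : P.At a b (P.D.P.reflectionPerm b a) (1, 1) ∧
    P.At a b (P.D.P.reflectionPerm a (P.D.P.reflectionPerm b a)) (2, 1) ∧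
    P.At a b (P.D.P.reflectionPerm a b) (3, 1) ∧
    P.At a b (P.D.P.reflectionPerm b (P.D.P.reflectionPerm a b)) (3, 2) :=
  ⟨P.at_step hp hq (P.at_left a b) false, P.at_step hp hq (P.at_step hp hq (P.at_left a b) false) true,
    P.at_step hp hq (P.at_right a b) true, P.at_step hp hq (P.at_step hp hq (P.at_right a b) true) false⟩

include ha hb hne hp hq in
theorem pos_G : P.D.P.reflectionPerm b a ∈ RedSub.posRoots P.D.P P.D.base ∧
    P.D.P.reflectionPerm a (P.D.P.reflectionPerm b a) ∈ RedSub.posRoots P.D.P P.D.base ∧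
    P.D.P.reflectionPerm a b ∈ RedSub.posRoots P.D.P P.D.base ∧
    P.D.P.reflectionPerm b (P.D.P.reflectionPerm a b) ∈ RedSub.posRoots P.D.P P.D.base := by
  obtain ⟨h1, h2, h3, h4⟩ := P.at_G hp hq
  exact ⟨(P.at_combo ha hb hne one_pos (m := 1) (n := 1) (by simp) (by rw [one_smul]; exact h1)).1,
    (P.at_combo ha hb hne one_pos (m := 2) (n := 1) (by simp) (by rw [one_smul]; exact h2)).1,
    (P.at_combo ha hb hne one_pos (m := 3) (n := 1) (by simp) (by rw [one_smul]; exact h3)).1,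
    (P.at_combo ha hb hne one_pos (m := 3) (n := 2) (by simp) (by rw [one_smul]; exact h4)).1⟩

include ha hb hne hp hq in
theorem qG {k : ℤ × ℤ → ℕ} {r : ℕ} (h₁ : P.q a = k (1, 0) * r) (h₂ : P.q b = k (0, 1) * r)
    (h₃ : k (1, 1) = k (1, 0)) (h₄ : k (2, 1) = k (1, 0)) (h₅ : k (3, 1) = k (0, 1)) (h₆ : k (3, 2) = k (0, 1)) :
    ∀ g v, g ∈ RedSub.posRoots P.D.P P.D.base → P.At a b g v → P.q g = k v * r := by
  intro g v hg hv
  obtain ⟨n1, n2, n3, n4⟩ := P.at_G hp hq
  have hm := P.at_mem ha hb hne hp hq planeList_G hg hv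
  simp only [List.mem_cons, List.not_mem_nil, or_false] at hm
  rcases hm with rfl | rfl | rfl | rfl | rfl | rfl
  · rw [P.idx_eq_of_at hv (P.at_left a b), h₁]
  · rw [P.idx_eq_of_at hv (P.at_right a b), h₂]
  · rw [P.idx_eq_of_at hv n1, P.q_refl, h₁, h₃]
  · rw [P.idx_eq_of_at hv n2, P.q_refl, P.q_refl, h₁, h₄]
  · rw [P.idx_eq_of_at hv n3, P.q_refl, h₂, h₅]
  · rw [P.idx_eq_of_at hv n4, P.q_refl, P.q_refl, h₂, h₆]

include ha hb hne hp hq in
theorem commute_G {k : ℤ × ℤ → ℕ} {r : ℕ} (hr : 0 < r)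
    (hk : ∀ g v, g ∈ RedSub.posRoots P.D.P P.D.base → P.At a b g v → P.q g = k v * r)
    {c e : P.D.idx} {v₁ v₂ : ℤ × ℤ} (hc : P.At a b c v₁) (he : P.At a b e v₂)
    (hv₁ : 0 ≤ v₁.1 ∧ 0 ≤ v₁.2) (hv₂ : 0 ≤ v₂.1 ∧ 0 ≤ v₂.2)
    (s2 : (v₁.1 + v₂.1, v₁.2 + v₂.2) ≠ (0, 0))
    (sw : (v₁.1 + v₂.1, v₁.2 + v₂.2) ∉ [((1 : ℤ), (0 : ℤ)), (0, 1), (1, 1), (2, 1), (3, 1), (3, 2)])
    (t2 : ((k v₁ : ℤ) * v₁.1 + k v₂ * v₂.1, (k v₁ : ℤ) * v₁.2 + k v₂ * v₂.2) ≠ (0, 0))
    (tw : ∀ v ∈ [((1 : ℤ), (0 : ℤ)), (0, 1), (1, 1), (2, 1), (3, 1), (3, 2)], ((k v : ℤ) * v.1, (k v : ℤ) * v.2) ≠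
      ((k v₁ : ℤ) * v₁.1 + k v₂ * v₂.1, (k v₁ : ℤ) * v₁.2 + k v₂ * v₂.2))
    (hc' : c ∈ RedSub.posRoots P.D.P P.D.base) (he' : e ∈ RedSub.posRoots P.D.P P.D.base) : P.PairComm c e := by
  obtain ⟨s0, s1⟩ := P.commute_source ha hb hne hp hq planeList_G hc he hv₁ hv₂ s2 sw
  obtain ⟨t0, t1⟩ := P.commute_target ha hb hne hp hq planeList_G k r hr hk hc he hv₁ hv₂ t2 tw hc' he'
  exact P.pairComm_of_commute s0 t0 s1 t1

include ha hb hne hp hq in
/-- The formulas give the plane. -/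
theorem planeComm_G_of {k : ℤ × ℤ → ℕ} {r : ℕ} (hr : 0 < r)
    (hk : ∀ g v, g ∈ RedSub.posRoots P.D.P P.D.base → P.At a b g v → P.q g = k v * r)
    (hk' : k = (fun _ => 1) ∨ k = kG)
    (hab : P.PairComm b a) (h1a : P.PairComm (P.D.P.reflectionPerm b a) a)
    (h2a : P.PairComm (P.D.P.reflectionPerm a (P.D.P.reflectionPerm b a)) a)
    (h3b : P.PairComm (P.D.P.reflectionPerm a b) b)
    (h21 : P.PairComm (P.D.P.reflectionPerm a (P.D.P.reflectionPerm b a)) (P.D.P.reflectionPerm b a))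
    (h4b : P.PairComm (P.D.P.reflectionPerm b (P.D.P.reflectionPerm a b)) b)
    (h43 : P.PairComm (P.D.P.reflectionPerm b (P.D.P.reflectionPerm a b)) (P.D.P.reflectionPerm a b)) :
    P.PlaneComm a b := by
  obtain ⟨n1, n2, n3, n4⟩ := P.at_G hp hq
  obtain ⟨p1, p2, p3, p4⟩ := P.pos_G ha hb hne hp hq
  have pa := Cell.simple_pos P.D.P P.D.base ha
  have pb := Cell.simple_pos P.D.P P.D.base hb
  have na := P.at_left a b
  have nb := P.at_right a b
  have hb1 : P.PairComm b (P.D.P.reflectionPerm b a) := by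
    refine P.commute_G ha hb hne hp hq hr hk nb n1 (by simp) (by simp) (by decide) (by decide) ?_ ?_ pb p1 <;>
      rcases hk' with rfl | rfl <;> decide
  have hb2 : P.PairComm b (P.D.P.reflectionPerm a (P.D.P.reflectionPerm b a)) := by
    refine P.commute_G ha hb hne hp hq hr hk nb n2 (by simp) (by simp) (by decide) (by decide) ?_ ?_ pb p2 <;>
      rcases hk' with rfl | rfl <;> decide
  have ha3 : P.PairComm a (P.D.P.reflectionPerm a b) := by
    refine P.commute_G ha hb hne hp hq hr hk na n3 (by simp) (by simp) (by decide) (by decide) ?_ ?_ pa p3 <;>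
      rcases hk' with rfl | rfl <;> decide
  have ha4 : P.PairComm a (P.D.P.reflectionPerm b (P.D.P.reflectionPerm a b)) := by
    refine P.commute_G ha hb hne hp hq hr hk na n4 (by simp) (by simp) (by decide) (by decide) ?_ ?_ pa p4 <;>
      rcases hk' with rfl | rfl <;> decide
  have h13 : P.PairComm (P.D.P.reflectionPerm b a) (P.D.P.reflectionPerm a b) := by
    refine P.commute_G ha hb hne hp hq hr hk n1 n3 (by simp) (by simp) (by decide) (by decide) ?_ ?_ p1 p3 <;>
      rcases hk' with rfl | rfl <;> decide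
  have h14 : P.PairComm (P.D.P.reflectionPerm b a) (P.D.P.reflectionPerm b (P.D.P.reflectionPerm a b)) := by
    refine P.commute_G ha hb hne hp hq hr hk n1 n4 (by simp) (by simp) (by decide) (by decide) ?_ ?_ p1 p4 <;>
      rcases hk' with rfl | rfl <;> decide
  have h23 : P.PairComm (P.D.P.reflectionPerm a (P.D.P.reflectionPerm b a)) (P.D.P.reflectionPerm a b) := by
    refine P.commute_G ha hb hne hp hq hr hk n2 n3 (by simp) (by simp) (by decide) (by decide) ?_ ?_ p2 p3 <;>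
      rcases hk' with rfl | rfl <;> decide
  have h24 : P.PairComm (P.D.P.reflectionPerm a (P.D.P.reflectionPerm b a))
      (P.D.P.reflectionPerm b (P.D.P.reflectionPerm a b)) := by
    refine P.commute_G ha hb hne hp hq hr hk n2 n4 (by simp) (by simp) (by decide) (by decide) ?_ ?_ p2 p4 <;>
      rcases hk' with rfl | rfl <;> decide
  refine P.planeComm_of_list ha hb hne planeList_G hp hq (rootsG a b (P.D.P.reflectionPerm b a)
    (P.D.P.reflectionPerm a (P.D.P.reflectionPerm b a)) (P.D.P.reflectionPerm a b)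
    (P.D.P.reflectionPerm b (P.D.P.reflectionPerm a b))) ?_ ?_
  · intro w hw
    simp only [List.mem_cons, List.not_mem_nil, or_false] at hw
    rcases hw with rfl | rfl | rfl | rfl | rfl | rfl <;> simp [rootsG, na, nb, n1, n2, n3, n4]
  · intro v hv w hw
    simp only [List.mem_cons, List.not_mem_nil, or_false] at hv hw
    have := hab.symm P
    have := h1a.symm P
    have := h2a.symm P
    have := h3b.symm P
    have := h21.symm P
    have := h4b.symm P
    have := h43.symm P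
    have := hb1.symm P
    have := hb2.symm P
    have := ha3.symm P
    have := ha4.symm P
    have := h13.symm P
    have := h14.symm P
    have := h23.symm P
    have := h24.symm P
    rcases hv with rfl | rfl | rfl | rfl | rfl | rfl <;> rcases hw with rfl | rfl | rfl | rfl | rfl | rfl <;>
      simp [rootsG, pairComm_self, *]

include ha hb hne hp hq in
theorem planeComm_G : P.PlaneComm a b := by
  obtain ⟨hpl, e1, e2⟩ := P.pairing_cases ha hb hne
  rw [hp] at e1
  rw [hq] at e2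
  simp only [pairList, List.mem_cons, List.not_mem_nil, or_false, Prod.mk.injEq] at hpl
  have ha' := (P.base_map a).1 ha
  have hb' := (P.base_map b).1 hb
  have hne' := P.d.injective.ne hne
  obtain ⟨n1, n2, n3, n4⟩ := P.at_G hp hq
  obtain ⟨p1, p2, p3, p4⟩ := P.pos_G ha hb hne hp hq
  have pa := Cell.simple_pos P.D.P P.D.base ha
  have pb := Cell.simple_pos P.D.P P.D.base hb
  have na := P.at_left a b
  have nb := P.at_right a b
  have hw1 : wd P.D.P [b] • a = P.D.P.reflectionPerm b a := by rw [wd_singleton, reflection_smul_idx]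
  have hw2 : wd P.D.P [a, b] • a = P.D.P.reflectionPerm a (P.D.P.reflectionPerm b a) := by
    rw [wd_cons, mul_smul, hw1, reflection_smul_idx]
  have hw3 : wd P.D.P [a] • b = P.D.P.reflectionPerm a b := by rw [wd_singleton, reflection_smul_idx]
  have hw4 : wd P.D.P [b, a] • b = P.D.P.reflectionPerm b (P.D.P.reflectionPerm a b) := by
    rw [wd_cons, mul_smul, hw3, reflection_smul_idx]
  have hl1 : ∀ x ∈ [b], x ∈ P.D.base.support := by simpa using hb
  have hl2 : ∀ x ∈ [a, b], x ∈ P.D.base.support := by simp [ha, hb]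
  have hl3 : ∀ x ∈ [a], x ∈ P.D.base.support := by simpa using ha
  have hl4 : ∀ x ∈ [b, a], x ∈ P.D.base.support := by simp [ha, hb]
  have m1 : wd P.D.P [b] • a ∈ P.combos b a := hw1.symm ▸ P.mem_combos_at nb na n1 1 1 le_rfl le_rfl (by simp) (by simp)
  have m2 : wd P.D.P [a, b] • a ∈ P.combos b a :=
    hw2.symm ▸ P.mem_combos_at nb na n2 1 2 le_rfl (by omega) (by simp) (by simp)
  have m3 : wd P.D.P [a] • b ∈ P.combos b a :=
    hw3.symm ▸ P.mem_combos_at nb na n3 1 3 le_rfl (by omega) (by simp) (by simp)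
  have m4 : wd P.D.P [b, a] • b ∈ P.combos b a :=
    hw4.symm ▸ P.mem_combos_at nb na n4 2 3 (by omega) (by omega) (by simp) (by simp)
  obtain ⟨hp', hq', hab⟩ | ⟨hp', hq', hab⟩ :
      (P.D'.P.pairing (P.d b) (P.d a) = -3 ∧ P.D'.P.pairing (P.d a) (P.d b) = -1 ∧ P.q a = P.q b) ∨
        P.D'.P.pairing (P.d b) (P.d a) = -1 ∧ P.D'.P.pairing (P.d a) (P.d b) = -3 ∧ P.q a = 3 * P.q b := by
    have := P.q_pos a
    have := P.q_pos b
    rcases hpl with ⟨h1, h2⟩ | ⟨h1, h2⟩ | ⟨h1, h2⟩ | ⟨h1, h2⟩ | ⟨h1, h2⟩ | ⟨h1, h2⟩ <;>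
      rw [h1] at e1 <;> rw [h2] at e2 <;>
      first | exact Or.inl ⟨h1, h2, by omega⟩ | exact Or.inr ⟨h1, h2, by omega⟩ | (exfalso; omega)
  · -- equal exponents
    have hk := P.qG ha hb hne hp hq (k := fun _ => 1) (r := P.q b) (by simp [hab]) (by simp) rfl rfl rfl rfl
    have num : ∀ {R : Type u} [CommRing R] (j : Spec (CommRingCat.of R) ⟶ S) (C : Type u) [CommRing C] [Algebra R C],
        (2 : C) ^ P.q b = 2 ∧ (3 : C) ^ P.q b = 3 ∧ ∀ z : C, (-z) ^ P.q b = -(z ^ P.q b) := fun {R} _ j C _ _ => by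
      have h2 := P.add_pow (j := j) b (1 : C) 1
      rw [one_pow, one_add_one_eq_two] at h2
      have h3 := P.add_pow (j := j) b (2 : C) 1
      rw [h2, one_pow, two_add_one_eq_three] at h3
      exact ⟨h2, h3, fun z => P.neg_pow' (j := j) b z⟩
    refine P.planeComm_G_of ha hb hne hp hq (P.q_pos b) hk (Or.inl rfl) ?_ ?_ ?_ ?_ ?_
      (P.commute_G ha hb hne hp hq (P.q_pos b) hk n4 nb (by simp) (by simp) (by decide) (by decide) (by decide)
        (by decide) p4 pb)
      (P.commute_G ha hb hne hp hq (P.q_pos b) hk n4 n3 (by simp) (by simp) (by decide) (by decide) (by decide)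
        (by decide) p4 p3)
    · refine P.pairComm_of_formula fun R _ j _ C _ _ I x y hx hy => ?_
      obtain ⟨-, -, hn⟩ := num j C
      refine ⟨ev j (x * y) (P.U [b] a) * ev j (x ^ 2 * y) (P.U [a, b] a) * ev j (-(x ^ 3 * y)) (P.U [a] b) *
          ev j (-(x ^ 3 * y ^ 2)) (P.U [b, a] b),
        mul_mem (mul_mem (mul_mem (P.word_mem j hl1 ha m1 (I.mul_mem_left _ hy))
          (P.word_mem j hl2 ha m2 (I.mul_mem_left _ hy)))
          (P.word_mem j hl3 hb m3 (neg_mem (I.mul_mem_left _ hy))))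
          (P.word_mem j hl4 hb m4 (neg_mem (I.mul_mem_left _ (I.pow_mem_of_mem hy 2 two_pos)))), ?_⟩
      rw [P.sys_simple ha, P.sys_simple hb, P.ev_U, P.ev_U, P.ev_U, P.ev_U, P.ev_pu, P.ev_pu]
      refine Prod.ext ?_ ?_
      · simpa [val, ← _root_.mul_assoc] using
          (formula_G j P.D P.e₁ P.he₁ P.hdual P.w P.hw ha hb hne hp hq x y).1
      · simpa [val, ← _root_.mul_assoc, mul_pow, hab, hn, ← pow_mul, mul_comm 2, mul_comm 3] using
          (formula_G j P.D' P.e₁ P.he₁ P.hdual' P.w' P.hw' ha' hb' hne' hp' hq' (x ^ P.q a) (y ^ P.q b)).1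
    · refine P.pairComm_U ha hl1 ha hw1 fun R _ j _ C _ _ I x y hx hy => ?_
      obtain ⟨h2, h3, hn⟩ := num j C
      refine ⟨ev j (2 * x * y) (P.U [a, b] a) * ev j (-(3 * x ^ 2 * y)) (P.U [a] b) *
          ev j (-(3 * x * y ^ 2)) (P.U [b, a] b),
        mul_mem (mul_mem
          (P.word_mem j hl2 ha (hw2.symm ▸ P.mem_combos_at n1 na n2 1 1 le_rfl le_rfl (by simp) (by simp))
            (I.mul_mem_left _ hy))
          (P.word_mem j hl3 hb (hw3.symm ▸ P.mem_combos_at n1 na n3 1 2 le_rfl (by omega) (by simp) (by simp))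
            (neg_mem (I.mul_mem_left _ hy))))
          (P.word_mem j hl4 hb (hw4.symm ▸ P.mem_combos_at n1 na n4 2 1 (by omega) le_rfl (by simp) (by simp))
            (neg_mem (I.mul_mem_left _ (I.pow_mem_of_mem hy 2 two_pos)))), ?_⟩
      rw [P.ev_U, P.ev_U, P.ev_U, P.ev_U, P.ev_pu]
      refine Prod.ext ?_ ?_
      · simpa [val, ← _root_.mul_assoc] using
          (formula_G j P.D P.e₁ P.he₁ P.hdual P.w P.hw ha hb hne hp hq x y).2.1
      · simpa [val, ← _root_.mul_assoc, mul_pow, hab, hn, h2, h3, ← pow_mul, mul_comm 2] using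
          (formula_G j P.D' P.e₁ P.he₁ P.hdual' P.w' P.hw' ha' hb' hne' hp' hq' (x ^ P.q a) (y ^ P.q a)).2.1
    · refine P.pairComm_U ha hl2 ha hw2 fun R _ j _ C _ _ I x y hx hy => ?_
      obtain ⟨h2, h3, hn⟩ := num j C
      refine ⟨ev j (-(3 * x * y)) (P.U [a] b),
        P.word_mem j hl3 hb (hw3.symm ▸ P.mem_combos_at n2 na n3 1 1 le_rfl le_rfl (by simp) (by simp))
          (neg_mem (I.mul_mem_left _ hy)), ?_⟩
      rw [P.ev_U, P.ev_U, P.ev_pu]
      refine Prod.ext ?_ ?_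
      · simpa [val] using (formula_G j P.D P.e₁ P.he₁ P.hdual P.w P.hw ha hb hne hp hq x y).2.2.1
      · simpa [val, mul_pow, hab, hn, h3] using
          (formula_G j P.D' P.e₁ P.he₁ P.hdual' P.w' P.hw' ha' hb' hne' hp' hq' (x ^ P.q a) (y ^ P.q a)).2.2.1
    · refine P.pairComm_U hb hl3 hb hw3 fun R _ j _ C _ _ I x y hx hy => ?_
      obtain ⟨h2, h3, hn⟩ := num j C
      refine ⟨ev j (-(x * y)) (P.U [b, a] b),
        P.word_mem j hl4 hb (hw4.symm ▸ P.mem_combos_at n3 nb n4 1 1 le_rfl le_rfl (by simp) (by simp))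
          (neg_mem (I.mul_mem_left _ hy)), ?_⟩
      rw [P.ev_U, P.ev_U, P.ev_pu]
      refine Prod.ext ?_ ?_
      · simpa [val] using (formula_G j P.D P.e₁ P.he₁ P.hdual P.w P.hw ha hb hne hp hq x y).2.2.2.1
      · simpa [val, mul_pow, hn] using
          (formula_G j P.D' P.e₁ P.he₁ P.hdual' P.w' P.hw' ha' hb' hne' hp' hq' (x ^ P.q b) (y ^ P.q b)).2.2.2.1
    · refine P.pairComm_of_formula fun R _ j _ C _ _ I x y hx hy => ?_
      obtain ⟨x', hx', hxx⟩ := P.exists_word_eq j (I := I) hl1 ha hw1 hx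
      obtain ⟨y', hy', hyy⟩ := P.exists_word_eq j (I := I) hl2 ha hw2 hy
      obtain ⟨h2, h3, hn⟩ := num j C
      refine ⟨ev j (-(3 * x' * y')) (P.U [b, a] b),
        P.word_mem j hl4 hb (hw4.symm ▸ P.mem_combos_at n2 n1 n4 1 1 le_rfl le_rfl (by simp) (by simp))
          (neg_mem (I.mul_mem_left _ hy')), ?_⟩
      rw [hxx, hyy, P.ev_U, P.ev_U, P.ev_U]
      refine Prod.ext ?_ ?_
      · simpa [val] using (formula_G j P.D P.e₁ P.he₁ P.hdual P.w P.hw ha hb hne hp hq x' y').2.2.2.2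
      · simpa [val, mul_pow, hab, hn, h3] using
          (formula_G j P.D' P.e₁ P.he₁ P.hdual' P.w' P.hw' ha' hb' hne' hp' hq' (x' ^ P.q a) (y' ^ P.q a)).2.2.2.2
  · -- exceptional exponents
    have hk := P.qG ha hb hne hp hq (k := kG) (r := P.q b) (by simp [hab, kG]) (by simp [kG]) rfl rfl rfl rfl
    have num : ∀ {R : Type u} [CommRing R] (j : Spec (CommRingCat.of R) ⟶ S) (C : Type u) [CommRing C] [Algebra R C],
        (3 : C) = 0 ∧ (2 : C) ^ P.q b = 2 := fun {R} _ j C _ _ => by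
      refine ⟨?_, ?_⟩
      · let T : Polynomial C := Polynomial.X
        have hb1 := P.add_pow (j := j) b (1 : Polynomial C) T
        have ha1 := P.add_pow (j := j) a (1 : Polynomial C) T
        rw [one_pow] at hb1 ha1
        rw [hab, mul_comm 3 (P.q b), pow_mul, pow_mul, hb1] at ha1
        have e : Polynomial.C (3 : C) * (Polynomial.X ^ P.q b + Polynomial.X ^ (2 * P.q b)) = 0 := by
          rw [map_ofNat, mul_comm 2 (P.q b), pow_mul]
          linear_combination ha1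
        have e' := congrArg (fun f : Polynomial C => f.coeff (P.q b)) e
        have := P.q_pos b
        simpa [Polynomial.coeff_X_pow, show ¬ (P.q b = 2 * P.q b) by omega] using e'
      · have h2 := P.add_pow (j := j) b (1 : C) 1
        rwa [one_pow, one_add_one_eq_two] at h2
    have three0 : ∀ {R : Type u} [CommRing R] (j : Spec (CommRingCat.of R) ⟶ S) (C : Type u) [CommRing C] [Algebra R C],
        (3 : C) = 0 := fun j C _ _ => (num j C).1
    have F := fun {R : Type u} [CommRing R] (j : Spec (CommRingCat.of R) ⟶ S) [IsOpenImmersion j] (C : Type u)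
      [CommRing C] [Algebra R C] (x y : C) =>
        formula_G j P.D P.e₁ P.he₁ P.hdual P.w P.hw ha hb hne hp hq x y
    have F' := fun {R : Type u} [CommRing R] (j : Spec (CommRingCat.of R) ⟶ S) [IsOpenImmersion j] (C : Type u)
      [CommRing C] [Algebra R C] (x y : C) =>
        formula_G j P.D' P.e₁ P.he₁ P.hdual' P.w' P.hw' hb' ha' hne'.symm hq' hp' x y
    refine P.planeComm_G_of ha hb hne hp hq (P.q_pos b) hk (Or.inr rfl) ?_ ?_ ?_ ?_ ?_ ?_ ?_
    · refine P.pairComm_of_formula fun R _ j _ C _ _ I x y hx hy => ?_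
      refine ⟨ev j (x * y) (P.U [b] a) * ev j (x ^ 2 * y) (P.U [a, b] a) * ev j (-(x ^ 3 * y)) (P.U [a] b) *
          ev j (-(x ^ 3 * y ^ 2)) (P.U [b, a] b),
        mul_mem (mul_mem (mul_mem (P.word_mem j hl1 ha m1 (I.mul_mem_left _ hy))
          (P.word_mem j hl2 ha m2 (I.mul_mem_left _ hy)))
          (P.word_mem j hl3 hb m3 (neg_mem (I.mul_mem_left _ hy))))
          (P.word_mem j hl4 hb m4 (neg_mem (I.mul_mem_left _ (I.pow_mem_of_mem hy 2 two_pos)))), ?_⟩
      rw [P.sys_simple ha, P.sys_simple hb]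
      refine Prod.ext ?_ ?_
      · rw [P.ev_U, P.ev_U, P.ev_U, P.ev_U, P.ev_pu, P.ev_pu]
        simpa [val, ← _root_.mul_assoc] using (F j C x y).1
      · -- the two commutations in the target
        obtain ⟨t0, t1⟩ := P.commute_target ha hb hne hp hq planeList_G _ _ (P.q_pos b) hk n2 n1 (by simp) (by simp)
          (by decide) (by decide) p2 p1
        obtain ⟨z₁, hz₁⟩ := P.exists_sys_eq j hl1 ha hw1 (x * y)
        obtain ⟨z₂, hz₂⟩ := P.exists_sys_eq j hl2 ha hw2 (x ^ 2 * y)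
        have c31 : (ev j (x ^ 2 * y) (P.U [a, b] a)).2 * (ev j (x * y) (P.U [b] a)).2 =
            (ev j (x * y) (P.U [b] a)).2 * (ev j (x ^ 2 * y) (P.U [a, b] a)).2 := by
          rw [hz₁, hz₂]; exact P.commute_snd t0 t1 j z₁ z₂
        haveI := (P.D'.rootHom (P.d a)).1
        haveI := (P.D'.rootHom (P.d b)).1
        have c12 := (F' j C ((-(x ^ 3 * y)) ^ P.q b) ((-(x ^ 3 * y ^ 2)) ^ P.q b)).2.2.2.2
        rw [three0 j C, zero_mul, zero_mul, neg_zero, cj_zero, _root_.mul_one] at c12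
        have hf := (F' j C (y ^ P.q b) (x ^ P.q a)).1
        simp only [P.ev_U] at c31
        simp only [Prod.snd_mul, P.ev_U, P.ev_pu, List.map_cons, List.map_nil, val, List.prod_cons, List.prod_nil,
          _root_.mul_one] at c31 ⊢
        have hn : ∀ (c : P.D.idx) (z : C), (-z) ^ P.q c = -(z ^ P.q c) := fun c z => P.neg_pow' (j := j) c z
        have g1 : (x * y) ^ P.q a = (y ^ P.q b) ^ 3 * x ^ P.q a := by rw [hab]; ring
        have g2 : (x ^ 2 * y) ^ P.q a = (y ^ P.q b) ^ 3 * (x ^ P.q a) ^ 2 := by rw [hab]; ring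
        have g3 : (-(x ^ 3 * y)) ^ P.q b = -(y ^ P.q b * x ^ P.q a) := by rw [hn, hab]; ring
        have g4 : (-(x ^ 3 * y ^ 2)) ^ P.q b = -((y ^ P.q b) ^ 2 * x ^ P.q a) := by rw [hn, hab]; ring
        rw [g1, g2] at c31
        rw [g3, g4] at c12 ⊢
        rw [g1, g2, hf]
        simp only [cj_neg] at c12 c31 ⊢
        generalize (gp j (y ^ P.q b) ≫ P.D'.u (P.d b)) * (gp j (x ^ P.q a) ≫ P.D'.u (P.d a)) = T
        generalize cj j (P.w' (P.d a)) (P.D'.u (P.d b)) (y ^ P.q b * x ^ P.q a) = f₁ at c12 ⊢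
        generalize cj j (P.w' (P.d b) * P.w' (P.d a)) (P.D'.u (P.d b)) ((y ^ P.q b) ^ 2 * x ^ P.q a) = f₂ at c12 ⊢
        generalize cj j (P.w' (P.d b)) (P.D'.u (P.d a)) ((y ^ P.q b) ^ 3 * x ^ P.q a) = f₃ at c31 ⊢
        generalize cj j (P.w' (P.d a) * P.w' (P.d b)) (P.D'.u (P.d a)) ((y ^ P.q b) ^ 3 * (x ^ P.q a) ^ 2) = f₄ at c31 ⊢
        have d1 : f₁ * f₂ * f₁⁻¹ * f₂⁻¹ = 1 := by
          have h := congrArg (·⁻¹) c12
          simp only [mul_inv_rev, inv_inv] at h
          rw [h]; group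
        have d2 : f₃⁻¹ * f₄⁻¹ * f₃ * f₄ = 1 := by
          calc _ = f₃⁻¹ * f₄⁻¹ * (f₃ * f₄) := by group
            _ = f₃⁻¹ * f₄⁻¹ * (f₄ * f₃) := by rw [c31]
            _ = 1 := by group
        calc T = T * ((f₁ * f₂) * (f₃⁻¹ * f₄⁻¹ * f₃ * f₄) * (f₁⁻¹ * f₂⁻¹)) := by
              rw [d2, _root_.mul_one, ← _root_.mul_assoc (f₁ * f₂), d1, _root_.mul_one]
          _ = _ := by group
    · refine P.pairComm_U ha hl1 ha hw1 fun R _ j _ C _ _ I x y hx hy => ?_
      refine ⟨ev j (2 * x * y) (P.U [a, b] a),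
        P.word_mem j hl2 ha (hw2.symm ▸ P.mem_combos_at n1 na n2 1 1 le_rfl le_rfl (by simp) (by simp))
          (I.mul_mem_left _ hy), ?_⟩
      rw [P.ev_U, P.ev_U, P.ev_pu]
      obtain ⟨h3, h2⟩ := num j C
      haveI := (P.D.rootHom b).1
      refine Prod.ext ?_ ?_
      · have hf := (F j C x y).2.1
        simp only [h3, zero_mul, neg_zero, cj_zero, _root_.mul_one] at hf
        simpa [val] using hf
      · have e : -(x ^ P.q a * y ^ P.q a) = (2 * x * y) ^ P.q a := by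
          rw [mul_pow, mul_pow, hab, mul_comm 3 (P.q b), pow_mul (2 : C), h2]
          linear_combination (-(3 : C) * (x ^ (P.q b * 3) * y ^ (P.q b * 3))) * h3
        have hf := (F' j C (x ^ P.q a) (y ^ P.q a)).2.2.2.1
        rw [e] at hf
        simpa [val] using hf
    · refine P.pairComm_of_formula fun R _ j _ C _ _ I x y hx hy => ?_
      obtain ⟨y', hy', hyy⟩ := P.exists_word_eq j (I := I) hl2 ha hw2 hy
      refine ⟨1, one_mem _, ?_⟩
      rw [_root_.mul_one]
      refine Prod.ext ?_ ?_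
      · haveI := (P.D.rootHom b).1
        have hf := (F j C x y').2.2.1
        simp only [three0 j C, zero_mul, neg_zero, cj_zero, _root_.mul_one] at hf
        rw [hyy, P.sys_simple ha, P.ev_U, P.ev_pu]
        simpa [val] using hf
      · obtain ⟨t0, t1⟩ := P.commute_target ha hb hne hp hq planeList_G _ _ (P.q_pos b) hk n2 na (by simp) (by simp)
          (by decide) (by decide) p2 pa
        exact P.commute_snd t0 t1 j x y
    · refine P.pairComm_U hb hl3 hb hw3 fun R _ j _ C _ _ I x y hx hy => ?_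
      refine ⟨ev j (-(x * y)) (P.U [b, a] b),
        P.word_mem j hl4 hb (hw4.symm ▸ P.mem_combos_at n3 nb n4 1 1 le_rfl le_rfl (by simp) (by simp))
          (neg_mem (I.mul_mem_left _ hy)), ?_⟩
      rw [P.ev_U, P.ev_U, P.ev_pu]
      refine Prod.ext ?_ ?_
      · simpa [val] using (F j C x y).2.2.2.1
      · haveI := (P.D'.rootHom (P.d a)).1
        have e : (2 : C) * x ^ P.q b * y ^ P.q b = -(x * y) ^ P.q b := by
          linear_combination (x ^ P.q b * y ^ P.q b) * three0 j C + mul_pow x y (P.q b)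
        have hf := (F' j C (x ^ P.q b) (y ^ P.q b)).2.1
        rw [e, ← P.neg_pow' (j := j) b] at hf
        simp only [three0 j C, zero_mul, neg_zero, cj_zero, _root_.mul_one] at hf
        simpa [val] using hf
    · refine P.pairComm_of_formula fun R _ j _ C _ _ I x y hx hy => ?_
      obtain ⟨x', hx', hxx⟩ := P.exists_word_eq j (I := I) hl1 ha hw1 hx
      obtain ⟨y', hy', hyy⟩ := P.exists_word_eq j (I := I) hl2 ha hw2 hy
      refine ⟨1, one_mem _, ?_⟩
      rw [_root_.mul_one]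
      refine Prod.ext ?_ ?_
      · haveI := (P.D.rootHom b).1
        have hf := (F j C x' y').2.2.2.2
        simp only [three0 j C, zero_mul, neg_zero, cj_zero, _root_.mul_one] at hf
        rw [hxx, hyy, P.ev_U, P.ev_U]
        simpa [val] using hf
      · obtain ⟨t0, t1⟩ := P.commute_target ha hb hne hp hq planeList_G _ _ (P.q_pos b) hk n2 n1 (by simp) (by simp)
          (by decide) (by decide) p2 p1
        exact P.commute_snd t0 t1 j x y
    · refine P.pairComm_of_formula fun R _ j _ C _ _ I x y hx hy => ?_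
      obtain ⟨y', hy', hyy⟩ := P.exists_word_eq j (I := I) hl4 hb hw4 hy
      refine ⟨1, one_mem _, ?_⟩
      rw [_root_.mul_one]
      refine Prod.ext ?_ ?_
      · obtain ⟨s0, s1⟩ := P.commute_source ha hb hne hp hq planeList_G n4 nb (by simp) (by simp) (by decide) (by decide)
        exact P.commute_fst s0 s1 j x y
      · haveI := (P.D'.rootHom (P.d a)).1
        have hf := (F' j C (x ^ P.q b) (y' ^ P.q b)).2.2.1
        simp only [three0 j C, zero_mul, neg_zero, cj_zero, _root_.mul_one] at hf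
        rw [hyy, P.sys_simple hb, P.ev_U, P.ev_pu]
        simpa [val] using hf
    · refine P.pairComm_of_formula fun R _ j _ C _ _ I x y hx hy => ?_
      obtain ⟨x', hx', hxx⟩ := P.exists_word_eq j (I := I) hl3 hb hw3 hx
      obtain ⟨y', hy', hyy⟩ := P.exists_word_eq j (I := I) hl4 hb hw4 hy
      refine ⟨1, one_mem _, ?_⟩
      rw [_root_.mul_one]
      refine Prod.ext ?_ ?_
      · obtain ⟨s0, s1⟩ := P.commute_source ha hb hne hp hq planeList_G n4 n3 (by simp) (by simp) (by decide) (by decide)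
        exact P.commute_fst s0 s1 j x y
      · haveI := (P.D'.rootHom (P.d a)).1
        have hf := (F' j C (x' ^ P.q b) (y' ^ P.q b)).2.2.2.2
        simp only [three0 j C, zero_mul, neg_zero, cj_zero, _root_.mul_one] at hf
        rw [hxx, hyy, P.ev_U, P.ev_U]
        simpa [val] using hf

end Dat

end Groth.L14.Iso
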