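import Groth.Agent.L14.Iso.RankTwoB
import Groth.Agent.L14.Iso.RankTwoG
import Groth.Agent.L14.Chev.Cell.Points
import Mathlib.Data.List.Sort

/-!
The pairs of root points of the positive roots generate a group of ordered products, which injects into the source.
-/

set_option autoImplicit false
universe u

open CategoryTheory CategoryTheory.Limits AlgebraicGeometry MonoidalCategory CartesianMonoidalCategory MonObj
open Groth.L14.RankOne Groth.L25 Groth.L14.Chart Groth.L14.Chev Groth.L14.Chev.Cell Groth.L14.Coroot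
open Groth.L14.Chev.Words
open Groth.L24.RootD

set_option backward.isDefEq.respectTransparency.types false
set_option linter.style.haveILetI false
set_option linter.unusedSectionVars false
set_option maxHeartbeats 400000

noncomputable section

namespace Groth.L14.Iso

/-- Collecting: products over a list exhaust the group generated by its one parameter subgroups when commutators
move to the right. -/
theorem collect {Γ : Type*} [Group Γ] {A : Type*} [AddCommGroup A] {κ : Type*} (e : κ → A → Γ)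
    (he : ∀ c x y, e c (x + y) = e c x * e c y) (I : AddSubgroup A) :
    ∀ L : List κ, L.Nodup →
      (∀ (c : κ) (L₁ L₂ : List κ), L = L₁ ++ c :: L₂ → ∀ d ∈ L₂, ∀ x ∈ I, ∀ y ∈ I,
        e c x * e d y * (e c x)⁻¹ * (e d y)⁻¹ ∈ Subgroup.closure {g | ∃ f ∈ L₂, ∃ r ∈ I, g = e f r}) →
      ∀ g ∈ Subgroup.closure {g | ∃ f ∈ L, ∃ r ∈ I, g = e f r},
        ∃ x : κ → A, (∀ c, x c ∈ I) ∧ (L.map fun c => e c (x c)).prod = g := by
  classical
  intro L
  induction L with
  | nil =>
    intro _ _ g hg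
    simp only [List.not_mem_nil, false_and, exists_false, Set.setOf_false, Subgroup.closure_empty,
      Subgroup.mem_bot] at hg
    exact ⟨fun _ => 0, fun _ => zero_mem _, by simp [hg]⟩
  | cons c L ih =>
    intro hnd h g hg
    obtain ⟨hcL, hnd'⟩ := List.nodup_cons.1 hnd
    have ih' := ih hnd' fun d L₁ L₂ hL => h d (c :: L₁) L₂ (by rw [hL, List.cons_append])
    let N := Subgroup.closure {g | ∃ f ∈ L, ∃ r ∈ I, g = e f r}
    have hnorm : ∀ x ∈ I, ∀ n ∈ N, e c x * n * (e c x)⁻¹ ∈ N := by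
      intro x hx n hn
      induction hn using Subgroup.closure_induction with
      | mem a ha =>
        obtain ⟨f, hf, r, hr, rfl⟩ := ha
        have := mul_mem (h c [] L rfl f hf x hx r hr) (Subgroup.subset_closure (k := {g | ∃ f ∈ L, ∃ r ∈ I, g = e f r})
          ⟨f, hf, r, hr, rfl⟩)
        rwa [inv_mul_cancel_right] at this
      | one => simp
      | mul a b _ _ ha hb => simpa [_root_.mul_assoc] using mul_mem ha hb
      | inv a _ ha => simpa [_root_.mul_assoc] using inv_mem ha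
    have e0 : e c 0 = 1 := by
      have := he c 0 0
      rw [add_zero] at this
      exact right_eq_mul.1 this
    have eneg : ∀ x, e c (-x) = (e c x)⁻¹ := fun x =>
      eq_inv_of_mul_eq_one_left (by rw [← he, neg_add_cancel, e0])
    have hstruct : ∃ x ∈ I, ∃ n ∈ N, g = e c x * n := by
      induction hg using Subgroup.closure_induction with
      | mem a ha =>
        obtain ⟨f, hf, r, hr, rfl⟩ := ha
        rcases List.mem_cons.1 hf with rfl | hf
        · exact ⟨r, hr, 1, one_mem _, (_root_.mul_one _).symm⟩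
        · exact ⟨0, zero_mem _, _, Subgroup.subset_closure ⟨f, hf, r, hr, rfl⟩, by rw [e0, _root_.one_mul]⟩
      | one => exact ⟨0, zero_mem _, 1, one_mem _, by rw [e0, _root_.one_mul]⟩
      | mul a b _ _ ha hb =>
        obtain ⟨x, hx, n, hn, rfl⟩ := ha
        obtain ⟨y, hy, m, hm, rfl⟩ := hb
        refine ⟨x + y, add_mem hx hy, e c (-y) * n * (e c (-y))⁻¹ * m, mul_mem (hnorm _ (neg_mem hy) n hn) hm, ?_⟩
        rw [he, eneg]
        group
      | inv a _ ha =>
        obtain ⟨x, hx, n, hn, rfl⟩ := ha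
        refine ⟨-x, neg_mem hx, e c x * n⁻¹ * (e c x)⁻¹, hnorm x hx _ (inv_mem hn), ?_⟩
        rw [eneg]
        group
    obtain ⟨x, hx, n, hn, rfl⟩ := hstruct
    obtain ⟨y, hy, hyn⟩ := ih' n hn
    refine ⟨Function.update y c x, fun d => ?_, ?_⟩
    · by_cases hd : d = c
      · subst hd; rwa [Function.update_self]
      · rw [Function.update_of_ne hd]; exact hy d
    · rw [List.map_cons, List.prod_cons, Function.update_self, ← hyn]
      congr 2
      exact List.map_congr_left fun d hd => by rw [Function.update_of_ne (show d ≠ c by rintro rfl; exact hcL hd)]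

variable {S : Scheme.{u}} {G G' : Over S} [GrpObj G] [GrpObj G'] (P : Dat G G')

namespace Dat

/-- The splitting of the source with the root homomorphisms of the system. -/
abbrev src : Red.SplitRed G := { P.D.toSplitRed with u := fun c => (P.sys c).1, rootHom := P.rootHom_sys₁ }

/-- Every pair of distinct simple roots spans a plane with the commutation property. -/
theorem planeComm_simple {a b : P.D.idx} (ha : a ∈ P.D.base.support) (hb : b ∈ P.D.base.support) (hne : a ≠ b) :
    P.PlaneComm a b := by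
  have h := pairs_base ha hb hne
  simp only [pairList, List.mem_cons, List.not_mem_nil, or_false, Prod.mk.injEq] at h
  rcases h with ⟨h1, h2⟩ | ⟨h1, h2⟩ | ⟨h1, h2⟩ | ⟨h1, h2⟩ | ⟨h1, h2⟩ | ⟨h1, h2⟩
  · exact P.planeComm_zero ha hb hne h1 h2
  · exact P.planeComm_A ha hb hne h1 h2
  · exact P.planeComm_swap (P.planeComm_B hb ha hne.symm h2 h1)
  · exact P.planeComm_B ha hb hne h1 h2
  · exact P.planeComm_swap (P.planeComm_G hb ha hne.symm h2 h1)
  · exact P.planeComm_G ha hb hne h1 h2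

theorem pairComm_pos {c e : P.D.idx} (hc : c ∈ RedSub.posRoots P.D.P P.D.base)
    (he : e ∈ RedSub.posRoots P.D.P P.D.base) : P.PairComm c e := by
  by_cases hne : c = e
  · subst hne; exact P.pairComm_self c
  obtain ⟨l, a, b, c', e', hl, ha, hb, hab, rfl, rfl, -, hc', he', ⟨x, y, hxy⟩, ⟨x', y', hxy'⟩⟩ :=
    exists_word_plane P.D hc he hne
  exact (P.planeComm_simple ha hb hab c' e' hc' he' ⟨(x, y), hxy⟩ ⟨(x', y'), hxy'⟩).word P hl

/-- A word carries the positive roots onto the negative ones. -/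
theorem exists_word_neg : ∃ l : List P.D.idx, (∀ x ∈ l, x ∈ P.D.base.support) ∧
    ∀ c ∈ RedSub.negRoots P.D.P P.D.base, ∃ c' ∈ RedSub.posRoots P.D.P P.D.base, wd P.D.P l • c' = c := by
  haveI : Finite P.D.idx := Finite.of_fintype _
  haveI := RootCombo.isCrystallographic P.D.P
  have hΔ : IsSimple P.D.P (P.D.base.support : Set P.D.idx) := IsSimple.of_base P.D.base
  let Sp : Set P.D.idx := _root_.RootD.posOf P.D.P (P.D.base.support : Set P.D.idx)
  have hS : _root_.RootD.IsPosSys P.D.P Sp := hΔ.isPosSys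
  have hnn : ∀ i, P.D.P.reflectionPerm (P.D.P.reflectionPerm i i) (P.D.P.reflectionPerm i i) = i := fun i =>
    P.D.P.root.injective (by rw [root_neg', root_neg', neg_neg])
  let T : Set P.D.idx := {i | P.D.P.reflectionPerm i i ∈ Sp}
  have hT : _root_.RootD.IsPosSys P.D.P T := by
    refine isPosSys_of_closed ?_ ?_ ?_
    · intro i h h'
      exact hS.disjoint h h'
    · intro i
      rcases hS.cover i with h | h
      · right; show P.D.P.reflectionPerm _ _ ∈ Sp; rwa [hnn]
      · left; exact h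
    · intro i j k hi hj hk
      exact isClosedSub_of_isPosSys hS hi hj (by rw [root_neg', root_neg', root_neg', hk, neg_add])
  obtain ⟨g, hg, hgS⟩ := exists_image_eq hS hT
  obtain ⟨l, hlm, hlg⟩ := exists_minWord_simples hS hg
  refine ⟨l, fun x hx => ?_, fun c hc => ?_⟩
  · have := hlm.1 x hx
    rwa [hΔ.simples_eq] at this
  · have hcT : c ∈ T := by
      show P.D.P.root _ ∈ AddSubmonoid.closure _
      rw [root_neg']
      exact hc
    rw [← hgS] at hcT
    obtain ⟨c', hc', h⟩ := hcT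
    exact ⟨c', hc', by rw [hlg]; exact h⟩

theorem pairComm_neg {c e : P.D.idx} (hc : c ∈ RedSub.negRoots P.D.P P.D.base)
    (he : e ∈ RedSub.negRoots P.D.P P.D.base) : P.PairComm c e := by
  obtain ⟨l, hl, h⟩ := P.exists_word_neg
  obtain ⟨c', hc', rfl⟩ := h c hc
  obtain ⟨e', he', rfl⟩ := h e he
  exact (P.pairComm_pos hc' he').word P hl

section Pts

variable {R : Type u} [CommRing R] (j : Spec (CommRingCat.of R) ⟶ S) {C : Type u} [CommRing C] [Algebra R C]

/-- Ordered products of pairs of root points. -/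
def prod2 (l : List P.D.idx) (x : P.D.idx → C) : (Sp j C ⟶ G) × (Sp j C ⟶ G') :=
  (l.map fun c => ev j (x c) (P.sys c)).prod

theorem prod2_mem {I : Ideal C} {Ψ : Set P.D.idx} {l : List P.D.idx} (hl : ∀ c ∈ l, c ∈ Ψ) {x : P.D.idx → C}
    (hx : ∀ c ∈ l, x c ∈ I) : P.prod2 j l x ∈ P.gen2 j I Ψ :=
  list_prod_mem fun g hg => by
    obtain ⟨c, hc, rfl⟩ := List.mem_map.1 hg
    exact P.ev_mem j (hl c hc) (hx c hc)

theorem prod2_fst (l : List P.D.idx) (x : P.D.idx → C) :
    (P.prod2 j l x).1 = rootProd j (fun c => (P.sys c).1) l x := by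
  induction l with
  | nil => rfl
  | cons c l ih => simp only [prod2, rootProd, List.map_cons, List.prod_cons, Prod.fst_mul] at ih ⊢; rw [ih]; rfl

theorem gen2_mono' {I J : Ideal C} (h : I ≤ J) {Ψ : Set P.D.idx} : P.gen2 j I Ψ ≤ P.gen2 j J Ψ :=
  Subgroup.closure_mono fun _ ⟨c, hc, r, hr, e⟩ => ⟨c, hc, r, h hr, e⟩

variable [IsOpenImmersion j]

/-- A set of roots which is positive for a functional and has commutation formulas. -/
structure Good (Ψ : Set P.D.idx) : Prop where
  lam : ∃ mu : P.D.M →+ ℤ, ∀ c ∈ Ψ, 0 < mu (P.D.P.root c)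
  closed : ∀ a b c : P.D.idx, a ∈ Ψ → b ∈ Ψ → P.D.P.root a + P.D.P.root b = P.D.P.root c → c ∈ Ψ
  comm : ∀ c ∈ Ψ, ∀ e ∈ Ψ, P.PairComm c e

theorem good_pos : P.Good (RedSub.posRoots P.D.P P.D.base) := by
  haveI : Finite P.D.idx := Finite.of_fintype _
  obtain ⟨lam, hl⟩ := hasLam (D := P.D.toSplitRed) P.D.base
  exact ⟨⟨lam, fun c hc => (hl c).1 hc⟩, closed_posRoots (D := P.D.toSplitRed) P.D.base,
    fun c hc e he => P.pairComm_pos hc he⟩

theorem good_neg : P.Good (RedSub.negRoots P.D.P P.D.base) := by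
  haveI : Finite P.D.idx := Finite.of_fintype _
  obtain ⟨lam, hl⟩ := hasLam (D := P.D.toSplitRed) P.D.base
  exact ⟨⟨-lam, fun c hc => by simpa using (hl c).2 hc⟩, closed_negRoots (D := P.D.toSplitRed) P.D.base,
    fun c hc e he => P.pairComm_neg hc he⟩

theorem exists_sorted {Ψ : Set P.D.idx} (hΨ : P.Good Ψ) :
    ∃ L : List P.D.idx, L.Nodup ∧ (∀ c, c ∈ L ↔ c ∈ Ψ) ∧
      ∀ (I : Ideal C) (g : (Sp j C ⟶ G) × (Sp j C ⟶ G')), g ∈ P.gen2 j I Ψ →
        ∃ x : P.D.idx → C, (∀ c, x c ∈ I) ∧ P.prod2 j L x = g := by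
  classical
  haveI : Finite P.D.idx := Finite.of_fintype _
  obtain ⟨⟨mu, hmu⟩, hcl, hcomm⟩ := hΨ
  let r : P.D.idx → P.D.idx → Bool := fun a b => decide (mu (P.D.P.root a) ≤ mu (P.D.P.root b))
  let L₀ := (Finset.univ.filter fun c => c ∈ Ψ).toList
  let L := L₀.mergeSort r
  have hperm : L.Perm L₀ := List.mergeSort_perm _ _
  have hnd : L.Nodup := hperm.nodup_iff.2 (Finset.nodup_toList _)
  have hmem : ∀ c, c ∈ L ↔ c ∈ Ψ := fun c => by rw [hperm.mem_iff]; simp [L₀]
  have hpw : L.Pairwise fun a b => mu (P.D.P.root a) ≤ mu (P.D.P.root b) := by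
    have := List.pairwise_mergeSort (le := r)
      (fun a b c h1 h2 => by simp only [r, decide_eq_true_eq] at h1 h2 ⊢; omega)
      (fun a b => by simp only [r, Bool.or_eq_true, decide_eq_true_eq]; omega) L₀
    exact this.imp fun h => by simpa [r] using h
  refine ⟨L, hnd, hmem, fun I g hg => ?_⟩
  refine collect (Γ := (Sp j C ⟶ G) × (Sp j C ⟶ G')) (A := C) (fun c x => ev j x (P.sys c))
    (fun c x y => P.ev_sys_add j c x y) I.toAddSubgroup L hnd ?_ g ?_
  · intro c L₁ L₂ hL d hd x hx y hy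
    have hcΨ : c ∈ Ψ := (hmem c).1 (by rw [hL]; simp)
    have hdΨ : d ∈ Ψ := (hmem d).1 (by rw [hL]; simp [hd])
    refine Subgroup.closure_mono ?_ (hcomm c hcΨ d hdΨ R j C I x y hx hy)
    rintro _ ⟨f, ⟨i, k, hi, hk, hf⟩, r, hr, rfl⟩
    refine ⟨f, ?_, r, hr, rfl⟩
    have hfΨ : f ∈ Ψ := mem_of_combo hcl hcΨ hdΨ hf
    have hf' := congrArg mu hf
    rw [map_add, map_nsmul, map_nsmul, nsmul_eq_mul, nsmul_eq_mul] at hf'
    have h1 := le_mul_of_one_le_left (hmu c hcΨ).le (show (1 : ℤ) ≤ i by exact_mod_cast hi)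
    have h2 := le_mul_of_one_le_left (hmu d hdΨ).le (show (1 : ℤ) ≤ k by exact_mod_cast hk)
    have := hmu d hdΨ
    have hfL : f ∈ L₁ ++ c :: L₂ := hL ▸ (hmem f).2 hfΨ
    rcases List.mem_append.1 hfL with h | h
    · have := (List.pairwise_append.1 (hL ▸ hpw)).2.2 f h c List.mem_cons_self
      omega
    · rcases List.mem_cons.1 h with rfl | h
      · omega
      · exact h
  · refine Subgroup.closure_mono ?_ hg
    rintro _ ⟨c, hc, r, hr, rfl⟩
    exact ⟨c, (hmem c).2 hc, r, hr, rfl⟩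

/-- A pair in the group of a good set is determined by its source part. -/
theorem gen2_ext {Ψ : Set P.D.idx} (hΨ : P.Good Ψ) {g g' : (Sp j C ⟶ G) × (Sp j C ⟶ G')}
    (hg : g ∈ P.gen2 j ⊤ Ψ) (hg' : g' ∈ P.gen2 j ⊤ Ψ) (h : g.1 = g'.1) : g = g' := by
  obtain ⟨L, hnd, hmem, hL⟩ := P.exists_sorted j hΨ (C := C)
  obtain ⟨mu, hmu⟩ := hΨ.lam
  obtain ⟨x, -, rfl⟩ := hL ⊤ g hg
  obtain ⟨y, -, rfl⟩ := hL ⊤ g' hg'
  rw [P.prod2_fst, P.prod2_fst] at h
  have := rootProd_injective_of_pos (D := P.D.toSplitRed) P.rootHom_sys₁ (mu := mu) hnd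
    (fun c hc => hmu c ((hmem c).1 hc)) h
  unfold prod2
  exact congrArg List.prod (List.map_congr_left fun c hc => by rw [this c hc])

/-- A pair in the group of a good set is an ordered product in any order. -/
theorem exists_coords2 {Ψ : Set P.D.idx} (hΨ : P.Good Ψ) {I : Ideal C} {l : List P.D.idx} (hnd : l.Nodup)
    (hl : ∀ c, c ∈ l ↔ c ∈ Ψ) {g : (Sp j C ⟶ G) × (Sp j C ⟶ G')} (hg : g ∈ P.gen2 j I Ψ) :
    ∃ x : P.D.idx → C, (∀ c ∈ l, x c ∈ I) ∧ P.prod2 j l x = g := by
  haveI : Finite P.D.idx := Finite.of_fintype _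
  obtain ⟨mu, hmu⟩ := hΨ.lam
  have hsml : g.1 ∈ sml P.src j I Ψ := by
    clear hl
    induction hg using Subgroup.closure_induction with
    | mem a ha =>
      obtain ⟨c, hc, r, hr, rfl⟩ := ha
      exact gp_mem_sml (D := P.src) I hc hr
    | one => exact one_mem _
    | mul a b _ _ ha hb => exact mul_mem ha hb
    | inv a _ ha => exact inv_mem ha
  obtain ⟨x, hx, hxg⟩ := exists_sml_coords (D := P.src) I
    (filt_of_closed (D := P.src) hΨ.closed mu hmu) (mu := mu) hmu hnd hl hsml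
  exact ⟨x, hx, P.gen2_ext j hΨ (P.gen2_mono' j le_top (P.prod2_mem j (fun c hc => (hl c).1 hc) hx))
    (P.gen2_mono' j le_top hg) (by rw [P.prod2_fst]; exact hxg)⟩

end Pts

end Dat

end Groth.L14.Iso
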