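import Groth.Agent.L14.Chev.System

/-!
Alternating products of two Weyl elements carrying a simple root group to a simple root group do so exactly.
-/

set_option autoImplicit false
universe u

open CategoryTheory CategoryTheory.Limits AlgebraicGeometry MonoidalCategory CartesianMonoidalCategory MonObj
open Groth.L14.RankOne Groth.L25 Groth.L14.Chart Groth.L14.Chev.Words
open Groth.L24.RootD (wd wd_append wd_nil wd_singleton wd_cons IsSimple root_smul reflection_smul_idx)

set_option backward.isDefEq.respectTransparency.types false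
set_option linter.style.haveILetI false
set_option linter.unusedSectionVars false

noncomputable section

namespace Groth.L14.Chev

variable {S : Scheme.{u}} {G : Over S} [GrpObj G] {D : Red.Pinning G} {avc : D.idx → (Red.Gm S ⟶ D.T)}
  (havc : ∀ a, avc a = Red.DSmap S (D.P.coroot a).toAddMonoidHom ≫ D.split.inv.hom.hom)
  (e₁ : 𝟙_ (Over S) ⟶ Red.Ga S) (he₁ : Red.gaFn e₁ = 1)
  (hdual : ∀ a ∈ D.base.support, DualAt (D := D.toSplitRed) avc D.u (opp D.u) a)
  (w : D.idx → (𝟙_ (Over S) ⟶ G))
  (hw : ∀ a, w a = (e₁ ≫ D.u a) * (e₁ ≫ D.u (D.P.reflectionPerm a a))⁻¹ * (e₁ ≫ D.u a))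

include havc he₁ hdual hw in
/-- A short alternating word carrying a simple root to a simple root carries the root groups with sign one. -/
theorem carriesOne_alt {a b : D.idx} (ha : a ∈ D.base.support) (hb : b ∈ D.base.support) (hne : a ≠ b)
    (c : Bool) {k : ℕ} (hk : k ≤ braidLen (D.P.pairing b a) (D.P.pairing a b))
    {β : D.idx} (hβ : β = a ∨ β = b) (h : wd D.P ((alt c k).map (pick a b)) • a = β) :
    ∀ (R : Type u) [CommRing R] (j : Spec (CommRingCat.of R) ⟶ S) [IsOpenImmersion j]
      (C : Type u) [CommRing C] [Algebra R C] (x : C),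
      (toUnit (Sp j C) ≫ val w ((alt c k).map (pick a b))) * (gp j x ≫ D.u a) *
        (toUnit (Sp j C) ≫ val w ((alt c k).map (pick a b)))⁻¹ = gp j x ≫ D.u β := by
  haveI : Finite D.idx := Finite.of_fintype _
  haveI := RootCombo.isCrystallographic D.P
  have hi := indep_simple D ha hb hne
  have hroot := root_coord_unit (rfl : D.P.pairing b a = _) (rfl : D.P.pairing a b = _) (alt c k) true
  rw [show pick a b true = a from rfl, show unitVec true = (1, 0) from rfl, h] at hroot
  have hval : ∀ x y : ℤ, D.P.root β = x • D.P.root a + y • D.P.root b →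
      ((x, y) = ((1, 0) : ℤ × ℤ) ∧ β = a) ∨ ((x, y) = ((0, 1) : ℤ × ℤ) ∧ β = b) := by
    intro x y hxy
    rcases hβ with rfl | rfl
    · have := hi (x - 1) y (by rw [sub_smul, one_smul, sub_add_eq_add_sub, ← hxy, sub_self])
      exact Or.inl ⟨by rw [Prod.mk.injEq]; omega, rfl⟩
    · have := hi x (y - 1) (by rw [sub_smul, one_smul, ← add_sub_assoc, ← hxy, sub_self])
      exact Or.inr ⟨by rw [Prod.mk.injEq]; omega, rfl⟩
  obtain hco := hval _ _ hroot
  have hpl := pairs_base ha hb hne
  have hchk := carry_check _ hpl c ⟨k, Nat.lt_succ_of_le hk⟩ (hco.imp And.left And.left)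
  simp only [Prod.mk.injEq] at hchk
  rcases hchk with rfl | ⟨⟨hp, hq⟩, rfl, rfl⟩ | ⟨⟨hp, hq⟩, rfl, rfl⟩ | ⟨hprod, rfl, rfl⟩ | ⟨hprod, rfl, rfl⟩
  · have : β = a := hco.elim And.right fun h => absurd h.1 (by simp [alt, coord])
    rw [this]
    intro R _ j _ C _ _ x; simp [alt, val]
  · have : β = a := hco.elim And.right fun h => absurd h.1 (by simp [hp, hq, alt, coord, step])
    rw [this]
    intro R _ j _ C _ _ x
    have hadd := add_zsmul_notMem hi.symm (D.base.sub_notMem_range_root ha hb) (m := 1) (by rw [hq]; norm_num)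
    rw [one_smul] at hadd
    have hf := weyl_fix (C := C) D.rootHom j e₁ he₁ (hw b) (D.rootHom a) hadd
      (D.base.sub_notMem_range_root ha hb) hi x
    simp [alt, val, pick, hf.eq]
  · have : β = b := hco.elim (fun h => absurd h.1 (by simp [hp, hq, alt, coord, step])) And.right
    rw [this]
    intro R _ j _ C _ _ x
    have := a2_carry havc D.rootHom j e₁ he₁ (hw a) (hw b) (hdual a ha) (hdual b hb) hi hq hp
      (by rw [add_comm, ← natCast_zsmul]
          exact add_zsmul_notMem hi (D.base.sub_notMem_range_root hb ha) (by rw [hp]; norm_num))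
      (by rw [← natCast_zsmul]
          exact add_zsmul_notMem hi.symm (D.base.sub_notMem_range_root ha hb) (by rw [hq]; norm_num)) x
    simpa [alt, val, pick, MonObj.comp_mul, _root_.mul_assoc] using this
  · simp only [pairList, List.mem_cons, List.not_mem_nil, or_false, Prod.mk.injEq] at hpl
    rcases hpl with ⟨hp, hq⟩ | ⟨hp, hq⟩ | ⟨hp, hq⟩ | ⟨hp, hq⟩ | ⟨hp, hq⟩ | ⟨hp, hq⟩ <;>
      rw [hp, hq] at hprod <;> norm_num at hprod
    all_goals
      have : β = a := hco.elim And.right fun h => absurd h.1 (by simp [hp, hq, alt, coord, step])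
      rw [this]
      intro R _ j _ C _ _ x
      simp only [alt, List.map_cons, List.map_nil, pick, cond_true, cond_false, val, List.prod_cons, List.prod_nil,
        Bool.not_false, Bool.not_true, _root_.mul_one, MonObj.comp_mul, ← _root_.mul_assoc]
    · have hc : D.P.root (D.P.reflectionPerm b a) = D.P.root a + (2 : ℤ) • D.P.root b := by
        rw [D.P.root_reflectionPerm, D.P.reflection_apply_root, hq]; module
      exact fix_four havc D.rootHom j e₁ he₁ (hw b) (hw a) (hdual b hb)
        (by rw [hc]; convert (short_notMem hb hp).1 2 2 (Or.inl rfl) (Or.inr rfl) using 2; module)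
        (by rw [hc]; convert (short_notMem hb hp).1 2 0 (Or.inl rfl) (Or.inl rfl) using 2; module)
        (hi.of_combo (r := 1) (s := 2) (t := 1) (w := 0) (by rw [hc, one_smul]) (by simp) (by norm_num))
        (by rw [hq]; decide) x
    · have hm := middle_conj D.rootHom havc e₁ he₁ (hw a) (hw b) (hdual a ha) (hdual b hb) hi hq hp
        (D.base.sub_notMem_range_root hb ha) (two_smul_notMem D ha) (j := j) x
      have hs := weyl_sq_conj havc D.rootHom j e₁ he₁ (hdual b hb) (hw b) (D.rootHom a) (-x)
      rw [hq, show ((-1 : Cˣ) ^ (-1 : ℤ) : Cˣ) = -1 by norm_num, Units.val_neg, Units.val_one, neg_mul_neg,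
        _root_.one_mul] at hs
      calc _ = (toUnit (Sp j C) ≫ w b) * ((toUnit (Sp j C) ≫ w a) * (gp j x ≫ conjHom (w b) (D.u a)) *
            (toUnit (Sp j C) ≫ w a)⁻¹) * (toUnit (Sp j C) ≫ w b)⁻¹ := by rw [comp_conjHom]; group
        _ = _ := by rw [hm, hs]
  · simp only [pairList, List.mem_cons, List.not_mem_nil, or_false, Prod.mk.injEq] at hpl
    rcases hpl with ⟨hp, hq⟩ | ⟨hp, hq⟩ | ⟨hp, hq⟩ | ⟨hp, hq⟩ | ⟨hp, hq⟩ | ⟨hp, hq⟩ <;>
      rw [hp, hq] at hprod <;> norm_num at hprod
    all_goals
      have : β = a := hco.elim And.right fun h => absurd h.1 (by simp [hp, hq, alt, coord, step])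
      rw [this]
      intro R _ j _ C _ _ x
      simp only [alt, List.map_cons, List.map_nil, pick, cond_true, cond_false, val, List.prod_cons, List.prod_nil,
        Bool.not_false, Bool.not_true, _root_.mul_one, MonObj.comp_mul, ← _root_.mul_assoc]
    · have hc : D.P.root (D.P.reflectionPerm b a) = (1 : ℤ) • D.P.root a + (3 : ℤ) • D.P.root b := by
        rw [D.P.root_reflectionPerm, D.P.reflection_apply_root, hq]; module
      have ec : D.P.pairing (D.P.reflectionPerm b a) a = -1 := by
        rw [RootCombo.pairing_of_eq D.P hc a, D.P.pairing_same, hp]; norm_num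
      have hc' : D.P.root (D.P.reflectionPerm a (D.P.reflectionPerm b a)) =
          (2 : ℤ) • D.P.root a + (3 : ℤ) • D.P.root b := by
        rw [D.P.root_reflectionPerm, D.P.reflection_apply_root, ec, hc]; module
      exact fix_six havc D.rootHom j e₁ he₁ (hw b) (hw a) (hdual b hb) (hdual a ha)
        (by rw [hc']; convert (short_notMem hb hp).2 hq 4 2 (Or.inl ⟨rfl, Or.inr rfl⟩) using 2; module)
        (by rw [hc']; convert (short_notMem hb hp).2 hq 2 2 (Or.inl ⟨rfl, Or.inl rfl⟩) using 2; module)
        (hi.of_combo (r := 2) (s := 3) (t := 0) (w := 1) hc' (by simp) (by norm_num))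
        (by rw [ec, hq]; decide) x
    · have hc : D.P.root (D.P.reflectionPerm b a) = (1 : ℤ) • D.P.root a + (1 : ℤ) • D.P.root b := by
        rw [D.P.root_reflectionPerm, D.P.reflection_apply_root, hq]; module
      have ec : D.P.pairing (D.P.reflectionPerm b a) a = -1 := by
        rw [RootCombo.pairing_of_eq D.P hc a, D.P.pairing_same, hp]; norm_num
      have hc' : D.P.root (D.P.reflectionPerm a (D.P.reflectionPerm b a)) =
          (2 : ℤ) • D.P.root a + (1 : ℤ) • D.P.root b := by
        rw [D.P.root_reflectionPerm, D.P.reflection_apply_root, ec, hc]; module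
      exact fix_six havc D.rootHom j e₁ he₁ (hw b) (hw a) (hdual b hb) (hdual a ha)
        (by rw [hc']; convert (short_notMem ha hq).1 2 2 (Or.inl rfl) (Or.inr rfl) using 2; module)
        (by rw [hc']; convert (short_notMem ha hq).1 2 0 (Or.inl rfl) (Or.inl rfl) using 2; module)
        (hi.of_combo (r := 2) (s := 1) (t := 0) (w := 1) hc' (by simp) (by norm_num))
        (by rw [ec, hq]; decide) x

end Groth.L14.Chev
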