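import Groth.Agent.L14.Iso.Hom

/-!
Data of morphisms of pinned root data from functional equations, and the resulting homomorphisms on points.
-/

set_option autoImplicit false
universe u

open CategoryTheory CategoryTheory.Limits AlgebraicGeometry MonoidalCategory CartesianMonoidalCategory MonObj
open Groth.L14.RankOne Groth.L25 Groth.L14.Chart Groth.L14.Chev Groth.L14.Chev.Cell Groth.L14.Coroot

set_option backward.isDefEq.respectTransparency.types false
set_option linter.style.haveILetI false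
set_option linter.unusedSectionVars false

noncomputable section

namespace Groth.L14.Iso

variable {S : Scheme.{u}}

/-- Iterates of an additive power map are additive. -/
theorem add_pow_of (p : ℕ) (hp : ∀ (X : Over S) (a b : Γ(X.left, ⊤)), (a + b) ^ p = a ^ p + b ^ p) :
    ∀ (n : ℕ) (X : Over S) (a b : Γ(X.left, ⊤)), (a + b) ^ p ^ n = a ^ p ^ n + b ^ p ^ n := by
  intro n
  induction n with
  | zero => intro X a b; simp
  | succ n ih => intro X a b; rw [pow_succ, pow_mul, pow_mul, pow_mul, ih, hp]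

variable {G G' : Over S} [GrpObj G] [GrpObj G'] (P : Dat G G')

/-- The homomorphism of the datum, described on points. -/
theorem Dat.existsUnique_points : ∃! f : G ⟶ G', IsMonHom f ∧
      P.D.i ≫ f = P.D.split.hom.hom.hom ≫ Red.DSmap S P.h.toAddMonoidHom ≫ P.D'.split.inv.hom.hom ≫ P.D'.i ∧
      ∀ a ∈ P.D.base.support, ∀ (X : Over S) (x y : X ⟶ Red.Ga S), Red.gaFn y = Red.gaFn x ^ P.q a →
        (x ≫ P.D.u a) ≫ f = y ≫ P.D'.u (P.d a) ∧
          (x ≫ P.D.u (P.D.P.reflectionPerm a a)) ≫ f = y ≫ P.D'.u (P.D'.P.reflectionPerm (P.d a) (P.d a)) := by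
  obtain ⟨F, hF, huniq⟩ := P.existsUnique_isHomOf
  have hy : ∀ a (X : Over S) (x y : X ⟶ Red.Ga S), Red.gaFn y = Red.gaFn x ^ P.q a → y = x ≫ P.fr a :=
    fun a X x y h => GaPts.gaFn_injective (by
      show Red.gaFn y = Red.gaFn _
      rw [P.gaFn_fr, h])
  have hto : P.φT ≫ P.D'.i =
      P.D.split.hom.hom.hom ≫ Red.DSmap S P.h.toAddMonoidHom ≫ P.D'.split.inv.hom.hom ≫ P.D'.i := by
    simp [Dat.φT, Category.assoc]
  refine ⟨F, ⟨hF.1, hF.2.1.trans hto, fun a ha X x y h => ⟨?_, ?_⟩⟩, fun f hf => huniq f ⟨hf.1, hf.2.1.trans hto.symm, fun a ha => ?_⟩⟩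
  · rw [Category.assoc, (hF.2.2 a ha).1, hy a X x y h, Category.assoc]
    rfl
  · rw [Category.assoc, (hF.2.2 a ha).2, hy a X x y h, Category.assoc, Dat.tu, P.d_refl]
    rw [show P.fr (P.D.P.reflectionPerm a a) = P.fr a by unfold Dat.fr; rw [P.q_refl]]
  · obtain ⟨h1, h2⟩ := hf.2.2 a ha (Red.Ga S) (𝟙 _) (P.fr a) (by
      have := P.gaFn_fr a (𝟙 (Red.Ga S))
      rwa [Category.id_comp] at this)
    rw [Category.id_comp] at h1 h2
    refine ⟨h1, ?_⟩
    show P.D.u _ ≫ f = _
    rw [h2, Dat.tu, P.d_refl, show P.fr (P.D.P.reflectionPerm a a) = P.fr a by unfold Dat.fr; rw [P.q_refl]]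

end Groth.L14.Iso
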