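import Groth.Agent.L14.Chev.System
import Groth.Agent.L14.Chev.Cell.NegBase
import Groth.Agent.L24.RootD.Dominant

/-!
Two positive roots are moved by the Weyl group into the positive part of a standard system of rank two.
-/

set_option autoImplicit false
universe u

open CategoryTheory CategoryTheory.Limits AlgebraicGeometry MonoidalCategory CartesianMonoidalCategory MonObj
open Groth.L14.RankOne Groth.L25 Groth.L14.Chart Groth.L14.Chev Groth.L14.Chev.Cell
open Groth.L24.RootD

set_option backward.isDefEq.respectTransparency.types false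
set_option linter.style.haveILetI false
set_option linter.unusedSectionVars false
set_option maxHeartbeats 1000000

noncomputable section

namespace Groth.L14.Iso

variable {S : Scheme.{u}} {G : Over S} [GrpObj G] (D : Red.Pinning G)

/-- The roots whose multiple lies in the span of two roots. -/
def InPlane (c e g : D.idx) : Prop :=
  ∃ n r s : ℤ, n ≠ 0 ∧ n • D.P.root g = r • D.P.root c + s • D.P.root e

/-- A functional vanishing exactly on the roots of a plane. -/
theorem exists_plane_functional (c e : D.idx) :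
    ∃ f : D.M →+ ℤ, f (D.P.root c) = 0 ∧ f (D.P.root e) = 0 ∧ ∀ g, f (D.P.root g) = 0 → InPlane D c e g := by
  classical
  haveI : Finite D.idx := Finite.of_fintype _
  let K : Submodule ℤ D.M :=
    { carrier := {m | ∃ n r s : ℤ, n ≠ 0 ∧ n • m = r • D.P.root c + s • D.P.root e}
      zero_mem' := ⟨1, 0, 0, one_ne_zero, by simp⟩
      add_mem' := by
        rintro x y ⟨n, r, s, hn, h⟩ ⟨n', r', s', hn', h'⟩
        refine ⟨n * n', n' * r + n * r', n' * s + n * s', mul_ne_zero hn hn', ?_⟩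
        rw [smul_add, mul_comm n n', ← smul_smul, h, mul_comm n' n, ← smul_smul, h']
        module
      smul_mem' := by
        rintro z x ⟨n, r, s, hn, h⟩
        refine ⟨n, z * r, z * s, hn, ?_⟩
        rw [smul_comm, h]
        module }
  haveI : IsAddTorsionFree D.M := .of_isTorsionFree ℤ D.M
  haveI : Module.IsTorsionFree ℤ (D.M ⧸ K) := by
    refine .of_smul_eq_zero fun n x h => ?_
    rw [or_iff_not_imp_left]
    intro hn
    obtain ⟨x, rfl⟩ := Submodule.Quotient.mk_surjective K x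
    rw [← Submodule.Quotient.mk_smul, Submodule.Quotient.mk_eq_zero] at h
    obtain ⟨m, r, s, hm, h⟩ := h
    rw [Submodule.Quotient.mk_eq_zero]
    exact ⟨m * n, r, s, mul_ne_zero hm hn, by rw [← smul_smul, h]⟩
  haveI : Module.Free ℤ (D.M ⧸ K) := Module.free_of_finite_type_torsion_free'
  let β := Module.Free.chooseBasis ℤ (D.M ⧸ K)
  have hmem : ∀ m, (∀ k, β.coord k (Submodule.Quotient.mk m) = 0) → m ∈ K := fun m h => by
    rw [← Submodule.Quotient.mk_eq_zero]
    exact β.forall_coord_eq_zero_iff.1 h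
  suffices key : ∀ F : Finset D.idx, ∃ f : D.M →+ ℤ, (∀ m ∈ K, f m = 0) ∧
      ∀ g ∈ F, f (D.P.root g) = 0 → D.P.root g ∈ K by
    obtain ⟨f, hf, hF⟩ := key Finset.univ
    exact ⟨f, hf _ ⟨1, 1, 0, one_ne_zero, by simp⟩, hf _ ⟨1, 0, 1, one_ne_zero, by simp⟩,
      fun g hg => hF g (Finset.mem_univ g) hg⟩
  intro F
  induction F using Finset.induction_on with
  | empty => exact ⟨0, fun _ _ => rfl, fun g hg => absurd hg (Finset.notMem_empty g)⟩
  | insert g₀ F _ ih =>
    obtain ⟨f, hf, hF⟩ := ih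
    by_cases hg₀ : f (D.P.root g₀) = 0 ∧ D.P.root g₀ ∉ K
    · obtain ⟨k, hk⟩ : ∃ k, β.coord k (Submodule.Quotient.mk (D.P.root g₀)) ≠ 0 := by
        by_contra hno
        push Not at hno
        exact hg₀.2 (hmem _ hno)
      let φ : D.M →+ ℤ := (β.coord k ∘ₗ K.mkQ).toAddMonoidHom
      have hφ : ∀ m ∈ K, φ m = 0 := fun m hm => by
        show β.coord k (Submodule.Quotient.mk m) = 0
        rw [(Submodule.Quotient.mk_eq_zero K).2 hm, map_zero]
      obtain ⟨N, hN0, hN⟩ : ∃ N : ℤ, 0 < N ∧ ∀ g, |φ (D.P.root g)| < N :=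
        ⟨1 + ∑ g, |φ (D.P.root g)|, by positivity, fun g => by
          have := Finset.single_le_sum (fun x _ => abs_nonneg (φ (D.P.root x))) (Finset.mem_univ g)
          omega⟩
      refine ⟨N • f + φ, fun m hm => by simp [hf m hm, hφ m hm], fun g hg h => ?_⟩
      rw [AddMonoidHom.add_apply, AddMonoidHom.smul_apply, smul_eq_mul] at h
      by_cases h0 : f (D.P.root g) = 0
      · rcases Finset.mem_insert.1 hg with rfl | hg
        · rw [h0, mul_zero, zero_add] at h
          exact absurd h hk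
        · exact hF g hg h0
      · have h1 : N * 1 ≤ N * |f (D.P.root g)| := mul_le_mul_of_nonneg_left (Int.one_le_abs h0) hN0.le
        have h2 : |φ (D.P.root g)| = N * |f (D.P.root g)| := by
          rw [eq_neg_of_add_eq_zero_right h, abs_neg, abs_mul, abs_of_pos hN0]
        have := hN g
        omega
    · refine ⟨f, hf, fun g hg h => ?_⟩
      rcases Finset.mem_insert.1 hg with rfl | hg
      · push Not at hg₀
        exact hg₀ h
      · exact hF g hg h

/-- Two distinct positive roots are carried by a word into the positive part of the span of two simple roots. -/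
theorem exists_word_plane {c e : D.idx} (hc : c ∈ RedSub.posRoots D.P D.base) (he : e ∈ RedSub.posRoots D.P D.base)
    (hne : c ≠ e) :
    ∃ (l : List D.idx) (a b c' e' : D.idx), (∀ x ∈ l, x ∈ D.base.support) ∧ a ∈ D.base.support ∧
      b ∈ D.base.support ∧ a ≠ b ∧ wd D.P l • c' = c ∧ wd D.P l • e' = e ∧ c' ≠ e' ∧
      c' ∈ RedSub.posRoots D.P D.base ∧ e' ∈ RedSub.posRoots D.P D.base ∧
      (∃ x y : ℤ, D.P.root c' = x • D.P.root a + y • D.P.root b) ∧
      ∃ x y : ℤ, D.P.root e' = x • D.P.root a + y • D.P.root b := by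
  classical
  haveI : Finite D.idx := Finite.of_fintype _
  haveI := RootCombo.isCrystallographic D.P
  haveI := Chev.Cell.isReduced D.P D.base
  haveI : IsAddTorsionFree D.M := .of_isTorsionFree ℤ D.M
  let Δ : Set D.idx := D.base.support
  have hΔ : IsSimple D.P Δ := IsSimple.of_base D.base
  let Sp : Set D.idx := _root_.RootD.posOf D.P Δ
  have hS : _root_.RootD.IsPosSys D.P Sp := hΔ.isPosSys
  obtain ⟨f, hfc, hfe, hf⟩ := exists_plane_functional D c e
  let T : Set D.idx := {i | 0 < f (D.P.root i) ∨ (f (D.P.root i) = 0 ∧ i ∈ Sp)}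
  have hT : _root_.RootD.IsPosSys D.P T := by
    refine isPosSys_of_closed ?_ ?_ ?_
    · rintro i (h | ⟨h, hi⟩) (h' | ⟨h', hi'⟩) <;> rw [root_neg, map_neg] at h'
      · omega
      · omega
      · omega
      · exact hS.disjoint hi hi'
    · intro i
      rcases lt_trichotomy (f (D.P.root i)) 0 with h | h | h
      · right; left; rw [root_neg, map_neg]; omega
      · rcases hS.cover i with hi | hi
        · left; exact Or.inr ⟨h, hi⟩
        · right; exact Or.inr ⟨by rw [root_neg, map_neg, h, neg_zero], hi⟩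
      · left; exact Or.inl h
    · intro i j k hi hj hk
      have hik : f (D.P.root k) = f (D.P.root i) + f (D.P.root j) := by rw [hk, map_add]
      rcases hi with hi | ⟨hi, hi'⟩ <;> rcases hj with hj | ⟨hj, hj'⟩
      · exact Or.inl (by omega)
      · exact Or.inl (by omega)
      · exact Or.inl (by omega)
      · exact Or.inr ⟨by omega, isClosedSub_of_isPosSys hS hi' hj' hk⟩
  obtain ⟨g, hg, hgS⟩ := exists_image_eq hS hT
  obtain ⟨l, hlm, hlg⟩ := exists_minWord_simples hS hg
  have hl : ∀ x ∈ l, x ∈ D.base.support := fun x hx => by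
    have := hlm.1 x hx
    rwa [hΔ.simples_eq] at this
  have hback : ∀ i, i ∈ T → g⁻¹ • i ∈ Sp := fun i hi => by
    rw [← hgS] at hi
    obtain ⟨k, hk, rfl⟩ := hi
    rwa [inv_smul_smul]
  have hTi : ∀ i ∈ Sp, g • i ∈ T := fun i hi => hgS ▸ Set.mem_image_of_mem _ hi
  have hcT : c ∈ T := Or.inr ⟨hfc, hc⟩
  have heT : e ∈ T := Or.inr ⟨hfe, he⟩
  -- the simple roots of the plane
  let Z : Set D.idx := {a | a ∈ Δ ∧ f (D.P.root (g • a)) = 0}
  have hexp : ∀ i ∈ Sp, f (D.P.root (g • i)) = 0 →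
      D.P.root i ∈ Submodule.span ℤ (D.P.root '' Z) := by
    intro i hi hi0
    obtain ⟨co, hco, hco0, hcomb⟩ := exists_comb_of_mem_natSpan hi
    have hval : f (D.P.root (g • i)) = co.sum fun a z => z * f (D.P.root (g • a)) := by
      rw [root_smul, ← hcomb, comb_def, Finsupp.sum, Finsupp.sum, Finset.smul_sum, map_sum]
      refine Finset.sum_congr rfl fun a _ => ?_
      rw [smul_zsmul_M, map_zsmul, smul_eq_mul, root_smul]
    rw [hi0] at hval
    rw [← hcomb, comb_def]
    refine Submodule.sum_mem _ fun a ha => Submodule.smul_mem _ _ (Submodule.subset_span ⟨a, ⟨hco ha, ?_⟩, rfl⟩)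
    have hnn : ∀ x ∈ co.support, 0 ≤ co x * f (D.P.root (g • x)) := fun x hx =>
      mul_nonneg (hco0 x) ((hTi x (hΔ.subset_pos (hco hx))).elim le_of_lt fun h => h.1.ge)
    have := (Finset.sum_eq_zero_iff_of_nonneg hnn).1 hval.symm a ha
    exact (mul_eq_zero.1 this).resolve_left (Finsupp.mem_support_iff.1 ha)
  have hthree : ∀ a₁ ∈ Z, ∀ a₂ ∈ Z, ∀ a₃ ∈ Z, a₁ ≠ a₂ → a₁ ≠ a₃ → a₂ ≠ a₃ → False := by
    intro a₁ h₁ a₂ h₂ a₃ h₃ h12 h13 h23
    obtain ⟨n₁, r₁, s₁, hn₁, e₁⟩ := hf _ h₁.2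
    obtain ⟨n₂, r₂, s₂, hn₂, e₂⟩ := hf _ h₂.2
    obtain ⟨n₃, r₃, s₃, hn₃, e₃⟩ := hf _ h₃.2
    have hind : ∀ μ₁ μ₂ μ₃ : ℤ, μ₁ • D.P.root (g • a₁) + μ₂ • D.P.root (g • a₂) + μ₃ • D.P.root (g • a₃) = 0 →
        μ₁ = 0 ∧ μ₂ = 0 ∧ μ₃ = 0 := by
      intro μ₁ μ₂ μ₃ h
      simp only [root_smul, ← smul_zsmul_M, ← smul_add, smul_eq_zero_iff_eq] at h
      have hz := linearIndepOn_iff.1 hΔ.linInd
        (Finsupp.single a₁ μ₁ + Finsupp.single a₂ μ₂ + Finsupp.single a₃ μ₃)
        (Submodule.add_mem _ (Submodule.add_mem _ (Finsupp.single_mem_supported ℤ _ h₁.1)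
          (Finsupp.single_mem_supported ℤ _ h₂.1)) (Finsupp.single_mem_supported ℤ _ h₃.1)) (by simpa using h)
      have k1 := congrArg (· a₁) hz
      have k2 := congrArg (· a₂) hz
      have k3 := congrArg (· a₃) hz
      simp [h12, h13, h23, h12.symm, h13.symm, h23.symm] at k1 k2 k3
      exact ⟨k1, k2, k3⟩
    obtain ⟨h1, h2, h3⟩ := hind ((r₂ * s₃ - r₃ * s₂) * n₁) ((r₃ * s₁ - r₁ * s₃) * n₂) ((r₁ * s₂ - r₂ * s₁) * n₃) (by
      rw [← smul_smul, ← smul_smul, ← smul_smul, e₁, e₂, e₃]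
      module)
    have h3' : r₁ * s₂ - r₂ * s₁ = 0 := (mul_eq_zero.1 h3).resolve_right hn₃
    obtain ⟨k1, k2, -⟩ := hind (r₂ * n₁) (-(r₁ * n₂)) 0 (by
      rw [zero_smul, add_zero, neg_smul, ← smul_smul, ← smul_smul, e₁, e₂]
      calc _ = (r₂ * s₁ - r₁ * s₂) • D.P.root e := by module
        _ = 0 := by rw [show r₂ * s₁ - r₁ * s₂ = 0 by omega, zero_smul])
    have hr₁ : r₁ = 0 := (mul_eq_zero.1 (neg_eq_zero.1 k2)).resolve_right hn₂
    have hr₂ : r₂ = 0 := (mul_eq_zero.1 k1).resolve_right hn₁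
    obtain ⟨-, k5, -⟩ := hind (s₂ * n₁) (-(s₁ * n₂)) 0 (by
      rw [zero_smul, add_zero, neg_smul, ← smul_smul, ← smul_smul, e₁, e₂, hr₁, hr₂]
      module)
    have hs₁ : s₁ = 0 := (mul_eq_zero.1 (neg_eq_zero.1 k5)).resolve_right hn₂
    rw [hr₁, hs₁, zero_smul, zero_smul, add_zero, smul_eq_zero] at e₁
    exact e₁.elim hn₁ (D.P.ne_zero _)
  obtain ⟨cc, hcc⟩ : ∃ x, x = g⁻¹ • c := ⟨_, rfl⟩
  obtain ⟨ee, hee⟩ : ∃ x, x = g⁻¹ • e := ⟨_, rfl⟩
  have hcS : cc ∈ Sp := hcc ▸ hback c hcT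
  have heS : ee ∈ Sp := hee ▸ hback e heT
  have hc1 := hexp cc hcS (by rw [hcc, smul_inv_smul, hfc])
  have he1 := hexp ee heS (by rw [hee, smul_inv_smul, hfe])
  have hnee : cc ≠ ee := fun h => hne (by rw [hcc, hee] at h; exact smul_left_cancel g⁻¹ h)
  have hpair : ∃ a ∈ Z, ∃ b ∈ Z, a ≠ b := by
    by_contra hno
    push Not at hno
    obtain hZ | ⟨a₀, ha₀⟩ := Z.eq_empty_or_nonempty
    · rw [hZ, Set.image_empty, Submodule.span_empty, Submodule.mem_bot] at hc1
      exact D.P.ne_zero _ hc1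
    · have hZ : Z = {a₀} := Set.Subset.antisymm (fun x hx => hno x hx a₀ ha₀) (Set.singleton_subset_iff.2 ha₀)
      rw [hZ, Set.image_singleton, Submodule.mem_span_singleton] at hc1 he1
      obtain ⟨s, hs⟩ := hc1
      obtain ⟨t, ht⟩ := he1
      have hs1 := multiple_of_root (P := D.P) hs.symm
      have ht1 := multiple_of_root (P := D.P) ht.symm
      have hdep : ¬ LinearIndependent ℤ ![D.P.root cc, D.P.root ee] := fun hh => by
        have := LinearIndependent.pair_iff.1 hh t (-s) (by rw [← hs, ← ht]; module)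
        omega
      rcases RootPairing.IsReduced.eq_or_eq_neg cc ee hdep with q | q
      · exact hnee (D.P.root.injective q)
      · refine hΔ.disjoint_pos (i := cc) hcS ?_
        show D.P.root (D.P.reflectionPerm cc cc) ∈ _root_.RootD.natSpan D.P Δ
        rw [root_self_refl, q, neg_neg]
        exact heS
  obtain ⟨a, haZ, b, hbZ, hab⟩ := hpair
  have hZ : Z ⊆ {a, b} := fun x hx => by
    by_contra h
    simp only [Set.mem_insert_iff, Set.mem_singleton_iff, not_or] at h
    exact hthree a haZ b hbZ x hx hab (Ne.symm h.1) (Ne.symm h.2)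
  have hspan : ∀ {m : D.M}, m ∈ Submodule.span ℤ (D.P.root '' Z) →
      ∃ x y : ℤ, m = x • D.P.root a + y • D.P.root b := fun {m} hm => by
    have := Submodule.span_mono (Set.image_mono hZ) hm
    rw [Set.image_pair, Submodule.mem_span_pair] at this
    obtain ⟨x, y, h⟩ := this
    exact ⟨x, y, h.symm⟩
  exact ⟨l, a, b, cc, ee, hl, haZ.1, hbZ.1, hab, by rw [hlg, hcc, smul_inv_smul], by rw [hlg, hee, smul_inv_smul],
    hnee, hcS, heS, hspan hc1, hspan he1⟩

end Groth.L14.Iso
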