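import Groth.Agent.L14.Iso.Pair
import Groth.Agent.L14.Iso.Plane

/-!
Groups generated by pairs of root points, commutators of pairs, and their transport by the Weyl pairs.
-/

set_option autoImplicit false
universe u

open CategoryTheory CategoryTheory.Limits AlgebraicGeometry MonoidalCategory CartesianMonoidalCategory MonObj
open Groth.L14.RankOne Groth.L25 Groth.L14.Chart Groth.L14.Chev Groth.L14.Chev.Words Groth.L14.Coroot
open Groth.L24.RootD (wd wd_append wd_nil wd_singleton wd_cons root_smul reflection_smul_idx)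

set_option backward.isDefEq.respectTransparency.types false
set_option linter.style.haveILetI false
set_option linter.unusedSectionVars false
set_option maxHeartbeats 1000000

noncomputable section

namespace Groth.L14.Iso.Dat

variable {S : Scheme.{u}} {G G' : Over S} [GrpObj G] [GrpObj G'] (P : Dat G G')

/-- The root homomorphisms of the system in the source. -/
theorem rootHom_sys₁ (c : P.D.idx) :
    Red.IsRootHom P.D.i (P.D.split.hom.hom.hom ≫ Red.chi S (P.D.P.root c)) (P.sys c).1 := by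
  obtain ⟨hl, -, he, -⟩ := P.rep_spec c
  have h := isRootHom_word P.havc P.e₁ P.he₁ P.hdual P.w P.hw hl (P.D.rootHom (P.rep c).2)
  rw [he] at h
  show Red.IsRootHom _ _ (conjHom (val P.pw (P.rep c).1).1 (P.D.u (P.rep c).2))
  rwa [P.val_pw]

/-- The root homomorphisms of the system in the target, before twisting. -/
def sys' (g : P.D'.idx) : Red.Ga S ⟶ G' :=
  conjHom (val P.w' ((P.rep (P.d.symm g)).1.map P.d)) (P.D'.u (P.d (P.rep (P.d.symm g)).2))

theorem rootHom_sys' (g : P.D'.idx) :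
    Red.IsRootHom P.D'.i (P.D'.split.hom.hom.hom ≫ Red.chi S (P.D'.P.root g)) (P.sys' g) := by
  obtain ⟨hl, -, he, -⟩ := P.rep_spec (P.d.symm g)
  have h := isRootHom_word P.havc' P.e₁ P.he₁ P.hdual' P.w' P.hw' (P.map_mem_support hl)
    (P.D'.rootHom (P.d (P.rep (P.d.symm g)).2))
  rwa [(P.wd_map _ _).1, he, Equiv.apply_symm_apply] at h

theorem sys_snd (c : P.D.idx) : (P.sys c).2 = P.fr c ≫ P.sys' (P.d c) := by
  obtain ⟨-, -, he, -⟩ := P.rep_spec c
  have hq : P.q (P.rep c).2 = P.q c := by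
    have h := (P.wd_map (P.rep c).1 (P.rep c).2).2
    rw [he] at h
    exact h.symm
  have hfr : P.fr (P.rep c).2 = P.fr c := by rw [fr, fr, hq]
  show conjHom (val P.pw (P.rep c).1).2 (P.tu (P.rep c).2) = _
  rw [P.val_pw, sys', Equiv.symm_apply_apply, tu, hfr, conjHom, conjHom, Category.assoc]

section Pts

variable {R : Type u} [CommRing R] (j : Spec (CommRingCat.of R) ⟶ S) {C : Type u} [CommRing C] [Algebra R C]

theorem ev_pu_add (a : P.D.idx) (x y : C) : ev j (x + y) (P.pu a) = ev j x (P.pu a) * ev j y (P.pu a) := by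
  haveI := (P.D.rootHom a).1
  refine Prod.ext ?_ ?_
  · show gp j (x + y) ≫ P.D.u a = (gp j x ≫ P.D.u a) * (gp j y ≫ P.D.u a)
    rw [gp_add, MonObj.mul_comp]
  · show gp j (x + y) ≫ P.tu a = (gp j x ≫ P.tu a) * (gp j y ≫ P.tu a)
    rw [gp_add, MonObj.mul_comp]

theorem ev_sys_add (c : P.D.idx) (x y : C) : ev j (x + y) (P.sys c) = ev j x (P.sys c) * ev j y (P.sys c) := by
  rw [sys, ev_conj2, ev_conj2, ev_conj2, P.ev_pu_add]
  group

theorem ev_sys_zero (c : P.D.idx) : ev j (0 : C) (P.sys c) = 1 := by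
  have h := P.ev_sys_add j c (0 : C) 0
  rw [add_zero] at h
  exact right_eq_mul.1 h

theorem ev_sys_neg (c : P.D.idx) (x : C) : ev j (-x) (P.sys c) = (ev j x (P.sys c))⁻¹ := by
  refine eq_inv_of_mul_eq_one_left ?_
  rw [← P.ev_sys_add, neg_add_cancel, P.ev_sys_zero]

/-- The group generated by the pairs of root points with coordinates in an ideal. -/
def gen2 (I : Ideal C) (Ψ : Set P.D.idx) : Subgroup ((Sp j C ⟶ G) × (Sp j C ⟶ G')) :=
  Subgroup.closure {g | ∃ c ∈ Ψ, ∃ r ∈ I, g = ev j r (P.sys c)}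

theorem ev_mem {I : Ideal C} {Ψ : Set P.D.idx} {c : P.D.idx} (hc : c ∈ Ψ) {r : C} (hr : r ∈ I) :
    ev j r (P.sys c) ∈ P.gen2 j I Ψ := Subgroup.subset_closure ⟨c, hc, r, hr, rfl⟩

theorem gen2_mono {I : Ideal C} {Ψ Ψ' : Set P.D.idx} (h : Ψ ⊆ Ψ') : P.gen2 j I Ψ ≤ P.gen2 j I Ψ' :=
  Subgroup.closure_mono fun _ ⟨c, hc, r, hr, e⟩ => ⟨c, h hc, r, hr, e⟩

variable [IsOpenImmersion j]

theorem t2_conj_mem {I : Ideal C} {Ψ : Set P.D.idx} (χ : Multiplicative P.D.M →* C)
    {g : (Sp j C ⟶ G) × (Sp j C ⟶ G')} (hg : g ∈ P.gen2 j I Ψ) :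
    t2 j P χ * g * (t2 j P χ)⁻¹ ∈ P.gen2 j I Ψ := by
  induction hg using Subgroup.closure_induction with
  | mem x hx =>
    obtain ⟨c, hc, r, hr, rfl⟩ := hx
    rw [P.eqv_sys c R j C χ r]
    exact P.ev_mem j hc (I.mul_mem_left _ hr)
  | one => simp
  | mul x y _ _ hx hy => simpa [_root_.mul_assoc] using mul_mem hx hy
  | inv x _ hx => simpa [_root_.mul_assoc] using inv_mem hx

theorem res_conj_mem {I : Ideal C} {Ψ : Set P.D.idx} {a : P.D.idx} (ha : a ∈ P.D.base.support)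
    {g : (Sp j C ⟶ G) × (Sp j C ⟶ G')} (hg : g ∈ P.gen2 j I Ψ) :
    res j C (P.pw a) * g * (res j C (P.pw a))⁻¹ ∈ P.gen2 j I (P.D.P.reflectionPerm a '' Ψ) := by
  induction hg using Subgroup.closure_induction with
  | mem x hx =>
    obtain ⟨c, hc, r, hr, rfl⟩ := hx
    obtain ⟨ε, -, h⟩ := P.car_sys ha c
    rw [h R j C r]
    exact P.ev_mem j (Set.mem_image_of_mem _ hc) (I.mul_mem_left _ hr)
  | one => simp
  | mul x y _ _ hx hy => simpa [_root_.mul_assoc] using mul_mem hx hy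
  | inv x _ hx => simpa [_root_.mul_assoc] using inv_mem hx

theorem word_mem {I : Ideal C} {Ψ : Set P.D.idx} {l : List P.D.idx} (hl : ∀ x ∈ l, x ∈ P.D.base.support)
    {a : P.D.idx} (ha : a ∈ P.D.base.support) (hΨ : wd P.D.P l • a ∈ Ψ) {r : C} (hr : r ∈ I) :
    ev j r (conj2 (val P.pw l) (P.pu a)) ∈ P.gen2 j I Ψ := by
  obtain ⟨ε, hε, h⟩ := P.car_sys_word hl ha rfl
  rw [ev_conj2, h R j C r]
  exact P.ev_mem j hΨ (I.mul_mem_left _ hr)

theorem exists_word_eq {I : Ideal C} {l : List P.D.idx} (hl : ∀ x ∈ l, x ∈ P.D.base.support)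
    {a : P.D.idx} (ha : a ∈ P.D.base.support) {c : P.D.idx} (hc : wd P.D.P l • a = c) {r : C} (hr : r ∈ I) :
    ∃ r' ∈ I, ev j r (P.sys c) = ev j r' (conj2 (val P.pw l) (P.pu a)) := by
  obtain ⟨ε, hε, h⟩ := P.car_sys_word hl ha hc
  refine ⟨(ε : C) * r, I.mul_mem_left _ hr, ?_⟩
  rw [ev_conj2, h R j C, ← _root_.mul_assoc]
  rcases hε with e | e <;> simp [e]

end Pts

/-- The roots which are positive combinations of two roots. -/
def combos (c e : P.D.idx) : Set P.D.idx :=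
  {g | ∃ i k : ℕ, 1 ≤ i ∧ 1 ≤ k ∧ P.D.P.root g = i • P.D.P.root c + k • P.D.P.root e}

theorem combos_comm (c e : P.D.idx) : P.combos c e = P.combos e c := by
  ext g
  constructor <;> rintro ⟨i, k, hi, hk, h⟩ <;> exact ⟨k, i, hk, hi, by rw [h, add_comm]⟩

/-- The commutators of two pairs of root points lie in the group of the combinations. -/
def PairComm (c e : P.D.idx) : Prop :=
  ∀ (R : Type u) [CommRing R] (j : Spec (CommRingCat.of R) ⟶ S) [IsOpenImmersion j] (C : Type u) [CommRing C]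
    [Algebra R C] (I : Ideal C) (x y : C), x ∈ I → y ∈ I →
    ev j x (P.sys c) * ev j y (P.sys e) * (ev j x (P.sys c))⁻¹ * (ev j y (P.sys e))⁻¹ ∈ P.gen2 j I (P.combos c e)

theorem PairComm.symm {c e : P.D.idx} (h : P.PairComm c e) : P.PairComm e c :=
  fun R _ j _ C _ _ I x y hx hy => by
    rw [combos_comm]
    simpa [_root_.mul_assoc] using inv_mem (h R j C I y x hy hx)

theorem pairComm_self (c : P.D.idx) : P.PairComm c c := fun R _ j _ C _ _ I x y hx hy => by
  rw [← P.ev_sys_add, add_comm, P.ev_sys_add]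
  simp

/-- A commutation formula gives the membership. -/
theorem pairComm_of_formula {c e : P.D.idx}
    (h : ∀ (R : Type u) [CommRing R] (j : Spec (CommRingCat.of R) ⟶ S) [IsOpenImmersion j] (C : Type u) [CommRing C]
      [Algebra R C] (I : Ideal C) (x y : C), x ∈ I → y ∈ I → ∃ T ∈ P.gen2 j I (P.combos c e),
        ev j y (P.sys c) * ev j x (P.sys e) = ev j x (P.sys e) * ev j y (P.sys c) * T) :
    P.PairComm c e := fun R _ j _ C _ _ I x y hx hy => by
  obtain ⟨T, hT, hTe⟩ := h R j C I (-y) (-x) (neg_mem hy) (neg_mem hx)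
  rw [P.ev_sys_neg, P.ev_sys_neg] at hTe
  have h2 := mul_inv_eq_iff_eq_mul.2 hTe
  have : T = ev j x (P.sys c) * ev j y (P.sys e) * (ev j x (P.sys c))⁻¹ * (ev j y (P.sys e))⁻¹ := by
    rw [eq_comm]
    calc _ = ((ev j y (P.sys e))⁻¹ * (ev j x (P.sys c))⁻¹)⁻¹ * ((ev j x (P.sys c))⁻¹ * (ev j y (P.sys e))⁻¹) := by
          group
      _ = T := by rw [hTe]; group
  rw [← this]
  exact hT

theorem PairComm.refl {c e a : P.D.idx} (ha : a ∈ P.D.base.support) (h : P.PairComm c e) :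
    P.PairComm (P.D.P.reflectionPerm a c) (P.D.P.reflectionPerm a e) := fun R _ j _ C _ _ I x y hx hy => by
  obtain ⟨ε, hε, h1⟩ := P.car_sys ha c
  obtain ⟨δ, hδ, h2⟩ := P.car_sys ha e
  have e1 : (ε : C) * ((ε : C) * x) = x := by rcases hε with e | e <;> simp [e]
  have e2 : (δ : C) * ((δ : C) * y) = y := by rcases hδ with e | e <;> simp [e]
  have hm := P.res_conj_mem j ha (h R j C I _ _ (I.mul_mem_left (ε : C) hx) (I.mul_mem_left (δ : C) hy))
  have hsub : P.D.P.reflectionPerm a '' P.combos c e ⊆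
      P.combos (P.D.P.reflectionPerm a c) (P.D.P.reflectionPerm a e) := by
    rintro _ ⟨g, ⟨i, k, hi, hk, hg⟩, rfl⟩
    exact ⟨i, k, hi, hk, by rw [P.D.P.root_reflectionPerm, P.D.P.root_reflectionPerm, P.D.P.root_reflectionPerm, hg,
      map_add, map_nsmul, map_nsmul]⟩
  have hm' := P.gen2_mono j hsub hm
  have k1 := h1 R j C ((ε : C) * x)
  have k2 := h2 R j C ((δ : C) * y)
  rw [e1] at k1
  rw [e2] at k2
  rw [← k1, ← k2]
  convert hm' using 1
  group

theorem PairComm.word {c e : P.D.idx} (h : P.PairComm c e) :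
    ∀ {l : List P.D.idx}, (∀ x ∈ l, x ∈ P.D.base.support) → P.PairComm (wd P.D.P l • c) (wd P.D.P l • e)
  | [], _ => by simpa [wd_nil] using h
  | a :: l, hl => by
    rw [wd_cons, mul_smul, mul_smul, reflection_smul_idx, reflection_smul_idx]
    exact (PairComm.word h fun x hx => hl x (List.mem_cons_of_mem _ hx)).refl P (hl a List.mem_cons_self)

/-- Pairs of root groups without combinations in either group commute. -/
theorem pairComm_of_commute {c e : P.D.idx} (h0 : P.D.P.root c + P.D.P.root e ≠ 0)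
    (h0' : (P.q c : ℤ) • P.D.P.root c + (P.q e : ℤ) • P.D.P.root e ≠ 0)
    (h1 : ∀ g, P.D.P.root g ≠ P.D.P.root c + P.D.P.root e)
    (h1' : ∀ g, (P.q g : ℤ) • P.D.P.root g ≠ (P.q c : ℤ) • P.D.P.root c + (P.q e : ℤ) • P.D.P.root e) :
    P.PairComm c e := fun R _ j _ C _ _ I x y hx hy => by
  have hG : (gp j x ≫ (P.sys c).1) * (gp j y ≫ (P.sys e).1) = (gp j y ≫ (P.sys e).1) * (gp j x ≫ (P.sys c).1) :=
    commute_roots (D := P.D.toSplitRed) (v := fun g => (P.sys g).1) P.rootHom_sys₁ h0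
      (fun ⟨g, hg⟩ => h1 g hg) x y
  have hG' : (gp j x ≫ (P.sys c).2) * (gp j y ≫ (P.sys e).2) = (gp j y ≫ (P.sys e).2) * (gp j x ≫ (P.sys c).2) := by
    rw [P.sys_snd, P.sys_snd, ← Category.assoc, ← Category.assoc, P.gp_fr, P.gp_fr]
    refine commute_roots (D := P.D'.toSplitRed) (v := P.sys') P.rootHom_sys' (fun h => h0' ?_)
      (fun ⟨g, hg⟩ => h1' (P.d.symm g) ?_) _ _
    · rw [← P.root_map, ← P.root_map, ← map_add, h, map_zero]
    · rw [← P.root_map, Equiv.apply_symm_apply, hg, map_add, P.root_map, P.root_map]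
  have : ev j x (P.sys c) * ev j y (P.sys e) = ev j y (P.sys e) * ev j x (P.sys c) := Prod.ext hG hG'
  rw [this]
  simp

end Groth.L14.Iso.Dat
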