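import Groth.Agent.L14.Coroot.Hom
import Groth.Agent.L14.Chev.System
import Groth.Agent.L14.Chev.Cell.NegBase

/-!
Data of a morphism of pinned root data between two pinned groups, and the twisted root homomorphisms it defines.
-/

set_option autoImplicit false
universe u

open CategoryTheory CategoryTheory.Limits AlgebraicGeometry MonoidalCategory CartesianMonoidalCategory MonObj
open Groth.L14.RankOne Groth.L25 Groth.L14.Chart Groth.L14.Chev Groth.L14.Chev.Cell Groth.L14.Coroot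
open Groth.L24.RootD (wd wd_append wd_nil wd_singleton wd_cons root_smul reflection_smul_idx)

set_option backward.isDefEq.respectTransparency.types false
set_option linter.style.haveILetI false
set_option linter.unusedSectionVars false
set_option maxHeartbeats 1000000

noncomputable section

namespace Groth.L14.Iso

/-- A morphism of pinned root data between pinned groups, with exponents compatible with addition. -/
structure Dat {S : Scheme.{u}} (G G' : Over S) [GrpObj G] [GrpObj G'] where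
  D : Red.Pinning G
  D' : Red.Pinning G'
  h : D'.M →ₗ[ℤ] D.M
  d : D.idx ≃ D'.idx
  q : D.idx → ℕ
  root_map : ∀ a, h (D'.P.root (d a)) = (q a : ℤ) • D.P.root a
  coroot_map : ∀ a, h.dualMap (D.P.coroot a) = (q a : ℤ) • D'.P.coroot (d a)
  base_map : ∀ a, a ∈ D.base.support ↔ d a ∈ D'.base.support
  q_pos : ∀ a, 0 < q a
  q_add : ∀ a (X : Over S) (x y : Γ(X.left, ⊤)), (x + y) ^ q a = x ^ q a + y ^ q a
  e₁ : 𝟙_ (Over S) ⟶ Red.Ga S
  he₁ : Red.gaFn e₁ = 1
  hdual : ∀ a ∈ D.base.support,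
    DualAt (D := D.toSplitRed) (fun c => coav D.toSplitRed c) D.u (opp D.u) a
  hdual' : ∀ a ∈ D'.base.support,
    DualAt (D := D'.toSplitRed) (fun c => coav D'.toSplitRed c) D'.u (opp D'.u) a

variable {S : Scheme.{u}} {G G' : Over S} [GrpObj G] [GrpObj G'] (P : Dat G G')

namespace Dat

/-- The coroot homomorphisms of the source. -/
abbrev avc : P.D.idx → (Red.Gm S ⟶ P.D.T) := fun c => coav P.D.toSplitRed c

/-- The coroot homomorphisms of the target. -/
abbrev avc' : P.D'.idx → (Red.Gm S ⟶ P.D'.T) := fun c => coav P.D'.toSplitRed c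

theorem havc : ∀ a, P.avc a = Red.DSmap S (P.D.P.coroot a).toAddMonoidHom ≫ P.D.split.inv.hom.hom := fun _ => rfl

theorem havc' : ∀ a, P.avc' a = Red.DSmap S (P.D'.P.coroot a).toAddMonoidHom ≫ P.D'.split.inv.hom.hom :=
  fun _ => rfl

/-- The Weyl elements of the source. -/
def w (a : P.D.idx) : 𝟙_ (Over S) ⟶ G :=
  (P.e₁ ≫ P.D.u a) * (P.e₁ ≫ P.D.u (P.D.P.reflectionPerm a a))⁻¹ * (P.e₁ ≫ P.D.u a)

/-- The Weyl elements of the target. -/
def w' (a : P.D'.idx) : 𝟙_ (Over S) ⟶ G' :=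
  (P.e₁ ≫ P.D'.u a) * (P.e₁ ≫ P.D'.u (P.D'.P.reflectionPerm a a))⁻¹ * (P.e₁ ≫ P.D'.u a)

theorem hw : ∀ a, P.w a =
    (P.e₁ ≫ P.D.u a) * (P.e₁ ≫ P.D.u (P.D.P.reflectionPerm a a))⁻¹ * (P.e₁ ≫ P.D.u a) := fun _ => rfl

theorem hw' : ∀ a, P.w' a =
    (P.e₁ ≫ P.D'.u a) * (P.e₁ ≫ P.D'.u (P.D'.P.reflectionPerm a a))⁻¹ * (P.e₁ ≫ P.D'.u a) := fun _ => rfl

theorem pairing_map (a b : P.D.idx) :
    P.D'.P.pairing (P.d a) (P.d b) * P.q b = P.q a * P.D.P.pairing a b := by
  have h1 := LinearMap.congr_fun (P.coroot_map b) (P.D'.P.root (P.d a))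
  rw [LinearMap.dualMap_apply, P.root_map, map_smul, LinearMap.smul_apply] at h1
  rw [show P.D.P.coroot b (P.D.P.root a) = P.D.P.pairing a b by
    rw [← P.D.P.root_coroot_eq_pairing, P.D.pairing_eq]; rfl,
    show P.D'.P.coroot (P.d b) (P.D'.P.root (P.d a)) = P.D'.P.pairing (P.d a) (P.d b) by
    rw [← P.D'.P.root_coroot_eq_pairing, P.D'.pairing_eq]; rfl] at h1
  simp only [smul_eq_mul] at h1
  linear_combination -h1

theorem eq_of_smul_root {i k : P.D.idx} {s t : ℤ} (hs : 0 < s) (ht : 0 < t)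
    (h : s • P.D.P.root i = t • P.D.P.root k) : i = k := by
  haveI := isReduced P.D.P P.D.base
  haveI : IsAddTorsionFree P.D.M := .of_isTorsionFree ℤ P.D.M
  have hdep : ¬ LinearIndependent ℤ ![P.D.P.root i, P.D.P.root k] := fun hh => by
    have := (LinearIndependent.pair_iff.1 hh s (-t) (by rw [neg_smul, h, add_neg_cancel])).1
    omega
  rcases RootPairing.IsReduced.eq_or_eq_neg i k hdep with e | e
  · exact P.D.P.root.injective e
  · rw [e, smul_neg, neg_eq_iff_add_eq_zero, ← add_smul, smul_eq_zero] at h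
    rcases h with h | h
    · omega
    · exact absurd h (P.D.P.ne_zero k)

theorem d_refl_and_q (b a : P.D.idx) :
    P.d (P.D.P.reflectionPerm b a) = P.D'.P.reflectionPerm (P.d b) (P.d a) ∧
      P.q (P.D.P.reflectionPerm b a) = P.q a := by
  obtain ⟨e, he⟩ := P.d.surjective (P.D'.P.reflectionPerm (P.d b) (P.d a))
  have h1 : (P.q e : ℤ) • P.D.P.root e = (P.q a : ℤ) • P.D.P.root (P.D.P.reflectionPerm b a) := by
    rw [← P.root_map, he, P.D'.P.root_reflectionPerm, P.D'.P.reflection_apply_root, map_sub, map_smul,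
      P.root_map, P.root_map, P.D.P.root_reflectionPerm, P.D.P.reflection_apply_root, smul_sub, smul_smul,
      smul_smul, P.pairing_map]
  obtain rfl := P.eq_of_smul_root (by have := P.q_pos e; omega) (by have := P.q_pos a; omega) h1
  refine ⟨he, ?_⟩
  haveI : IsAddTorsionFree P.D.M := .of_isTorsionFree ℤ P.D.M
  rw [← sub_eq_zero, ← sub_smul, smul_eq_zero] at h1
  rcases h1 with h1 | h1
  · omega
  · exact absurd h1 (P.D.P.ne_zero _)

theorem d_refl (b a : P.D.idx) : P.d (P.D.P.reflectionPerm b a) = P.D'.P.reflectionPerm (P.d b) (P.d a) :=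
  (P.d_refl_and_q b a).1

theorem q_refl (b a : P.D.idx) : P.q (P.D.P.reflectionPerm b a) = P.q a := (P.d_refl_and_q b a).2

theorem wd_map (l : List P.D.idx) (a : P.D.idx) :
    wd P.D'.P (l.map P.d) • P.d a = P.d (wd P.D.P l • a) ∧ P.q (wd P.D.P l • a) = P.q a := by
  induction l with
  | nil => simp [wd_nil]
  | cons b l ih =>
    rw [List.map_cons, wd_cons, wd_cons, mul_smul, mul_smul, ih.1, reflection_smul_idx, reflection_smul_idx,
      P.d_refl, P.q_refl]
    exact ⟨rfl, ih.2⟩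

theorem map_mem_support {l : List P.D.idx} (hl : ∀ x ∈ l, x ∈ P.D.base.support) :
    ∀ x ∈ l.map P.d, x ∈ P.D'.base.support := fun x hx => by
  obtain ⟨y, hy, rfl⟩ := List.mem_map.1 hx
  exact (P.base_map y).1 (hl y hy)

section Rings

variable {R : Type u} [CommRing R] {j : Spec (CommRingCat.of R) ⟶ S} {C : Type u} [CommRing C] [Algebra R C]

include j in
theorem add_pow (a : P.D.idx) (x y : C) : (x + y) ^ P.q a = x ^ P.q a + y ^ P.q a := by
  let e := (Scheme.ΓSpecIso (CommRingCat.of C)).commRingCatIsoToRingEquiv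
  have h := congrArg e (P.q_add a (Sp j C) (e.symm x) (e.symm y))
  simpa only [map_add, map_pow, RingEquiv.apply_symm_apply] using h

include j in
theorem neg_pow' (a : P.D.idx) (x : C) : (-x) ^ P.q a = -(x ^ P.q a) := by
  have h := P.add_pow (j := j) a x (-x)
  rw [add_neg_cancel, zero_pow (P.q_pos a).ne'] at h
  linear_combination -h

/-- The power map of the additive group. -/
def fr (a : P.D.idx) : Red.Ga S ⟶ Red.Ga S := GaPts.ptOfElt (Red.gaFn (𝟙 (Red.Ga S)) ^ P.q a)

theorem gaFn_fr (a : P.D.idx) {X : Over S} (x : X ⟶ Red.Ga S) :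
    Red.gaFn (x ≫ P.fr a) = Red.gaFn x ^ P.q a := by
  rw [fr, GaPts.gaFn_comp, GaPts.gaFn_ptOfElt, map_pow, ← GaPts.gaFn_comp, Category.comp_id]

instance isMonHom_fr (a : P.D.idx) : IsMonHom (P.fr a) :=
  Groth.L25.Bridge.isMonHom_of_mul _ fun X x y => GaPts.gaFn_injective (by
    change Red.gaFn _ = Red.gaFn _
    rw [GaPts.gaFn_mul, P.gaFn_fr, P.gaFn_fr, P.gaFn_fr, GaPts.gaFn_mul, P.q_add])

theorem gp_fr (a : P.D.idx) (x : C) : gp j x ≫ P.fr a = gp j (x ^ P.q a) := GaPts.gaFn_injective (by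
  change Red.gaFn _ = Red.gaFn _
  rw [P.gaFn_fr, gaFn_gp, gaFn_gp, map_pow])

/-- The twisted root homomorphism of the target. -/
def tu (a : P.D.idx) : Red.Ga S ⟶ G' := P.fr a ≫ P.D'.u (P.d a)

instance isMonHom_tu (a : P.D.idx) : IsMonHom (P.tu a) := by
  haveI := (P.D'.rootHom (P.d a)).1
  unfold tu; infer_instance

theorem gp_tu (a : P.D.idx) (x : C) : gp j x ≫ P.tu a = gp j (x ^ P.q a) ≫ P.D'.u (P.d a) := by
  rw [tu, ← Category.assoc, P.gp_fr]

/-- The homomorphism of tori. -/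
def φT : P.D.T ⟶ P.D'.T :=
  P.D.split.hom.hom.hom ≫ Red.DSmap S P.h.toAddMonoidHom ≫ P.D'.split.inv.hom.hom

/-- The transported character. -/
def chMap (χ : Multiplicative P.D.M →* C) : Multiplicative P.D'.M →* C :=
  χ.comp (AddMonoidHom.toMultiplicative P.h.toAddMonoidHom)

theorem chMap_apply (χ : Multiplicative P.D.M →* C) (m : P.D'.M) :
    P.chMap χ (Multiplicative.ofAdd m) = χ (Multiplicative.ofAdd (P.h m)) := rfl

theorem tpt_φT (χ : Multiplicative P.D.M →* C) :
    tpt P.D.toSplitRed j χ ≫ P.φT = tpt P.D'.toSplitRed j (P.chMap χ) := by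
  rw [φT, ← Category.assoc, ← Category.assoc, tpt_hom, tpt]
  congr 1
  refine DSPts.char_injective (MonoidHom.ext fun m => ?_)
  rw [SplitSub.char_DSmap, DSPts.char_pt, DSPts.char_pt]
  rfl

theorem chMap_root (χ : Multiplicative P.D.M →* C) (a : P.D.idx) :
    P.chMap χ (Multiplicative.ofAdd (P.D'.P.root (P.d a))) = χ (Multiplicative.ofAdd (P.D.P.root a)) ^ P.q a := by
  rw [P.chMap_apply, P.root_map, natCast_zsmul, ofAdd_nsmul, map_pow]

theorem chMap_cochi (a : P.D.idx) (z : Cˣ) :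
    P.chMap (cochi (D := P.D.toSplitRed) a z) = cochi (D := P.D'.toSplitRed) (P.d a) (z ^ P.q a) := by
  refine MonoidHom.ext fun m => ?_
  obtain ⟨m, rfl⟩ := Multiplicative.ofAdd.surjective m
  have h1 := LinearMap.congr_fun (P.coroot_map a) m
  rw [LinearMap.dualMap_apply, LinearMap.smul_apply] at h1
  simp only [chMap_apply, cochi, MonoidHom.coe_comp, Function.comp_apply, AddMonoidHom.toMultiplicative_apply_apply,
    toAdd_ofAdd, zpowersHom_apply, LinearMap.toAddMonoidHom_coe, h1, smul_eq_mul]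
  rw [zpow_mul, zpow_natCast]

theorem chMap_refl (χ : Multiplicative P.D.M →* C) (a : P.D.idx) :
    P.chMap (reflChar (D := P.D.toSplitRed) a χ) = reflChar (D := P.D'.toSplitRed) (P.d a) (P.chMap χ) := by
  refine MonoidHom.ext fun m => ?_
  obtain ⟨m, rfl⟩ := Multiplicative.ofAdd.surjective m
  show χ (Multiplicative.ofAdd (P.D.P.reflection a (P.h m))) =
    χ (Multiplicative.ofAdd (P.h (P.D'.P.reflection (P.d a) m)))
  congr 2
  have h1 := LinearMap.congr_fun (P.coroot_map a) m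
  rw [LinearMap.dualMap_apply, LinearMap.smul_apply, smul_eq_mul] at h1
  rw [P.D.P.reflection_apply, P.D'.P.reflection_apply, map_sub, map_smul, P.root_map, smul_smul,
    show P.D.P.coroot' a (P.h m) = P.D.P.coroot a (P.h m) by rw [RootPairing.coroot', P.D.pairing_eq]; rfl,
    show P.D'.P.coroot' (P.d a) m = P.D'.P.coroot (P.d a) m by rw [RootPairing.coroot', P.D'.pairing_eq]; rfl, h1]
  rw [mul_comm]

theorem conj_tu (χ : Multiplicative P.D.M →* C) (a : P.D.idx) (x : C) :
    (tpt P.D'.toSplitRed j (P.chMap χ) ≫ P.D'.i) * (gp j x ≫ P.tu a) * (tpt P.D'.toSplitRed j (P.chMap χ) ≫ P.D'.i)⁻¹ =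
      gp j (χ (Multiplicative.ofAdd (P.D.P.root a)) * x) ≫ P.tu a := by
  rw [P.gp_tu, P.gp_tu, conj_root j P.D'.rootHom, P.chMap_root, mul_pow]

end Rings

end Dat

end Groth.L14.Iso
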