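import Groth.Agent.L14.Luna.SemiRank.SplitField
import Groth.Agent.L14.RankOne.NonComm
import Groth.Agent.L08.Borel.CommTorus
import Groth.Agent.L08.Borel.IsoBase
import Groth.Agent.L08.Borel.MaxToriConj
import Groth.Agent.L14.Chev.Cell.Reflect
import Groth.Agent.S8091
import Groth.Agent.S2963

/-!
The splitting of a geometric fibre, and the root datum of a split group is that of each geometric fibre.
-/

set_option autoImplicit false
universe u

open CategoryTheory CategoryTheory.Limits MonoidalCategory CartesianMonoidalCategory MonObj GrpObj AlgebraicGeometry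
open Groth.L25 Groth.L14.Luna.SemiRank

set_option backward.isDefEq.respectTransparency.types false
set_option linter.style.haveILetI false
set_option linter.unusedSectionVars false
set_option maxHeartbeats 1000000

noncomputable section

namespace Groth.L14.Iso

attribute [local instance] Red.SplitRed.grpT Red.SplitRed.acgM Red.SplitRed.finiteM Red.SplitRed.freeM
  Red.SplitRed.fintypeIdx

variable {S : Scheme.{u}} {G : Over S} [GrpObj G] (D : Red.SplitRed G) (s : S)

local notation "gs" => Red.geomPt s
local notation "SΩ" => Spec (CommRingCat.of (AlgebraicClosure (S.residueField s)))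

/-- Dimensions of geometric fibres over an algebraically closed field. -/
theorem dim_geomFibre_self {k : Type u} [Field k] [IsAlgClosed k] (X : Over (Spec (CommRingCat.of k)))
    (t : ↥(Spec (CommRingCat.of k))) :
    topologicalKrullDim ↥(Red.geomFibre t X).left = topologicalKrullDim ↥X.left := by
  obtain ⟨ι', h1, h2⟩ := Groth.L08.Borel.exists_inverse_geomPt t
  haveI : IsIso (Red.geomPt t) := ⟨ι', h2, h1⟩
  haveI : IsIso (pullback.fst X.hom (Red.geomPt t)) := inferInstance
  exact IsHomeomorph.topologicalKrullDim_eq _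
    (Scheme.homeoOfIso (asIso (pullback.fst X.hom (Red.geomPt t)))).isHomeomorph

include D in
/-- The geometric fibre of a reductive group is reductive. -/
theorem isReductive_fibre : Red.IsReductive (Red.geomFibre s G) := by
  obtain ⟨ha, hs, hc, hU⟩ := D.reductive.2.2 s
  haveI := ha; haveI := hs; haveI := hc
  exact _root_.isReductive_of_isReductiveOver hU

/-- The splitting of a geometric fibre. -/
theorem exists_split_fibre :
    ∃ D' : Red.SplitRed (Red.geomFibre s G), Nonempty (RootPairing.Equiv D'.P D.P) := by
  haveI := isMonHom_eΩ D s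
  haveI := isIso_eΩ D s
  have hcomm : ∀ f : D.M →ₗ[ℤ] D.M,
      (Over.pullback gs).map (D.split.hom.hom.hom ≫ Red.DSmap S f.toAddMonoidHom ≫ D.split.inv.hom.hom) =
        eΩ D s ≫ Red.DSmap SΩ f.toAddMonoidHom ≫ inv (eΩ D s) := by
    intro f
    rw [← Category.assoc, ← Category.assoc, IsIso.eq_comp_inv]
    simp only [eΩ, Functor.map_comp, Category.assoc]
    rw [← Groth.L08.Borel.bc_DSmap, ← Category.assoc ((Over.pullback gs).map D.split.inv.hom.hom),
      ← Functor.map_comp, show D.split.inv.hom.hom ≫ D.split.hom.hom.hom = 𝟙 _ from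
        congrArg (fun f => f.hom.hom) D.split.inv_hom_id, CategoryTheory.Functor.map_id, Category.id_comp]
  let D' : Red.SplitRed (Red.geomFibre s G) :=
    { T := TΩ D s
      i := iΩ D s
      M := D.M
      idx := D.idx
      P := D.P
      pairing_eq := D.pairing_eq
      u := uΩ D s
      reductive := isReductive_fibre D s
      maximalTorus := Groth.L08.Borel.isMaximalTorus_of_isMaxTorus (isMaxTorus_iΩ D s)
      split := Grp.mkIso' (asIso (eΩ D s))
      rootHom := fun c => isRootHom_uΩ D s c
      refl := fun a => by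
        obtain ⟨n, hn⟩ := D.refl a
        refine ⟨NilAction.ofBase gs (toUnit _ ≫ n), fun X t => ?_⟩
        refine toBase_inj gs ?_
        have hinv : ∀ z : X ⟶ Red.geomFibre s G, NilAction.toBase gs z⁻¹ = (NilAction.toBase gs z)⁻¹ := fun z =>
          map_inv (MonoidHom.mk' (NilAction.toBase gs : (X ⟶ Red.geomFibre s G) → _) (NilAction.toBase_mul gs)) z
        have hn' : NilAction.toBase gs (toUnit X ≫ NilAction.ofBase gs (toUnit _ ≫ n)) = toUnit _ ≫ n := by
          rw [Groth.L08.Borel.toBase_comp, NilAction.toBase_ofBase]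
          exact (Category.assoc _ _ _).symm.trans (congrArg (· ≫ n) (toUnit_unique _ _))
        simp only [NilAction.toBase_mul, hinv, hn']
        rw [show iΩ D s = (Over.pullback gs).map D.i from rfl, Groth.L14.RankOne.toBase_comp_map, hn,
          show (Grp.mkIso' (asIso (eΩ D s))).hom.hom.hom = eΩ D s from rfl,
          show (Grp.mkIso' (asIso (eΩ D s))).inv.hom.hom = inv (eΩ D s) from rfl]
        have e : t ≫ eΩ D s ≫ Red.DSmap SΩ (D.P.reflection a).toLinearMap.toAddMonoidHom ≫ inv (eΩ D s) ≫
            (Over.pullback gs).map D.i = t ≫ (Over.pullback gs).map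
              (D.split.hom.hom.hom ≫ Red.DSmap S (D.P.reflection a).toLinearMap.toAddMonoidHom ≫
                D.split.inv.hom.hom ≫ D.i) := by
          have h := hcomm (D.P.reflection a).toLinearMap
          rw [← Category.assoc D.split.hom.hom.hom, ← Category.assoc _ D.split.inv.hom.hom, Functor.map_comp,
            Category.assoc D.split.hom.hom.hom, h]
          simp only [Category.assoc]
        rw [e, Groth.L14.RankOne.toBase_comp_map]
      dim_fibre := fun t => by rw [dim_geomFibre_self, D.dim_fibre s] }
  exact ⟨D', ⟨RootPairing.Equiv.id D.P⟩⟩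

/-- The root datum of a split group is the type of each geometric fibre. -/
theorem equiv_of_fibre_type {ι' M' N' : Type} [AddCommGroup M'] [Module ℤ M'] [AddCommGroup N'] [Module ℤ N']
    {Q : RootPairing ι' ℤ M' N'} (hs : Red.IsSplitOfType Q (Red.geomFibre s G)) :
    Nonempty (RootPairing.Equiv D.P Q) := by
  obtain ⟨D₀, ⟨e₀⟩⟩ := hs
  obtain ⟨D', ⟨e'⟩⟩ := exists_split_fibre D s
  obtain ⟨e⟩ := Groth.Agent.S2963.result _ (Red.geomFibre s G) (isReductive_fibre D s) (fun T T' _ _ i i' hi hi' => by
    obtain ⟨ha, hsm, -, -⟩ := D.reductive.2.2 s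
    haveI := ha; haveI := hsm
    haveI : QuasiCompact (Red.geomFibre s G).hom := inferInstance
    obtain ⟨g, f, hf⟩ := Groth.L08.Borel.exists_maxTorus_conj_any (Groth.L08.Borel.isMaxTorus_of_isMaximalTorus hi)
      (Groth.L08.Borel.isMaxTorus_of_isMaximalTorus hi')
    refine ⟨g, fun X t => ⟨t ≫ f.hom, ?_⟩⟩
    rw [Category.assoc, hf]
    simp only [AGF.conjBy, MonObj.comp_mul, GrpObj.comp_inv, ← Category.assoc, comp_toUnit]) D' D₀
  exact ⟨RootPairing.Equiv.comp e₀ (RootPairing.Equiv.comp e e'.symm)⟩

end Groth.L14.Iso
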