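import Groth.Agent.L14.Iso.Mult
import Groth.Agent.L14.Coroot.Hom

/-!
The homomorphism defined by a morphism of pinned root data, and its uniqueness.
-/

set_option autoImplicit false
universe u

open CategoryTheory CategoryTheory.Limits AlgebraicGeometry MonoidalCategory CartesianMonoidalCategory MonObj
open Groth.L14.RankOne Groth.L25 Groth.L14.Chart Groth.L14.Chev Groth.L14.Chev.Cell Groth.L14.Coroot
open Groth.L14.Chev.Words
open Groth.L24.RootD (wd wd_append wd_nil wd_singleton wd_cons)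

set_option backward.isDefEq.respectTransparency.types false
set_option linter.style.haveILetI false
set_option linter.unusedSectionVars false
set_option maxHeartbeats 1000000

noncomputable section

namespace Groth.L14.Iso

variable {S : Scheme.{u}} {G G' : Over S} [GrpObj G] [GrpObj G']

/-- A homomorphism maps a product of a list to the product of the images. -/
theorem list_prod_comp {X : Over S} {F : G ⟶ G'} [IsMonHom F] (l : List (X ⟶ G)) :
    l.prod ≫ F = (l.map fun g => g ≫ F).prod := by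
  induction l with
  | nil => exact MonObj.one_comp _
  | cons g l ih => rw [List.prod_cons, List.map_cons, List.prod_cons, MonObj.mul_comp, ih]

variable (P : Dat G G')

namespace Dat

/-- The map on the big cell. -/
def cellF {n m : ℕ} (eneg : Fin n → P.D.idx) (epos : Fin m → P.D.idx) : cellSpace P.src n m ⟶ G' :=
  (fst _ _ ≫ RedSub.prodMap (Red.Ga S) n (fun k => (P.sys (eneg k)).2)) *
    ((snd _ _ ≫ fst _ _ ≫ P.φT ≫ P.D'.i) *
      (snd _ _ ≫ snd _ _ ≫ RedSub.prodMap (Red.Ga S) m (fun k => (P.sys (epos k)).2)))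

theorem prod2_snd_ofFn {R : Type u} [CommRing R] {j : Spec (CommRingCat.of R) ⟶ S} {C : Type u} [CommRing C]
    [Algebra R C] {k : ℕ} (e : Fin k → P.D.idx) (y : P.D.idx → C) :
    (P.prod2 j (List.ofFn e) y).2 = (List.ofFn fun i => gp j (y (e i)) ≫ (P.sys (e i)).2).prod := by
  rw [prod2, ← MonoidHom.coe_snd, map_list_prod, List.map_map, List.map_ofFn]
  rfl

theorem lift_cellF {R : Type u} [CommRing R] {j : Spec (CommRingCat.of R) ⟶ S} {C : Type u} [CommRing C]
    [Algebra R C] {n m : ℕ} (eneg : Fin n → P.D.idx) (epos : Fin m → P.D.idx) (χ : Multiplicative P.D.M →* C)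
    (y x : P.D.idx → C) :
    lift (tup n fun k => gp j (y (eneg k))) (lift (tpt P.src j χ) (tup m fun k => gp j (x (epos k)))) ≫
        P.cellF eneg epos = (P.cell2 j (List.ofFn eneg) (List.ofFn epos) χ y x).2 := by
  rw [cell2, Prod.snd_mul, Prod.snd_mul, P.prod2_snd_ofFn, P.prod2_snd_ofFn]
  rw [cellF, MonObj.comp_mul, MonObj.comp_mul, lift_fst_assoc, lift_snd_assoc, lift_snd_assoc, lift_fst_assoc,
    lift_snd_assoc, comp_prodMap, comp_prodMap]
  simp only [tup_proj]
  congr 2
  show tpt P.src j χ ≫ P.φT ≫ P.D'.i = tpt P.D'.toSplitRed j (P.chMap χ) ≫ P.D'.i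
  rw [← Category.assoc, ← P.tpt_φT]
  rfl

/-- Multiplicativity of the map on the big cell. -/
theorem cellF_mul {n m : ℕ} {eneg : Fin n → P.D.idx} {epos : Fin m → P.D.idx}
    (hneg : RedSub.Enumerates (RedSub.negRoots P.D.P P.D.base) eneg)
    (hpos : RedSub.Enumerates (RedSub.posRoots P.D.P P.D.base) epos) (X : Over S)
    (x y z : X ⟶ cellSpace P.src n m)
    (h : z ≫ RedSub.cellMap P.src eneg epos =
      (x ≫ RedSub.cellMap P.src eneg epos) * (y ≫ RedSub.cellMap P.src eneg epos)) :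
    z ≫ P.cellF eneg epos = (x ≫ P.cellF eneg epos) * (y ≫ P.cellF eneg epos) := by
  refine hom_ext_open fun R _ j _ C _ _ t => ?_
  have h' : (t ≫ z) ≫ RedSub.cellMap P.src eneg epos =
      ((t ≫ x) ≫ RedSub.cellMap P.src eneg epos) * ((t ≫ y) ≫ RedSub.cellMap P.src eneg epos) := by
    rw [Category.assoc, h, MonObj.comp_mul, Category.assoc, Category.assoc]
  obtain ⟨χ₁, y₁, x₁, e₁, t₁⟩ := exists_coords (D := P.src) (t ≫ x) hneg.1 hpos.1
  obtain ⟨χ₂, y₂, x₂, e₂, t₂'⟩ := exists_coords (D := P.src) (t ≫ y) hneg.1 hpos.1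
  obtain ⟨χ₃, y₃, x₃, e₃, t₃⟩ := exists_coords (D := P.src) (t ≫ z) hneg.1 hpos.1
  rw [e₁, e₂, e₃, ← P.cell2_fst, ← P.cell2_fst, ← P.cell2_fst] at h'
  have h2 := congrArg Prod.snd (P.cell2_mul hneg hpos h')
  rw [Prod.snd_mul, ← P.lift_cellF eneg epos, ← P.lift_cellF eneg epos, ← P.lift_cellF eneg epos, ← t₁, ← t₂',
    ← t₃] at h2
  rw [MonObj.comp_mul, ← Category.assoc, ← Category.assoc, ← Category.assoc]
  exact h2

/-- The properties of the homomorphism of the morphism of pinned root data. -/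
def IsHomOf (F : G ⟶ G') : Prop :=
  IsMonHom F ∧ P.D.i ≫ F = P.φT ≫ P.D'.i ∧ ∀ a ∈ P.D.base.support,
    P.D.u a ≫ F = P.tu a ∧ opp P.D.u a ≫ F = P.tu (P.D.P.reflectionPerm a a)

/-- A morphism of pinned root data defines a homomorphism. -/
theorem exists_hom : ∃ F : G ⟶ G', P.IsHomOf F := by
  classical
  obtain ⟨m, epos, hpos⟩ := exists_enum (D := P.src) (RedSub.posRoots P.D.P P.D.base)
  obtain ⟨n, eneg, hneg⟩ := exists_enum (D := P.src) (RedSub.negRoots P.D.P P.D.base)
  haveI := reductive_affine P.src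
  haveI := reductive_smooth P.src
  haveI := reductive_affine P.D'.toSplitRed
  haveI := isOpenImmersion_cellMap (D := P.src) hneg hpos
  haveI := (affSmooth_cell P.src n m).1
  haveI := isMonHom_i (D := P.src)
  let o : 𝟙_ (Over S) ⟶ cellSpace P.src n m := (1 : 𝟙_ (Over S) ⟶ P.src.T) ≫ torPt P.src n m
  have ho : o ≫ RedSub.cellMap P.src eneg epos = 1 := by
    simp only [o, Category.assoc, torPt_cellMap, MonObj.one_comp]
  have hf : ∀ (X : Over S) (x y z : X ⟶ cellSpace P.src n m), z ≫ RedSub.cellMap P.src eneg epos =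
      (x ≫ RedSub.cellMap P.src eneg epos) * (y ≫ RedSub.cellMap P.src eneg epos) →
      z ≫ P.cellF eneg epos = (x ≫ P.cellF eneg epos) * (y ≫ P.cellF eneg epos) :=
    fun X x y z h => P.cellF_mul hneg hpos X x y z h
  have hex := Groth.L14.CellHom.existsUnique_hom (H := G') (RedSub.cellMap P.src eneg epos) o ho
    (Groth.L14.TypeR.irrFib_splitRed P.src) (P.cellF eneg epos) hf
  obtain ⟨F, hFF, -⟩ := hex
  haveI : IsMonHom F := hFF.1
  have hFc := hFF.2
  have hcell : ∀ {R : Type u} [CommRing R] {j : Spec (CommRingCat.of R) ⟶ S} {C : Type u} [CommRing C]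
      [Algebra R C] (χ : Multiplicative P.D.M →* C) (y x : P.D.idx → C),
      (P.cell2 j (List.ofFn eneg) (List.ofFn epos) χ y x).1 ≫ F =
        (P.cell2 j (List.ofFn eneg) (List.ofFn epos) χ y x).2 := by
    intro R _ j C _ _ χ y x
    rw [← P.lift_cellF eneg epos, P.cell2_fst, ← lift_cellMap (D := P.src) (eneg := eneg) (epos := epos) χ y x,
      Category.assoc, hFc]
  have hsys : ∀ c, c ∈ RedSub.posRoots P.D.P P.D.base ∨ c ∈ RedSub.negRoots P.D.P P.D.base →
      (P.sys c).1 ≫ F = (P.sys c).2 := by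
    intro c hc
    refine hom_ext_open fun R _ j _ C _ _ t => ?_
    rw [← gp_gv (j := j) t, ← Category.assoc]
    show (ev j (gv t) (P.sys c)).1 ≫ F = (ev j (gv t) (P.sys c)).2
    have h0 : ∀ l : List P.D.idx, P.prod2 j l (fun _ => (0 : C)) = 1 := fun l => by
      simp [prod2, P.ev_sys_zero]
    rcases hc with hc | hc
    · obtain ⟨x, -, hx⟩ := P.exists_coords2 j P.good_pos (nodup_list (D := P.src) hpos)
        (mem_list_iff (D := P.src) hpos) (P.ev_mem j (I := ⊤) hc (r := gv t) trivial)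
      have h := hcell (j := j) 1 (fun _ => (0 : C)) x
      rw [cell2, h0, t2_one, _root_.one_mul, _root_.one_mul, hx] at h
      exact h
    · obtain ⟨y, -, hy⟩ := P.exists_coords2 j P.good_neg (nodup_list (D := P.src) hneg)
        (mem_list_iff (D := P.src) hneg) (P.ev_mem j (I := ⊤) hc (r := gv t) trivial)
      have h := hcell (j := j) 1 y (fun _ => (0 : C))
      rw [cell2, h0, t2_one, _root_.one_mul, _root_.mul_one, hy] at h
      exact h
  refine ⟨F, inferInstance, ?_, fun a ha => ⟨?_, ?_⟩⟩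
  · rw [show P.D.i = torPt P.src n m ≫ RedSub.cellMap P.src eneg epos from
      (torPt_cellMap (D := P.src) (n := n) (m := m) eneg epos).symm, Category.assoc, hFc]
    haveI : ∀ c, IsMonHom (P.src.u c) := fun c => (P.src.rootHom c).1
    haveI : ∀ c, IsMonHom (P.sys c).2 := fun c => by
      haveI := (P.rootHom_sys' (P.d c)).1
      rw [P.sys_snd]; infer_instance
    rw [torPt, cellF, MonObj.comp_mul, MonObj.comp_mul, lift_fst_assoc, lift_snd_assoc, lift_snd_assoc, lift_fst_assoc,
      lift_snd_assoc, comp_prodMap, comp_prodMap]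
    simp only [tup_proj,
      MonObj.one_comp, List.ofFn_const, List.prod_replicate, one_pow, _root_.one_mul, _root_.mul_one,
      Category.id_comp]
  · have h := hsys a (Or.inl (simple_pos P.D.P P.D.base ha))
    rwa [P.sys_simple ha] at h
  · have hopp := hsys _ (Or.inr (neg_simple_neg P.D.base ha))
    refine hom_ext_open fun R _ j _ C _ _ t => ?_
    rw [← gp_gv (j := j) t, ← Category.assoc]
    obtain ⟨ε, hε, h⟩ := P.ev_sys_opp (j := j) (C := C) ha
    have e : -((ε : C) * (-((ε : C) * gv t))) = gv t := by rcases hε with e | e <;> simp [e]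
    have h' := h (-((ε : C) * gv t))
    rw [e] at h'
    rw [show gp j (gv t) ≫ opp P.D.u a = _ from (congrArg Prod.fst h').symm]
    show (gp j _ ≫ (P.sys _).1) ≫ F = _
    rw [Category.assoc, hopp]
    show (ev j _ (P.sys (P.D.P.reflectionPerm a a))).2 = _
    rw [h']
    show _ = gp j (gv t) ≫ P.tu (P.D.P.reflectionPerm a a)
    rw [P.gp_tu, P.q_refl, P.d_refl]

variable {P}

/-- The homomorphism respects the system. -/
theorem IsHomOf.sys_comp {F : G ⟶ G'} (hF : P.IsHomOf F) (c : P.D.idx) : (P.sys c).1 ≫ F = (P.sys c).2 := by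
  obtain ⟨hm, -, hu⟩ := hF
  haveI := hm
  have he : ∀ b, P.e₁ ≫ P.fr b = P.e₁ := fun b => GaPts.gaFn_injective (by
    show Red.gaFn _ = Red.gaFn _
    rw [P.gaFn_fr, P.he₁, one_pow])
  have hw : ∀ a ∈ P.D.base.support, P.w a ≫ F = P.w' (P.d a) := fun a ha => by
    simp only [P.hw, P.hw', MonObj.mul_comp, GrpObj.inv_comp, Category.assoc]
    rw [(hu a ha).1, (hu a ha).2, Dat.tu, Dat.tu, P.d_refl, ← Category.assoc, ← Category.assoc, he, he]
  obtain ⟨hl, hc, -, -⟩ := P.rep_spec c
  have hN : (val P.pw (P.rep c).1).1 ≫ F = (val P.pw (P.rep c).1).2 := by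
    rw [P.val_pw]
    show (List.map P.w (P.rep c).1).prod ≫ F = (List.map P.w' ((P.rep c).1.map P.d)).prod
    rw [list_prod_comp, List.map_map, List.map_map]
    exact congrArg List.prod (List.map_congr_left fun a ha => hw a (hl a ha))
  refine hom_ext_open fun R _ j _ C _ _ t => ?_
  rw [← gp_gv (j := j) t, ← Category.assoc]
  have e1 : gp j (gv t) ≫ (P.sys c).1 = _ := congrArg Prod.fst (ev_conj2 j (gv t)
    (val P.pw (P.rep c).1) (P.pu (P.rep c).2))
  have e2 : gp j (gv t) ≫ (P.sys c).2 = _ := congrArg Prod.snd (ev_conj2 j (gv t)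
    (val P.pw (P.rep c).1) (P.pu (P.rep c).2))
  rw [e1, e2]
  show ((toUnit _ ≫ _) * (gp j (gv t) ≫ P.D.u _) * (toUnit _ ≫ _)⁻¹) ≫ F =
    (toUnit _ ≫ _) * (gp j (gv t) ≫ P.tu _) * (toUnit _ ≫ _)⁻¹
  simp only [MonObj.mul_comp, GrpObj.inv_comp, Category.assoc, hN]
  rw [(hu _ hc).1]

/-- A homomorphism is determined by its effect on the torus and on the simple root groups and their opposites. -/
theorem hom_unique {F F' : G ⟶ G'} (hF : P.IsHomOf F) (hF' : P.IsHomOf F') : F = F' := by
  classical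
  obtain ⟨hm, hi, hu⟩ := hF
  obtain ⟨hm', hi', hu'⟩ := hF'
  obtain ⟨m, epos, hpos⟩ := exists_enum (D := P.src) (RedSub.posRoots P.D.P P.D.base)
  obtain ⟨n, eneg, hneg⟩ := exists_enum (D := P.src) (RedSub.negRoots P.D.P P.D.base)
  haveI := reductive_affine P.src
  haveI := reductive_smooth P.src
  haveI := isOpenImmersion_cellMap (D := P.src) hneg hpos
  haveI := (affSmooth_cell P.src n m).1
  haveI := isMonHom_i (D := P.src)
  haveI := hm
  haveI := hm'
  have hw : ∀ a ∈ P.D.base.support, P.w a ≫ F = P.w a ≫ F' := fun a ha => by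
    simp only [P.hw, MonObj.mul_comp, GrpObj.inv_comp, Category.assoc]
    rw [(hu a ha).1, (hu' a ha).1, (hu a ha).2, (hu' a ha).2]
  have hsys : ∀ c, (P.sys c).1 ≫ F = (P.sys c).1 ≫ F' := by
    intro c
    obtain ⟨hl, hc, -, -⟩ := P.rep_spec c
    have hN : (val P.pw (P.rep c).1).1 ≫ F = (val P.pw (P.rep c).1).1 ≫ F' := by
      rw [P.val_pw]
      show (List.map P.w (P.rep c).1).prod ≫ F = (List.map P.w (P.rep c).1).prod ≫ F'
      rw [list_prod_comp, list_prod_comp, List.map_map, List.map_map]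
      exact congrArg List.prod (List.map_congr_left fun a ha => hw a (hl a ha))
    refine hom_ext_open fun R _ j _ C _ _ t => ?_
    rw [← gp_gv (j := j) t, ← Category.assoc, ← Category.assoc]
    have e : gp j (gv t) ≫ (P.sys c).1 = _ := congrArg Prod.fst (ev_conj2 j (gv t)
      (val P.pw (P.rep c).1) (P.pu (P.rep c).2))
    rw [e]
    show ((toUnit _ ≫ _) * (gp j (gv t) ≫ P.D.u _) * (toUnit _ ≫ _)⁻¹) ≫ F =
      ((toUnit _ ≫ _) * (gp j (gv t) ≫ P.D.u _) * (toUnit _ ≫ _)⁻¹) ≫ F'
    simp only [MonObj.mul_comp, GrpObj.inv_comp, Category.assoc, hN]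
    rw [(hu _ hc).1, (hu' _ hc).1]
  let o : 𝟙_ (Over S) ⟶ cellSpace P.src n m := (1 : 𝟙_ (Over S) ⟶ P.src.T) ≫ torPt P.src n m
  have ho : o ≫ RedSub.cellMap P.src eneg epos = 1 := by
    simp only [o, Category.assoc, torPt_cellMap, MonObj.one_comp]
  refine Groth.L14.CellHom.hom_ext (RedSub.cellMap P.src eneg epos) o ho
    (Groth.L14.TypeR.irrFib_splitRed P.src) ?_
  refine hom_ext_open fun R _ j _ C _ _ t => ?_
  obtain ⟨χ, y, x, e, -⟩ := exists_coords (D := P.src) t hneg.1 hpos.1
  rw [← Category.assoc, ← Category.assoc, e]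
  have hroot : ∀ (l : List P.D.idx) (z : P.D.idx → C),
      rootProd j P.src.u l z ≫ F = rootProd j P.src.u l z ≫ F' := fun l z => by
    rw [rootProd, list_prod_comp, list_prod_comp, List.map_map, List.map_map]
    exact congrArg List.prod (List.map_congr_left fun c _ => by
      show (gp j (z c) ≫ (P.sys c).1) ≫ F = (gp j (z c) ≫ (P.sys c).1) ≫ F'
      rw [Category.assoc, Category.assoc, hsys c])
  simp only [MonObj.mul_comp, hroot, Category.assoc]
  rw [show P.src.i ≫ F = P.src.i ≫ F' from hi.trans hi'.symm]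

variable (P) in
/-- The homomorphism exists and is unique. -/
theorem existsUnique_isHomOf : ∃! F : G ⟶ G', P.IsHomOf F :=
  let ⟨F, hF⟩ := P.exists_hom
  ⟨F, hF, fun _ hF' => hom_unique hF' hF⟩

end Dat

end Groth.L14.Iso
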