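import Groth.Agent.L14.Iso.Small
import Groth.Agent.L14.Coroot.Mult

/-!
The map of big cells defined by pairs of root points is multiplicative.
-/

set_option autoImplicit false
universe u

open CategoryTheory CategoryTheory.Limits AlgebraicGeometry MonoidalCategory CartesianMonoidalCategory MonObj
open Groth.L14.RankOne Groth.L25 Groth.L14.Chart Groth.L14.Chev Groth.L14.Chev.Cell Groth.L14.Coroot

set_option backward.isDefEq.respectTransparency.types false
set_option linter.style.haveILetI false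
set_option linter.unusedSectionVars false
set_option maxHeartbeats 1000000

noncomputable section

namespace Groth.L14.Iso

variable {S : Scheme.{u}} {G G' : Over S} [GrpObj G] [GrpObj G'] (P : Dat G G')
variable {R : Type u} [CommRing R] {j : Spec (CommRingCat.of R) ⟶ S} {C : Type u} [CommRing C] [Algebra R C]
  {C' : Type u} [CommRing C'] [Algebra R C']

variable (G G' j) in
/-- Functoriality of pairs of points in the ring. -/
def mor2 (φ : C →ₐ[R] C') : (Sp j C ⟶ G) × (Sp j C ⟶ G') →* (Sp j C' ⟶ G) × (Sp j C' ⟶ G') :=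
  MonoidHom.mk' (fun g => (mor j φ ≫ g.1, mor j φ ≫ g.2)) fun g g' => Prod.ext
    (MonObj.comp_mul _ _ _) (MonObj.comp_mul _ _ _)

theorem mor2_mor2 {C'' : Type u} [CommRing C''] [Algebra R C''] (ψ : C' →ₐ[R] C'') (φ : C →ₐ[R] C')
    (g : (Sp j C ⟶ G) × (Sp j C ⟶ G')) : mor2 G G' j ψ (mor2 G G' j φ g) = mor2 G G' j (ψ.comp φ) g :=
  Prod.ext (by show mor j ψ ≫ mor j φ ≫ g.1 = _; rw [← Category.assoc, ← mor_comp]; rfl)
    (by show mor j ψ ≫ mor j φ ≫ g.2 = _; rw [← Category.assoc, ← mor_comp]; rfl)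

/-- Two points of an affine scheme agreeing in all local rings at maximal ideals agree. -/
theorem pt_eq_of_local [IsAffineHom G'.hom] {p q : Sp j C ⟶ G'}
    (h : ∀ (m : Ideal C) [m.IsMaximal], mor j (IsScalarTower.toAlgHom R C (Localization.AtPrime m)) ≫ p =
      mor j (IsScalarTower.toAlgHom R C (Localization.AtPrime m)) ≫ q) : p = q := by
  refine ptEquiv.symm.injective (AlgHom.ext fun a => ?_)
  have key := eq_one_of_local (ptEquiv.symm p a - ptEquiv.symm q a + 1) fun m _ => by
    have e := congrArg (fun s => ptEquiv.symm s a) (h m)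
    simp only [ptEquiv_symm_comp, AlgHom.comp_apply] at e
    rw [map_add, map_sub, map_one]
    show IsScalarTower.toAlgHom R C (Localization.AtPrime m) _ - IsScalarTower.toAlgHom R C _ _ + 1 = 1
    rw [e, sub_self, zero_add]
  exact sub_eq_zero.1 (by linear_combination key)

namespace Dat

theorem mor2_ev (φ : C →ₐ[R] C') (x : C) (F : (Red.Ga S ⟶ G) × (Red.Ga S ⟶ G')) :
    mor2 G G' j φ (ev j x F) = ev j (φ x) F :=
  Prod.ext (by show mor j φ ≫ gp j x ≫ F.1 = _; rw [← Category.assoc, mor_gp]; rfl)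
    (by show mor j φ ≫ gp j x ≫ F.2 = _; rw [← Category.assoc, mor_gp]; rfl)

theorem mor2_t2 (φ : C →ₐ[R] C') (χ : Multiplicative P.D.M →* C) :
    mor2 G G' j φ (t2 j P χ) = t2 j P ((φ : C →* C').comp χ) :=
  Prod.ext (by show mor j φ ≫ tpt P.D.toSplitRed j χ ≫ P.D.i = _; rw [← Category.assoc, mor_tpt]; rfl)
    (by show mor j φ ≫ tpt P.D'.toSplitRed j (P.chMap χ) ≫ P.D'.i = _; rw [← Category.assoc, mor_tpt]; rfl)

theorem mor2_prod2 (φ : C →ₐ[R] C') (l : List P.D.idx) (x : P.D.idx → C) :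
    mor2 G G' j φ (P.prod2 j l x) = P.prod2 j l (fun c => φ (x c)) := by
  induction l with
  | nil => exact map_one _
  | cons c l ih => rw [P.prod2_cons, P.prod2_cons, map_mul, ih, mor2_ev]

theorem mor2_cell2 (φ : C →ₐ[R] C') (ln lp : List P.D.idx) (χ : Multiplicative P.D.M →* C) (y x : P.D.idx → C) :
    mor2 G G' j φ (P.cell2 j ln lp χ y x) =
      P.cell2 j ln lp ((φ : C →* C').comp χ) (fun c => φ (y c)) (fun c => φ (x c)) := by
  rw [cell2, cell2, map_mul, map_mul, P.mor2_prod2, P.mor2_prod2, P.mor2_t2]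

variable [IsOpenImmersion j] {n m : ℕ} {eneg : Fin n → P.D.idx} {epos : Fin m → P.D.idx}

theorem conj_prod2 (χ : Multiplicative P.D.M →* C) (l : List P.D.idx) (x : P.D.idx → C) :
    t2 j P χ * P.prod2 j l x * (t2 j P χ)⁻¹ =
      P.prod2 j l (fun c => χ (Multiplicative.ofAdd (P.D.P.root c)) * x c) := by
  induction l with
  | nil => simp [prod2]
  | cons c l ih =>
    rw [P.prod2_cons, P.prod2_cons, ← ih, ← P.eqv_sys c R j C χ (x c)]
    group

/-- Over a local ring, a product of a positive and a negative pair is the pair of its decomposition. -/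
theorem eq_cell2_local [IsLocalRing C] (hneg : RedSub.Enumerates (RedSub.negRoots P.D.P P.D.base) eneg)
    (hpos : RedSub.Enumerates (RedSub.posRoots P.D.P P.D.base) epos)
    {x y : P.D.idx → C} {χ : Multiplicative P.D.M →* C} {y' x' : P.D.idx → C}
    (h : (P.prod2 j (List.ofFn epos) x * P.prod2 j (List.ofFn eneg) y).1 =
      (P.cell2 j (List.ofFn eneg) (List.ofFn epos) χ y' x').1) :
    P.prod2 j (List.ofFn epos) x * P.prod2 j (List.ofFn eneg) y =
      P.cell2 j (List.ofFn eneg) (List.ofFn epos) χ y' x' := by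
  classical
  haveI := reductive_affine P.D'.toSplitRed
  haveI := isMonHom_i (D := P.src)
  haveI : ∀ c, IsMonHom (P.src.u c) := fun c => (P.src.rootHom c).1
  haveI := isOpenImmersion_cellMap (D := P.src) hneg hpos
  let A : Type u := Polynomial C
  let g2 : (Sp j A ⟶ G) × (Sp j A ⟶ G') :=
    P.prod2 j (List.ofFn epos) (fun c => Polynomial.X * Polynomial.C (x c)) *
      P.prod2 j (List.ofFn eneg) (fun c => Polynomial.X * Polynomial.C (y c))
  let U : Set (PrimeSpectrum A) := g2.1.left ⁻¹' Set.range (RedSub.cellMap P.src eneg epos).left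
  have hUo : IsOpen U := (g2.1.left ⁻¹ᵁ (RedSub.cellMap P.src eneg epos).left.opensRange).2
  have hg : ∀ {E : Type u} [CommRing E] [Algebra R E] (φ : A →ₐ[R] E), mor2 G G' j φ g2 =
      P.prod2 j (List.ofFn epos) (fun c => φ Polynomial.X * φ (Polynomial.C (x c))) *
        P.prod2 j (List.ofFn eneg) (fun c => φ Polynomial.X * φ (Polynomial.C (y c))) := fun φ => by
    simp only [g2, map_mul, P.mor2_prod2]
  let ev' : C → (A →ₐ[R] C) := fun s => polEval (AlgHom.id R C) s
  have hevX : ∀ s, ev' s Polynomial.X = s := fun s => Polynomial.eval₂_X _ _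
  have hevC : ∀ s v, ev' s (Polynomial.C v) = v := fun s v => Polynomial.eval₂_C _ _
  have hev1 : mor2 G G' j (ev' 1) g2 = P.prod2 j (List.ofFn epos) x * P.prod2 j (List.ofFn eneg) y := by
    rw [hg]
    simp only [hevX, hevC, _root_.one_mul]
  have hpt : ∀ s : C, (∃ (χ₀ : Multiplicative P.D.M →* C) (y₀ x₀ : P.D.idx → C),
      (P.cell2 j (List.ofFn eneg) (List.ofFn epos) χ₀ y₀ x₀).1 = (mor2 G G' j (ev' s) g2).1) →
      ∃ F : A, IsUnit (ev' s F) ∧ (PrimeSpectrum.basicOpen F : Set (PrimeSpectrum A)) ⊆ U := by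
    rintro s ⟨χ₀, y₀, x₀, hs⟩
    let t : Sp j C ⟶ cellSpace P.src n m :=
      lift (tup n fun k => gp j (y₀ (eneg k))) (lift (tpt P.src j χ₀) (tup m fun k => gp j (x₀ (epos k))))
    have ht : t ≫ RedSub.cellMap P.src eneg epos = mor j (ev' s) ≫ g2.1 := by
      refine (lift_cellMap (D := P.src) (eneg := eneg) (epos := epos) χ₀ y₀ x₀).trans ?_
      rw [← P.cell2_fst]
      exact hs
    let q : PrimeSpectrum A := PrimeSpectrum.comap (ev' s).toRingHom (IsLocalRing.closedPoint C)
    have hq : q ∈ U := by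
      show g2.1.left ((mor j (ev' s)).left (IsLocalRing.closedPoint C)) ∈
        Set.range (RedSub.cellMap P.src eneg epos).left
      rw [← Scheme.Hom.comp_apply, ← Over.comp_left, ← ht, Over.comp_left, Scheme.Hom.comp_apply]
      exact Set.mem_range_self _
    obtain ⟨_, ⟨F, rfl⟩, hqF, hFU⟩ :=
      PrimeSpectrum.isTopologicalBasis_basic_opens.exists_subset_of_mem_open (a := q) hq hUo
    refine ⟨F, ?_, hFU⟩
    by_contra hnu
    exact hqF ((IsLocalRing.mem_maximalIdeal _).2 hnu)
  obtain ⟨F₀, hF0, hF₀U⟩ := hpt 0 ⟨1, 0, 0, by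
    have e0 : ∀ l : List P.D.idx, P.prod2 j l (fun _ => (0 : C)) = 1 := fun l => by
      simp [prod2, P.ev_sys_zero]
    rw [hg]
    simp only [hevX, zero_mul, e0, _root_.one_mul]
    rw [cell2, show (0 : P.D.idx → C) = fun _ => 0 from rfl, e0, e0, t2_one, _root_.one_mul, _root_.one_mul]⟩
  obtain ⟨Q, hQ1, hQU⟩ := hpt 1 ⟨χ, y', x', by rw [hev1, h]⟩
  -- lifting over a basic open
  have hlift : ∀ (F : A) (E : Type u) [CommRing E] [Algebra A E] [IsLocalization.Away F E] [Algebra R E]
      [IsScalarTower R A E], (PrimeSpectrum.basicOpen F : Set (PrimeSpectrum A)) ⊆ U →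
      ∃ (χ₁ : Multiplicative P.D.M →* E) (y₁ x₁ : P.D.idx → E),
        (mor2 G G' j (IsScalarTower.toAlgHom R A E) g2).1 =
          (P.cell2 j (List.ofFn eneg) (List.ofFn epos) χ₁ y₁ x₁).1 := by
    intro F E _ _ _ _ _ hFU
    have hr : Set.range (mor j (IsScalarTower.toAlgHom R A E) ≫ g2.1).left ⊆
        Set.range (RedSub.cellMap P.src eneg epos).left := by
      rintro _ ⟨p, rfl⟩
      rw [Over.comp_left, Scheme.Hom.comp_apply]
      refine hFU (?_ : PrimeSpectrum.comap (algebraMap A E) p ∈ PrimeSpectrum.basicOpen F)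
      have := Set.mem_range_self (f := PrimeSpectrum.comap (algebraMap A E)) p
      rwa [PrimeSpectrum.localization_away_comap_range E F] at this
    obtain ⟨t, ht⟩ := Groth.L14.CellHom.exists_lift_of_mem (RedSub.cellMap P.src eneg epos) _ hr
    obtain ⟨χ₁, y₁, x₁, e, -⟩ := exists_coords (D := P.src) t hneg.1 hpos.1
    refine ⟨χ₁, y₁, x₁, ?_⟩
    rw [P.cell2_fst, ← e, ht]
    rfl
  let BP : Type u := Localization.Away F₀
  let BQ : Type u := Localization.Away Q
  let BE : Type u := Localization.Away (F₀ * Q)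
  obtain ⟨χP, yP, xP, eP⟩ := hlift F₀ BP hF₀U
  obtain ⟨χQ, yQ, xQ, eQ⟩ := hlift Q BQ hQU
  -- equality over the first basic open by power series
  let toPS : A →+* PowerSeries C := Polynomial.coeToPowerSeries.ringHom
  have hPunit : IsUnit (toPS F₀) := by
    rw [Polynomial.coeToPowerSeries.ringHom_apply, PowerSeries.isUnit_iff_constantCoeff,
      Polynomial.constantCoeff_coe, Polynomial.coeff_zero_eq_eval_zero]
    exact hF0
  have hPreg : F₀ ∈ nonZeroDivisors A := mem_nonZeroDivisors_iff_right.2 fun z hz => by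
    have h0 : toPS z * toPS F₀ = 0 := by rw [← map_mul, hz, map_zero]
    exact Polynomial.coe_inj.1 (((hPunit.mul_left_eq_zero).1 h0).trans Polynomial.coe_zero.symm)
  let φ : BP →ₐ[R] PowerSeries C :=
    { IsLocalization.Away.lift F₀ hPunit with
      commutes' := fun r => by
        show IsLocalization.Away.lift F₀ hPunit (algebraMap R BP r) = _
        rw [IsScalarTower.algebraMap_apply R A BP]
        simp only [RingHom.toMonoidHom_eq_coe, IsLocalization.Away.lift_eq]
        rw [IsScalarTower.algebraMap_apply R C A, IsScalarTower.algebraMap_apply R C (PowerSeries C)]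
        exact Polynomial.coe_C _ }
  have hφA : ∀ z : A, φ (algebraMap A BP z) = toPS z := fun z => IsLocalization.Away.lift_eq F₀ hPunit z
  have hφinj : Function.Injective φ := by
    show Function.Injective (IsLocalization.Away.lift F₀ hPunit)
    refine (IsLocalization.lift_injective_iff _).2 fun a c => ⟨fun e => ?_, fun e => congrArg _ (Polynomial.coe_inj.1 e)⟩
    obtain ⟨⟨_, k, rfl⟩, hk⟩ := (IsLocalization.eq_iff_exists (Submonoid.powers F₀) BP).1 e
    have h' := congrArg toPS hk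
    rw [map_mul, map_mul, map_pow] at h'
    exact (hPunit.pow k).mul_left_cancel h'
  have hPeq : mor2 G G' j (IsScalarTower.toAlgHom R A BP) g2 =
      P.cell2 j (List.ofFn eneg) (List.ofFn epos) χP yP xP := by
    refine Prod.ext eP (pt_eq_of_injective φ hφinj ?_)
    let I : Ideal (PowerSeries C) := Ideal.span {PowerSeries.X}
    have hI : ∀ r ∈ I, IsUnit (1 + r) := fun r hr => by
      obtain ⟨s, rfl⟩ := Ideal.mem_span_singleton'.1 hr
      refine PowerSeries.isUnit_iff_constantCoeff.2 ?_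
      simp
    have e1 : (mor2 G G' j φ (mor2 G G' j (IsScalarTower.toAlgHom R A BP) g2)).1 =
        (mor2 G G' j φ (P.cell2 j (List.ofFn eneg) (List.ofFn epos) χP yP xP)).1 := by
      show mor j φ ≫ _ = mor j φ ≫ _
      rw [eP]
    have hX : (φ.comp (IsScalarTower.toAlgHom R A BP)) Polynomial.X ∈ I := by
      rw [AlgHom.comp_apply, IsScalarTower.toAlgHom_apply, hφA, Polynomial.coeToPowerSeries.ringHom_apply,
        Polynomial.coe_X]
      exact Ideal.mem_span_singleton_self _
    rw [mor2_mor2, hg, P.mor2_cell2] at e1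
    have := P.eq_cell2_small I hI hneg hpos (fun c => I.mul_mem_right _ hX) (fun c => I.mul_mem_right _ hX) e1
    rw [← hg, ← P.mor2_cell2, ← mor2_mor2] at this
    exact congrArg Prod.snd this
  -- equality over the second by comparison on the intersection
  let fP : BP →ₐ[A] BE :=
    { IsLocalization.Away.lift F₀ (g := algebraMap A BE) (isUnit_of_mul_isUnit_left
        (by rw [← map_mul]; exact IsLocalization.Away.algebraMap_isUnit (F₀ * Q))) with
      commutes' := fun z => IsLocalization.Away.lift_eq F₀ _ z }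
  let fQ : BQ →ₐ[A] BE :=
    { IsLocalization.Away.lift Q (g := algebraMap A BE) (isUnit_of_mul_isUnit_right
        (by rw [← map_mul]; exact IsLocalization.Away.algebraMap_isUnit (F₀ * Q))) with
      commutes' := fun z => IsLocalization.Away.lift_eq Q _ z }
  have hcomp : (fP.restrictScalars R).comp (IsScalarTower.toAlgHom R A BP) =
      (fQ.restrictScalars R).comp (IsScalarTower.toAlgHom R A BQ) :=
    AlgHom.ext fun z => (fP.commutes z).trans (fQ.commutes z).symm
  have hQeq : mor2 G G' j (IsScalarTower.toAlgHom R A BQ) g2 =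
      P.cell2 j (List.ofFn eneg) (List.ofFn epos) χQ yQ xQ := by
    have hinj : Function.Injective (fQ.restrictScalars R) := (injective_iff_map_eq_zero _).2 fun v hv =>
      eq_zero_away F₀ Q hPreg (E := BE) fQ.toRingHom (RingHom.ext fun z => fQ.commutes z) v hv
    refine Prod.ext eQ (pt_eq_of_injective (fQ.restrictScalars R) hinj ?_)
    have h1 := congrArg (mor2 G G' j (fP.restrictScalars R)) hPeq
    have h2 := congrArg (fun p => mor j (fQ.restrictScalars R) ≫ p) eQ
    change (mor2 G G' j (fQ.restrictScalars R) _).1 = (mor2 G G' j (fQ.restrictScalars R) _).1 at h2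
    rw [mor2_mor2, hcomp, ← mor2_mor2, P.mor2_cell2] at h1
    rw [P.mor2_cell2, h1] at h2
    have h3 := P.cell2_coords hneg hpos h2
    rw [← h1, ← P.mor2_cell2] at h3
    exact congrArg Prod.snd h3
  -- evaluation at one
  let ψ : BQ →ₐ[R] C :=
    { IsLocalization.Away.lift Q (g := (ev' 1).toRingHom) hQ1 with
      commutes' := fun r => by
        show IsLocalization.Away.lift Q _ (algebraMap R BQ r) = _
        rw [IsScalarTower.algebraMap_apply R A BQ]
        exact (IsLocalization.Away.lift_eq Q _ _).trans ((ev' 1).commutes r) }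
  have e := congrArg (mor2 G G' j ψ) hQeq
  rw [mor2_mor2, show ψ.comp (IsScalarTower.toAlgHom R A BQ) = ev' 1 from
    AlgHom.ext fun z => IsLocalization.Away.lift_eq Q (g := (ev' 1).toRingHom) hQ1 z, hev1, P.mor2_cell2] at e
  rw [e] at h ⊢
  exact P.cell2_coords hneg hpos h

/-- A product of a positive and a negative pair is the pair of its decomposition. -/
theorem eq_cell2 (hneg : RedSub.Enumerates (RedSub.negRoots P.D.P P.D.base) eneg)
    (hpos : RedSub.Enumerates (RedSub.posRoots P.D.P P.D.base) epos)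
    {x y : P.D.idx → C} {χ : Multiplicative P.D.M →* C} {y' x' : P.D.idx → C}
    (h : (P.prod2 j (List.ofFn epos) x * P.prod2 j (List.ofFn eneg) y).1 =
      (P.cell2 j (List.ofFn eneg) (List.ofFn epos) χ y' x').1) :
    P.prod2 j (List.ofFn epos) x * P.prod2 j (List.ofFn eneg) y =
      P.cell2 j (List.ofFn eneg) (List.ofFn epos) χ y' x' := by
  haveI := reductive_affine P.D'.toSplitRed
  refine Prod.ext h (pt_eq_of_local fun m _ => ?_)
  let φ : C →ₐ[R] Localization.AtPrime m := IsScalarTower.toAlgHom R C _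
  have e : (mor2 G G' j φ (P.prod2 j (List.ofFn epos) x * P.prod2 j (List.ofFn eneg) y)).1 =
      (mor2 G G' j φ (P.cell2 j (List.ofFn eneg) (List.ofFn epos) χ y' x')).1 := by
    show mor j φ ≫ _ = mor j φ ≫ _
    rw [h]
  rw [map_mul, P.mor2_prod2, P.mor2_prod2, P.mor2_cell2] at e
  have := P.eq_cell2_local hneg hpos e
  rw [← P.mor2_prod2, ← P.mor2_prod2, ← P.mor2_cell2, ← map_mul] at this
  exact congrArg Prod.snd this

/-- The map of big cells is multiplicative. -/
theorem cell2_mul (hneg : RedSub.Enumerates (RedSub.negRoots P.D.P P.D.base) eneg)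
    (hpos : RedSub.Enumerates (RedSub.posRoots P.D.P P.D.base) epos)
    {χ₁ χ₂ χ₃ : Multiplicative P.D.M →* C} {y₁ x₁ y₂ x₂ y₃ x₃ : P.D.idx → C}
    (h : (P.cell2 j (List.ofFn eneg) (List.ofFn epos) χ₃ y₃ x₃).1 =
      (P.cell2 j (List.ofFn eneg) (List.ofFn epos) χ₁ y₁ x₁).1 *
        (P.cell2 j (List.ofFn eneg) (List.ofFn epos) χ₂ y₂ x₂).1) :
    P.cell2 j (List.ofFn eneg) (List.ofFn epos) χ₃ y₃ x₃ =
      P.cell2 j (List.ofFn eneg) (List.ofFn epos) χ₁ y₁ x₁ *
        P.cell2 j (List.ofFn eneg) (List.ofFn epos) χ₂ y₂ x₂ := by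
  have hgenN : ∀ z : P.D.idx → C, P.prod2 j (List.ofFn eneg) z ∈ P.gen2 j ⊤ (RedSub.negRoots P.D.P P.D.base) :=
    fun z => P.prod2_mem j (fun c hc => (mem_list_iff (D := P.src) hneg c).1 hc) fun _ _ => trivial
  have hgenP : ∀ z : P.D.idx → C, P.prod2 j (List.ofFn epos) z ∈ P.gen2 j ⊤ (RedSub.posRoots P.D.P P.D.base) :=
    fun z => P.prod2_mem j (fun c hc => (mem_list_iff (D := P.src) hpos c).1 hc) fun _ _ => trivial
  obtain ⟨y, -, hy⟩ := P.exists_coords2 j P.good_neg (nodup_list (D := P.src) hneg) (mem_list_iff (D := P.src) hneg)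
    (mul_mem (inv_mem (hgenN y₁)) (hgenN y₃))
  obtain ⟨x, -, hx⟩ := P.exists_coords2 j P.good_pos (nodup_list (D := P.src) hpos) (mem_list_iff (D := P.src) hpos)
    (mul_mem (hgenP x₃) (inv_mem (hgenP x₂)))
  obtain ⟨i₁, hi₁⟩ : ∃ i, i * χ₁ = 1 :=
    ⟨(Units.coeHom C).comp χ₁.toHomUnits⁻¹, MonoidHom.ext fun z => Units.inv_mul (χ₁.toHomUnits z)⟩
  obtain ⟨i₂, hi₂⟩ : ∃ i, i * χ₂ = 1 :=
    ⟨(Units.coeHom C).comp χ₂.toHomUnits⁻¹, MonoidHom.ext fun z => Units.inv_mul (χ₂.toHomUnits z)⟩
  have hinv : ∀ {i χ : Multiplicative P.D.M →* C}, i * χ = 1 → (t2 j P χ)⁻¹ = t2 j P i := fun hi => by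
    rw [inv_eq_iff_mul_eq_one, ← t2_mul, _root_.mul_comm, hi, t2_one]
  let y' : P.D.idx → C := fun c => i₁ (Multiplicative.ofAdd (P.D.P.root c)) * y c
  let x' : P.D.idx → C := fun c => χ₂ (Multiplicative.ofAdd (P.D.P.root c)) * x c
  have hcell : P.cell2 j (List.ofFn eneg) (List.ofFn epos) (i₁ * χ₃ * i₂) y' x' =
      (t2 j P χ₁)⁻¹ * (P.prod2 j (List.ofFn eneg) y₁)⁻¹ *
        P.cell2 j (List.ofFn eneg) (List.ofFn epos) χ₃ y₃ x₃ *
        (P.prod2 j (List.ofFn epos) x₂)⁻¹ * (t2 j P χ₂)⁻¹ := by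
    show P.prod2 j _ y' * (t2 j P _ * P.prod2 j _ x') = _
    simp only [y', x', ← P.conj_prod2, cell2, hy, hx, t2_mul, ← hinv hi₁, ← hinv hi₂]
    group
  have hkey : P.prod2 j (List.ofFn epos) x₁ * P.prod2 j (List.ofFn eneg) y₂ =
      P.cell2 j (List.ofFn eneg) (List.ofFn epos) (i₁ * χ₃ * i₂) y' x' := by
    refine P.eq_cell2 hneg hpos ?_
    rw [hcell]
    simp only [Prod.fst_mul, Prod.fst_inv, h]
    simp only [cell2, Prod.fst_mul]
    group
  rw [hcell] at hkey
  calc _ = P.prod2 j (List.ofFn eneg) y₁ * t2 j P χ₁ *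
        ((t2 j P χ₁)⁻¹ * (P.prod2 j (List.ofFn eneg) y₁)⁻¹ *
          P.cell2 j (List.ofFn eneg) (List.ofFn epos) χ₃ y₃ x₃ *
          (P.prod2 j (List.ofFn epos) x₂)⁻¹ * (t2 j P χ₂)⁻¹) *
        (t2 j P χ₂ * P.prod2 j (List.ofFn epos) x₂) := by group
    _ = _ := by rw [← hkey]; simp only [cell2, _root_.mul_assoc]

end Dat

end Groth.L14.Iso
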