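import Groth.Agent.L14.Iso.Data
import Groth.Agent.L14.Iso.AltCarry

/-!
Pairs of points of the two groups: the Weyl elements carry pairs of root homomorphisms to each other with common signs.
-/

set_option autoImplicit false
universe u

open CategoryTheory CategoryTheory.Limits AlgebraicGeometry MonoidalCategory CartesianMonoidalCategory MonObj
open Groth.L14.RankOne Groth.L25 Groth.L14.Chart Groth.L14.Chev Groth.L14.Chev.Words Groth.L14.Coroot
open Groth.L24.RootD (wd wd_append wd_nil wd_singleton wd_cons IsSimple root_smul reflection_smul_idx)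

set_option backward.isDefEq.respectTransparency.types false
set_option linter.style.haveILetI false
set_option linter.unusedSectionVars false
set_option maxHeartbeats 1000000

noncomputable section

namespace Groth.L14.Iso

variable {S : Scheme.{u}} {G G' : Over S} [GrpObj G] [GrpObj G']

/-- Restriction of a pair of sections to an affine scheme over the base. -/
def res {R : Type u} [CommRing R] (j : Spec (CommRingCat.of R) ⟶ S) (C : Type u) [CommRing C] [Algebra R C] :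
    (𝟙_ (Over S) ⟶ G) × (𝟙_ (Over S) ⟶ G') →* (Sp j C ⟶ G) × (Sp j C ⟶ G') :=
  MonoidHom.mk' (fun N => (toUnit _ ≫ N.1, toUnit _ ≫ N.2)) fun N M => Prod.ext
    (MonObj.comp_mul _ _ _) (MonObj.comp_mul _ _ _)

section Pts

variable {R : Type u} [CommRing R] (j : Spec (CommRingCat.of R) ⟶ S) {C : Type u} [CommRing C] [Algebra R C]

/-- The pair of points of a pair of root homomorphisms. -/
def ev (x : C) (F : (Red.Ga S ⟶ G) × (Red.Ga S ⟶ G')) : (Sp j C ⟶ G) × (Sp j C ⟶ G') :=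
  (gp j x ≫ F.1, gp j x ≫ F.2)

/-- A pair of torus points. -/
def t2 (P : Dat G G') (χ : Multiplicative P.D.M →* C) : (Sp j C ⟶ G) × (Sp j C ⟶ G') :=
  (tpt P.D.toSplitRed j χ ≫ P.D.i, tpt P.D'.toSplitRed j (P.chMap χ) ≫ P.D'.i)

theorem t2_mul (P : Dat G G') (χ ψ : Multiplicative P.D.M →* C) : t2 j P (χ * ψ) = t2 j P χ * t2 j P ψ := by
  haveI := isMonHom_i (D := P.D.toSplitRed)
  haveI := isMonHom_i (D := P.D'.toSplitRed)
  refine Prod.ext ?_ ?_
  · show tpt P.D.toSplitRed j (χ * ψ) ≫ P.D.i = _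
    rw [tpt_mul, MonObj.mul_comp]; rfl
  · show tpt P.D'.toSplitRed j (P.chMap (χ * ψ)) ≫ P.D'.i = _
    rw [show P.chMap (χ * ψ) = P.chMap χ * P.chMap ψ from rfl, tpt_mul, MonObj.mul_comp]; rfl

theorem t2_one (P : Dat G G') : t2 j P (1 : Multiplicative P.D.M →* C) = 1 := by
  have h := t2_mul j P (1 : Multiplicative P.D.M →* C) 1
  rw [_root_.one_mul] at h
  exact right_eq_mul.1 h

end Pts

/-- The pair `N` carries the pair `F` to `F'` with sign `ε`. -/
def CarW (ε : ℤ) (N : (𝟙_ (Over S) ⟶ G) × (𝟙_ (Over S) ⟶ G')) (F F' : (Red.Ga S ⟶ G) × (Red.Ga S ⟶ G')) : Prop :=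
  ∀ (R : Type u) [CommRing R] (j : Spec (CommRingCat.of R) ⟶ S) [IsOpenImmersion j] (C : Type u) [CommRing C]
    [Algebra R C] (x : C), res j C N * ev j x F * (res j C N)⁻¹ = ev j ((ε : C) * x) F'

/-- The pair `N` carries the pair `F` to `F'` up to a common sign. -/
def Car (N : (𝟙_ (Over S) ⟶ G) × (𝟙_ (Over S) ⟶ G')) (F F' : (Red.Ga S ⟶ G) × (Red.Ga S ⟶ G')) : Prop :=
  ∃ ε : ℤ, (ε = 1 ∨ ε = -1) ∧ CarW ε N F F'

theorem Car.refl (F : (Red.Ga S ⟶ G) × (Red.Ga S ⟶ G')) : Car (1 : (𝟙_ (Over S) ⟶ G) × (𝟙_ (Over S) ⟶ G')) F F :=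
  ⟨1, Or.inl rfl, fun R _ j _ C _ _ x => by simp⟩

theorem Car.mul {N M : (𝟙_ (Over S) ⟶ G) × (𝟙_ (Over S) ⟶ G')} {F F' F'' : (Red.Ga S ⟶ G) × (Red.Ga S ⟶ G')}
    (h : Car N F' F'') (h' : Car M F F') : Car (N * M) F F'' := by
  obtain ⟨ε, hε, h⟩ := h
  obtain ⟨δ, hδ, h'⟩ := h'
  refine ⟨ε * δ, by rcases hε with e | e <;> rcases hδ with d | d <;> simp [e, d], fun R _ j _ C _ _ x => ?_⟩
  rw [map_mul]
  calc _ = res j C N * (res j C M * ev j x F * (res j C M)⁻¹) * (res j C N)⁻¹ := by group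
    _ = _ := by rw [h' R j C x, h R j C, Int.cast_mul, _root_.mul_assoc]

theorem Car.inv {N : (𝟙_ (Over S) ⟶ G) × (𝟙_ (Over S) ⟶ G')} {F F' : (Red.Ga S ⟶ G) × (Red.Ga S ⟶ G')}
    (h : Car N F F') : Car N⁻¹ F' F := by
  obtain ⟨ε, hε, h⟩ := h
  refine ⟨ε, hε, fun R _ j _ C _ _ x => ?_⟩
  have hsq : (ε : C) * ((ε : C) * x) = x := by rcases hε with e | e <;> simp [e]
  have e := h R j C ((ε : C) * x)
  rw [hsq] at e
  rw [map_inv, ← e]
  group

/-- The conjugate of a pair of root homomorphisms. -/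
def conj2 (N : (𝟙_ (Over S) ⟶ G) × (𝟙_ (Over S) ⟶ G')) (F : (Red.Ga S ⟶ G) × (Red.Ga S ⟶ G')) :
    (Red.Ga S ⟶ G) × (Red.Ga S ⟶ G') := (conjHom N.1 F.1, conjHom N.2 F.2)

theorem ev_conj2 {R : Type u} [CommRing R] (j : Spec (CommRingCat.of R) ⟶ S) {C : Type u} [CommRing C] [Algebra R C]
    (x : C) (N : (𝟙_ (Over S) ⟶ G) × (𝟙_ (Over S) ⟶ G')) (F : (Red.Ga S ⟶ G) × (Red.Ga S ⟶ G')) :
    ev j x (conj2 N F) = res j C N * ev j x F * (res j C N)⁻¹ :=
  Prod.ext (comp_conjHom _ _ _) (comp_conjHom _ _ _)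

theorem conj2_one (F : (Red.Ga S ⟶ G) × (Red.Ga S ⟶ G')) :
    conj2 (1 : (𝟙_ (Over S) ⟶ G) × (𝟙_ (Over S) ⟶ G')) F = F :=
  Prod.ext (conjHom_one _) (conjHom_one _)

theorem conj2_mul (N M : (𝟙_ (Over S) ⟶ G) × (𝟙_ (Over S) ⟶ G')) (F : (Red.Ga S ⟶ G) × (Red.Ga S ⟶ G')) :
    conj2 (N * M) F = conj2 N (conj2 M F) := Prod.ext (conjHom_mul _ _ _) (conjHom_mul _ _ _)

theorem Car.conj2 (N : (𝟙_ (Over S) ⟶ G) × (𝟙_ (Over S) ⟶ G')) (F : (Red.Ga S ⟶ G) × (Red.Ga S ⟶ G')) :
    Car N F (Groth.L14.Iso.conj2 N F) :=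
  ⟨1, Or.inl rfl, fun R _ j _ C _ _ x => by rw [Int.cast_one, _root_.one_mul, ev_conj2]⟩

namespace Dat

variable (P : Dat G G')

/-- The pair of root homomorphisms of a root. -/
def pu (a : P.D.idx) : (Red.Ga S ⟶ G) × (Red.Ga S ⟶ G') := (P.D.u a, P.tu a)

/-- The pair of Weyl elements of a root. -/
def pw (a : P.D.idx) : (𝟙_ (Over S) ⟶ G) × (𝟙_ (Over S) ⟶ G') := (P.w a, P.w' (P.d a))

theorem val_pw (l : List P.D.idx) : val P.pw l = (val P.w l, val P.w' (l.map P.d)) := by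
  induction l with
  | nil => rfl
  | cons a l ih =>
    show P.pw a * val P.pw l = _
    rw [ih]; rfl

/-- Torus pairs act on a pair of homomorphisms through a root. -/
def Eqv (g : P.D.idx) (F : (Red.Ga S ⟶ G) × (Red.Ga S ⟶ G')) : Prop :=
  ∀ (R : Type u) [CommRing R] (j : Spec (CommRingCat.of R) ⟶ S) [IsOpenImmersion j] (C : Type u) [CommRing C]
    [Algebra R C] (χ : Multiplicative P.D.M →* C) (x : C),
    t2 j P χ * ev j x F * (t2 j P χ)⁻¹ = ev j (χ (Multiplicative.ofAdd (P.D.P.root g)) * x) F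

theorem eqv_pu (a : P.D.idx) : P.Eqv a (P.pu a) := fun R _ j _ C _ _ χ x =>
  Prod.ext (conj_root j P.D.rootHom χ a x) (P.conj_tu χ a x)

theorem res_pw_t2 {a : P.D.idx} (ha : a ∈ P.D.base.support) {R : Type u} [CommRing R]
    (j : Spec (CommRingCat.of R) ⟶ S) [IsOpenImmersion j] {C : Type u} [CommRing C] [Algebra R C]
    (χ : Multiplicative P.D.M →* C) :
    res j C (P.pw a) * t2 j P χ * (res j C (P.pw a))⁻¹ = t2 j P (reflChar (D := P.D.toSplitRed) a χ) := by
  refine Prod.ext ?_ ?_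
  · exact actsBy_weyl P.avc P.havc P.D.rootHom P.e₁ P.he₁ a (P.hdual a ha) (P.hw a) R j C χ
  · show _ = tpt P.D'.toSplitRed j (P.chMap (reflChar (D := P.D.toSplitRed) a χ)) ≫ P.D'.i
    rw [P.chMap_refl]
    exact actsBy_weyl P.avc' P.havc' P.D'.rootHom P.e₁ P.he₁ (P.d a) (P.hdual' _ ((P.base_map a).1 ha))
      (P.hw' _) R j C (P.chMap χ)

theorem eqv_conj {a : P.D.idx} (ha : a ∈ P.D.base.support) {g : P.D.idx}
    {F : (Red.Ga S ⟶ G) × (Red.Ga S ⟶ G')} (hF : P.Eqv g F) :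
    P.Eqv (P.D.P.reflectionPerm a g) (conj2 (P.pw a) F) := fun R _ j _ C _ _ χ x => by
  rw [ev_conj2, ev_conj2, ← reflChar_root]
  have h := P.res_pw_t2 ha j (reflChar (D := P.D.toSplitRed) a χ)
  rw [reflChar_reflChar] at h
  rw [← hF R j C (reflChar (D := P.D.toSplitRed) a χ) x, ← h]
  group

theorem eqv_word {l : List P.D.idx} (hl : ∀ x ∈ l, x ∈ P.D.base.support) {g : P.D.idx}
    {F : (Red.Ga S ⟶ G) × (Red.Ga S ⟶ G')} (hF : P.Eqv g F) :
    P.Eqv (wd P.D.P l • g) (conj2 (val P.pw l) F) := by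
  induction l with
  | nil => simpa [val, conj2_one, wd_nil] using hF
  | cons a l ih =>
    rw [show val P.pw (a :: l) = P.pw a * val P.pw l from List.prod_cons, conj2_mul, wd_cons, mul_smul,
      reflection_smul_idx]
    exact P.eqv_conj (hl a List.mem_cons_self) (ih fun x hx => hl x (List.mem_cons_of_mem _ hx))

/-- The sign character of a functional. -/
def sgn (lam : P.D.M →+ ℤ) (C : Type u) [CommRing C] : Multiplicative P.D.M →* C :=
  (Units.coeHom C).comp ((zpowersHom Cˣ (-1)).comp (AddMonoidHom.toMultiplicative lam))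

theorem sgn_apply (lam : P.D.M →+ ℤ) {C : Type u} [CommRing C] (m : P.D.M) :
    P.sgn lam C (Multiplicative.ofAdd m) = (((-1 : Cˣ) ^ lam m : Cˣ) : C) := rfl

/-- The pairs of sign points. -/
def signs : Subgroup ((𝟙_ (Over S) ⟶ G) × (𝟙_ (Over S) ⟶ G')) where
  carrier := {k | ∃ lam : P.D.M →+ ℤ, ∀ (R : Type u) [CommRing R] (j : Spec (CommRingCat.of R) ⟶ S)
    [IsOpenImmersion j] (C : Type u) [CommRing C] [Algebra R C], res j C k = t2 j P (P.sgn lam C)}
  one_mem' := ⟨0, fun R _ j _ C _ _ => by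
    rw [map_one, ← t2_one (C := C) j P]
    exact congrArg _ (MonoidHom.ext fun m => by simp [Dat.sgn])⟩
  mul_mem' := by
    rintro x y ⟨l, hl⟩ ⟨m, hm⟩
    refine ⟨l + m, fun R _ j _ C _ _ => ?_⟩
    rw [map_mul, hl R j C, hm R j C, ← t2_mul]
    exact congrArg _ (MonoidHom.ext fun z => by simp [Dat.sgn, zpow_add])
  inv_mem' := by
    rintro x ⟨l, hl⟩
    refine ⟨-l, fun R _ j _ C _ _ => ?_⟩
    rw [map_inv, hl R j C, inv_eq_iff_mul_eq_one, ← t2_mul, ← t2_one (C := C) j P]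
    exact congrArg _ (MonoidHom.ext fun z => by simp [Dat.sgn])

theorem car_signs {k : (𝟙_ (Over S) ⟶ G) × (𝟙_ (Over S) ⟶ G')} (hk : k ∈ P.signs) {g : P.D.idx}
    {F : (Red.Ga S ⟶ G) × (Red.Ga S ⟶ G')} (hF : P.Eqv g F) : Car k F F := by
  obtain ⟨lam, hlam⟩ := hk
  rcases Int.even_or_odd (lam (P.D.P.root g)) with h | h
  · exact ⟨1, Or.inl rfl, fun R _ j _ C _ _ x => by
      rw [hlam R j C, hF R j C, P.sgn_apply, h.neg_one_zpow]; simp⟩
  · exact ⟨-1, Or.inr rfl, fun R _ j _ C _ _ x => by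
      rw [hlam R j C, hF R j C, P.sgn_apply, h.neg_one_zpow]; simp⟩

theorem sq_mem_signs {a : P.D.idx} (ha : a ∈ P.D.base.support) : P.pw a * P.pw a ∈ P.signs := by
  refine ⟨(P.D.P.coroot a).toAddMonoidHom, fun R _ j _ C _ _ => ?_⟩
  have hs : P.sgn (P.D.P.coroot a).toAddMonoidHom C = cochi (D := P.D.toSplitRed) a (-1 : Cˣ) := rfl
  rw [hs, map_mul]
  refine Prod.ext ?_ ?_
  · show (toUnit _ ≫ P.w a) * (toUnit _ ≫ P.w a) = tpt P.D.toSplitRed j _ ≫ P.D.i
    rw [weyl_sq P.havc P.D.rootHom j P.e₁ P.he₁ (P.hdual a ha) (P.hw a), hpt, ← Category.assoc,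
      up_avc j P.avc P.havc]
  · show (toUnit _ ≫ P.w' (P.d a)) * (toUnit _ ≫ P.w' (P.d a)) = tpt P.D'.toSplitRed j _ ≫ P.D'.i
    rw [weyl_sq P.havc' P.D'.rootHom j P.e₁ P.he₁ (P.hdual' _ ((P.base_map a).1 ha)) (P.hw' _), hpt,
      ← Category.assoc, up_avc j P.avc' P.havc', P.chMap_cochi]
    congr 4
    refine Units.ext ?_
    rw [Units.val_pow_eq_pow_val, Units.val_neg, Units.val_one, P.neg_pow' (j := j), one_pow]

theorem conj_signs {a : P.D.idx} (ha : a ∈ P.D.base.support) {k : (𝟙_ (Over S) ⟶ G) × (𝟙_ (Over S) ⟶ G')}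
    (hk : k ∈ P.signs) : (P.pw a)⁻¹ * k * P.pw a ∈ P.signs := by
  obtain ⟨lam, hlam⟩ := hk
  refine ⟨lam.comp (P.D.P.reflection a).toLinearMap.toAddMonoidHom, fun R _ j _ C _ _ => ?_⟩
  have h := P.res_pw_t2 ha j (reflChar (D := P.D.toSplitRed) a (P.sgn lam C))
  rw [reflChar_reflChar] at h
  rw [map_mul, map_mul, map_inv, hlam R j C, ← h,
    show P.sgn (lam.comp (P.D.P.reflection a).toLinearMap.toAddMonoidHom) C =
      reflChar (D := P.D.toSplitRed) a (P.sgn lam C) from rfl]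
  group

theorem braidLen_map {a b : P.D.idx} :
    braidLen (P.D'.P.pairing (P.d b) (P.d a)) (P.D'.P.pairing (P.d a) (P.d b)) =
      braidLen (P.D.P.pairing b a) (P.D.P.pairing a b) := by
  have h : P.D'.P.pairing (P.d b) (P.d a) * P.D'.P.pairing (P.d a) (P.d b) =
      P.D.P.pairing b a * P.D.P.pairing a b := by
    have h0 : ((P.q a : ℤ) * P.q b) ≠ 0 := by
      have := P.q_pos a; have := P.q_pos b; positivity
    refine mul_left_cancel₀ h0 ?_
    linear_combination (P.D'.P.pairing (P.d a) (P.d b) * P.q b) * P.pairing_map b a +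
      (P.q b * P.D.P.pairing b a) * P.pairing_map a b
  unfold braidLen
  rw [h]

theorem map_pick (a b : P.D.idx) (t : List Bool) :
    (t.map (pick a b)).map P.d = t.map (pick (P.d a) (P.d b)) := by
  rw [List.map_map]
  exact List.map_congr_left fun c _ => by cases c <;> rfl

theorem braid {a b : P.D.idx} (ha : a ∈ P.D.base.support) (hb : b ∈ P.D.base.support) (hne : a ≠ b) (c : Bool) :
    val P.pw ((alt c (braidLen (P.D.P.pairing b a) (P.D.P.pairing a b))).map (pick a b)) =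
      val P.pw ((alt (!c) (braidLen (P.D.P.pairing b a) (P.D.P.pairing a b))).map (pick a b)) := by
  rw [val_pw, val_pw, map_pick, map_pick, ← P.braidLen_map]
  refine Prod.ext ?_ ?_
  · rw [P.braidLen_map]
    exact weyl_braid P.havc P.e₁ P.he₁ P.hdual P.w P.hw ha hb hne c
  · exact weyl_braid P.havc' P.e₁ P.he₁ P.hdual' P.w' P.hw' ((P.base_map a).1 ha) ((P.base_map b).1 hb)
      (P.d.injective.ne hne) c

theorem equiv_signs {l l' : List P.D.idx} (hl : ∀ x ∈ l, x ∈ P.D.base.support)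
    (hl' : ∀ x ∈ l', x ∈ P.D.base.support) (he : wd P.D.P l = wd P.D.P l') :
    (val P.pw l')⁻¹ * val P.pw l ∈ P.signs := by
  haveI : Finite P.D.idx := Finite.of_fintype _
  haveI := RootCombo.isCrystallographic P.D.P
  exact val_equiv (IsSimple.of_base P.D.base) (fun a ha b hb hne => pairs_base ha hb hne)
    (fun a ha b hb hne c => P.braid ha hb hne c) P.signs (fun a ha => P.sq_mem_signs ha)
    (fun a ha k hk => P.conj_signs ha hk) hl hl' he

theorem car_of_wd {l l' : List P.D.idx} (hl : ∀ x ∈ l, x ∈ P.D.base.support)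
    (hl' : ∀ x ∈ l', x ∈ P.D.base.support) (he : wd P.D.P l = wd P.D.P l') {g : P.D.idx}
    {F F' : (Red.Ga S ⟶ G) × (Red.Ga S ⟶ G')} (hF : P.Eqv g F) (h : Car (val P.pw l') F F') :
    Car (val P.pw l) F F' := by
  have := h.mul (P.car_signs (P.equiv_signs hl hl' he) hF)
  rwa [mul_inv_cancel_left] at this

theorem car_pair {a b : P.D.idx} (ha : a ∈ P.D.base.support) (hb : b ∈ P.D.base.support) (hne : a ≠ b)
    (t : List Bool) {β : P.D.idx} (hβ : β = a ∨ β = b) (h : wd P.D.P (t.map (pick a b)) • a = β) :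
    Car (val P.pw (t.map (pick a b))) (P.pu a) (P.pu β) := by
  obtain ⟨c, k, hk, he⟩ := exists_alt ha hb hne t
  refine P.car_of_wd (pick_mem ha hb _) (pick_mem ha hb _) he.symm (P.eqv_pu a) ?_
  rw [← he] at h
  refine ⟨1, Or.inl rfl, fun R _ j _ C _ _ x => ?_⟩
  rw [val_pw, map_pick, Int.cast_one, _root_.one_mul]
  refine Prod.ext (carriesOne_alt P.havc P.e₁ P.he₁ P.hdual P.w P.hw ha hb hne c hk hβ h R j C x) ?_
  have hw' := P.wd_map ((alt c k).map (pick a b)) a
  rw [map_pick, h] at hw'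
  show _ * (gp j x ≫ P.tu a) * _ = gp j x ≫ P.tu β
  rw [P.gp_tu, P.gp_tu, hw'.2]
  exact carriesOne_alt P.havc' P.e₁ P.he₁ P.hdual' P.w' P.hw' ((P.base_map a).1 ha) ((P.base_map b).1 hb)
    (P.d.injective.ne hne) c (P.braidLen_map.symm ▸ hk) (hβ.imp (congrArg P.d) (congrArg P.d)) hw'.1 R j C _

/-- One link of a chain of simple roots. -/
theorem car_link {α γ β : P.D.idx} (hα : α ∈ P.D.base.support) (hγ : γ ∈ P.D.base.support) {g : P.D.P.Aut}
    (hg : g ∈ Subgroup.closure {RootPairing.Equiv.reflection P.D.P α, RootPairing.Equiv.reflection P.D.P γ})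
    (hβ : α ≠ β → γ = β) (h : g • α = β) :
    ∃ L : List P.D.idx, (∀ x ∈ L, x ∈ P.D.base.support) ∧ wd P.D.P L = g ∧ Car (val P.pw L) (P.pu α) (P.pu β) := by
  haveI : Finite P.D.idx := Finite.of_fintype _
  haveI := RootCombo.isCrystallographic P.D.P
  have hor : β = α ∨ β = γ := by
    by_cases e : α = β
    · exact Or.inl e.symm
    · exact Or.inr (hβ e).symm
  by_cases hne : α = γ
  · subst hne
    obtain rfl : β = α := hor.elim id id
    have hg' : g = 1 ∨ g = RootPairing.Equiv.reflection P.D.P β := by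
      rw [Set.pair_eq_singleton] at hg
      clear h
      induction hg using Subgroup.closure_induction with
      | mem x hx => exact Or.inr hx
      | one => exact Or.inl rfl
      | mul x y _ _ hx hy =>
        rcases hx with rfl | rfl <;> rcases hy with rfl | rfl <;>
          first | exact Or.inl (Groth.L24.RootD.reflection_mul_self _) | simp
      | inv x _ hx => rcases hx with rfl | rfl <;> simp [RootPairing.Equiv.reflection_inv]
    rcases hg' with rfl | rfl
    · exact ⟨[], by simp, rfl, by simpa [val] using Car.refl (P.pu β)⟩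
    · rw [reflection_smul_idx] at h
      have e := congrArg P.D.P.root h
      rw [root_self_refl, neg_eq_iff_add_eq_zero] at e
      exact absurd e fun e => P.D.P.ne_zero β (by
        haveI : IsAddTorsionFree P.D.M := .of_isTorsionFree ℤ P.D.M
        exact (smul_eq_zero.1 ((two_smul ℤ _).trans e)).resolve_left two_ne_zero)
  obtain ⟨L, hL, rfl⟩ := Groth.L24.RootD.exists_word (P := P.D.P) (T := {α, γ}) (g := g) (by rwa [Set.image_pair])
  obtain ⟨t, rfl⟩ := exists_bool_word L hL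
  exact ⟨_, pick_mem hα hγ t, rfl, P.car_pair hα hγ hne t hor h⟩

/-- Products of Weyl elements carry simple root groups to simple root groups up to a sign. -/
theorem car_word {l : List P.D.idx} (hl : ∀ x ∈ l, x ∈ P.D.base.support) {a a₀ : P.D.idx} (ha : a ∈ P.D.base.support)
    (ha₀ : a₀ ∈ P.D.base.support) (h : wd P.D.P l • a = a₀) : Car (val P.pw l) (P.pu a) (P.pu a₀) := by
  haveI : Finite P.D.idx := Finite.of_fintype _
  haveI := RootCombo.isCrystallographic P.D.P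
  obtain ⟨m, as, ws, has, h0, hlast, -, hwl, hstep, hlink⟩ :=
    Groth.L24.RootD.exists_chain (IsSimple.of_base P.D.base) ha₀ l.length l le_rfl hl a ha h
  suffices aux : ∀ i (hi : i ≤ m), ∃ L : List P.D.idx, (∀ x ∈ L, x ∈ P.D.base.support) ∧
      wd P.D.P L = (List.ofFn fun k : Fin i => ws (Fin.castLE hi (Fin.rev k))).prod ∧
      Car (val P.pw L) (P.pu a) (P.pu (as ⟨i, Nat.lt_succ_of_le hi⟩)) by
    obtain ⟨L, hL, heL, hc⟩ := aux m le_rfl
    rw [← hlast]
    exact P.car_of_wd hl hL (hwl.trans heL.symm) (P.eqv_pu a) hc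
  intro i
  induction i with
  | zero =>
    intro hi
    refine ⟨[], by simp, by simp [wd_nil], ?_⟩
    rw [show as ⟨0, Nat.lt_succ_of_le hi⟩ = a from h0]
    simpa [val] using Car.refl (P.pu a)
  | succ i ih =>
    intro hi
    obtain ⟨L, hL, heL, hc⟩ := ih (Nat.le_of_succ_le hi)
    let k : Fin m := ⟨i, hi⟩
    obtain ⟨γ, hγ, hmem, hγ'⟩ := hlink k
    obtain ⟨L', hL', heL', hc'⟩ := P.car_link (has _) hγ hmem hγ' (hstep k)
    refine ⟨L' ++ L, fun x hx => (List.mem_append.1 hx).elim (hL' x) (hL x), ?_, ?_⟩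
    · rw [List.ofFn_succ, List.prod_cons, wd_append, heL', heL]
      congr 2
      · exact congrArg List.ofFn (funext fun q => congrArg ws (Fin.ext (by simp)))
    · rw [val_append]
      exact hc'.mul hc


/-- A word and a simple root giving each root. -/
def rep (c : P.D.idx) : List P.D.idx × P.D.idx := (Groth.L14.Chev.exists_rep (D := P.D) c).choose

theorem rep_spec (c : P.D.idx) : (∀ x ∈ (P.rep c).1, x ∈ P.D.base.support) ∧ (P.rep c).2 ∈ P.D.base.support ∧
    wd P.D.P (P.rep c).1 • (P.rep c).2 = c ∧ (c ∈ P.D.base.support → P.rep c = ([], c)) :=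
  (Groth.L14.Chev.exists_rep (D := P.D) c).choose_spec

/-- The pair of root homomorphisms of the system. -/
def sys (c : P.D.idx) : (Red.Ga S ⟶ G) × (Red.Ga S ⟶ G') :=
  Groth.L14.Iso.conj2 (val P.pw (P.rep c).1) (P.pu (P.rep c).2)

theorem sys_simple {a : P.D.idx} (ha : a ∈ P.D.base.support) : P.sys a = P.pu a := by
  rw [sys, (P.rep_spec a).2.2.2 ha]
  simp [val, conj2_one]

theorem eqv_sys (c : P.D.idx) : P.Eqv c (P.sys c) := by
  have h := P.eqv_word (P.rep_spec c).1 (P.eqv_pu (P.rep c).2)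
  rwa [(P.rep_spec c).2.2.1] at h

theorem car_sys_word {l : List P.D.idx} (hl : ∀ x ∈ l, x ∈ P.D.base.support) {a : P.D.idx}
    (ha : a ∈ P.D.base.support) {c : P.D.idx} (hc : wd P.D.P l • a = c) :
    Car (val P.pw l) (P.pu a) (P.sys c) := by
  obtain ⟨hl', ha', he, -⟩ := P.rep_spec c
  have happ : ∀ x ∈ (P.rep c).1.reverse ++ l, x ∈ P.D.base.support := fun x hx =>
    (List.mem_append.1 hx).elim (fun hx => hl' x (List.mem_reverse.1 hx)) (hl x)
  have h1 : Car (val P.pw ((P.rep c).1.reverse ++ l)) (P.pu a) (P.pu (P.rep c).2) :=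
    P.car_word happ ha ha' (by
      rw [wd_append, mul_smul, hc, Groth.L24.RootD.wd_reverse, inv_smul_eq_iff, he])
  have hk : val P.pw (P.rep c).1.reverse * val P.pw (P.rep c).1 ∈ P.signs := by
    have := P.equiv_signs (l := (P.rep c).1.reverse ++ (P.rep c).1) (l' := [])
      (fun x hx => (List.mem_append.1 hx).elim (fun hx => hl' x (List.mem_reverse.1 hx)) (hl' x)) (by simp)
      (by rw [wd_append, Groth.L24.RootD.wd_reverse, inv_mul_cancel, wd_nil])
    simpa [val_append, val] using this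
  have h2 := (Car.conj2 (val P.pw (P.rep c).1) (P.pu (P.rep c).2)).mul
    ((P.car_signs (inv_mem hk) (P.eqv_pu (P.rep c).2)).mul h1)
  rw [sys]
  convert h2 using 1
  simp only [val_append]
  group

/-- A simple Weyl pair carries the system to itself. -/
theorem car_sys {a : P.D.idx} (ha : a ∈ P.D.base.support) (c : P.D.idx) :
    Car (P.pw a) (P.sys c) (P.sys (P.D.P.reflectionPerm a c)) := by
  obtain ⟨hl, hc, he, -⟩ := P.rep_spec c
  have h := P.car_sys_word (l := a :: (P.rep c).1) (List.forall_mem_cons.2 ⟨ha, hl⟩) hc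
    (c := P.D.P.reflectionPerm a c) (by rw [wd_cons, mul_smul, he, reflection_smul_idx])
  rw [show val P.pw (a :: (P.rep c).1) = P.pw a * val P.pw (P.rep c).1 from List.prod_cons] at h
  have := h.mul (Car.conj2 (val P.pw (P.rep c).1) (P.pu (P.rep c).2)).inv
  rwa [mul_inv_cancel_right] at this

end Dat

end Groth.L14.Iso
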