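import Groth.Agent.L14.Iso.Build
import Groth.Agent.L14.RankOne.MapCell
import Mathlib.Algebra.DualNumber

/-!
Every pinning can be normalised at the opposite simple roots, and isomorphisms of root data lift uniquely to pinned
groups.
-/

set_option autoImplicit false
universe u

open CategoryTheory CategoryTheory.Limits AlgebraicGeometry MonoidalCategory CartesianMonoidalCategory MonObj
open Groth.L14.RankOne Groth.L25 Groth.L14.Chart Groth.L14.Chev Groth.L14.Chev.Cell Groth.L14.Coroot

set_option backward.isDefEq.respectTransparency.types false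
set_option linter.style.haveILetI false
set_option linter.unusedSectionVars false
set_option maxHeartbeats 1000000

noncomputable section

namespace Groth.L14.Iso

variable {S : Scheme.{u}} {G G' : Over S} [GrpObj G] [GrpObj G']

/-- A rescaled root homomorphism is a root homomorphism. -/
theorem isRootHom_scale {T : Over S} {i : T ⟶ G} {α : T ⟶ Red.Gm S} {u : Red.Ga S ⟶ G}
    (h : Red.IsRootHom i α u) (c : 𝟙_ (Over S) ⟶ Red.Gm S) : Red.IsRootHom i α (scaleLine c ≫ u) := by
  haveI := h.1
  haveI := isMonHom_scaleLine c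
  haveI := h.2.1
  haveI : IsIso (scaleLine c) := isIso_scaleLine c
  haveI : IsIso (scaleLine c).left := inferInstanceAs (IsIso ((Over.forget S).map (scaleLine c)))
  refine ⟨inferInstance, by rw [Over.comp_left]; infer_instance, fun X t x => ?_⟩
  obtain ⟨y, hy, hy'⟩ := h.2.2 X t (x ≫ scaleLine c)
  refine ⟨GaPts.ptOfElt (Red.gmFn (t ≫ α) * Red.gaFn x), ?_, ?_⟩
  · have e : GaPts.ptOfElt (Red.gmFn (t ≫ α) * Red.gaFn x) ≫ scaleLine c = y := GaPts.gaFn_injective (by
      show Red.gaFn _ = Red.gaFn y
      rw [gaFn_scaleLine, GaPts.gaFn_ptOfElt, hy', gaFn_scaleLine]; ring)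
    rw [← Category.assoc, ← Category.assoc, e, hy]
  · exact GaPts.gaFn_ptOfElt _

/-- The opposite of a simple root is not simple. -/
theorem opp_not_simple (D : Red.Pinning G) {a : D.idx} (ha : a ∈ D.base.support) :
    D.P.reflectionPerm a a ∉ D.base.support := fun h => by
  haveI : Finite D.idx := Finite.of_fintype _
  obtain ⟨lam, hl⟩ := hasLam (D := D.toSplitRed) D.base
  have h1 := (hl a).1 (simple_pos D.P D.base ha)
  have h2 := (hl _).1 (simple_pos D.P D.base h)
  rw [root_neg', map_neg] at h2
  omega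

/-- A pinning with the same simple part, dual at the opposite simple roots. -/
theorem exists_normal (D : Red.Pinning G) :
    ∃ v : D.idx → (Red.Ga S ⟶ G),
      (∀ c, Red.IsRootHom D.i (D.split.hom.hom.hom ≫ Red.chi S (D.P.root c)) (v c)) ∧
      (∀ a ∈ D.base.support, v a = D.u a) ∧
      ∀ a ∈ D.base.support, DualAt (D := D.toSplitRed) (fun c => coav D.toSplitRed c) v (opp v) a := by
  classical
  choose! cst hcst using fun (a : D.idx) (ha : a ∈ RedSub.posRoots D.P D.base) =>
    exists_formula_pos (D := D.toSplitRed) D.base ha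
  let v : D.idx → (Red.Ga S ⟶ G) := fun c =>
    if D.P.reflectionPerm c c ∈ D.base.support then scaleLine (cst (D.P.reflectionPerm c c))⁻¹ ≫ D.u c else D.u c
  have hv : ∀ c, Red.IsRootHom D.i (D.split.hom.hom.hom ≫ Red.chi S (D.P.root c)) (v c) := fun c => by
    simp only [v]
    split
    · exact isRootHom_scale (D.rootHom c) _
    · exact D.rootHom c
  have hsimple : ∀ a ∈ D.base.support, v a = D.u a := fun a ha => if_neg (opp_not_simple D ha)
  refine ⟨v, hv, hsimple, fun a ha => ⟨(hv _).1, fun X x y hu => ?_⟩⟩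
  have hopp : v (D.P.reflectionPerm a a) = scaleLine (cst a)⁻¹ ≫ D.u (D.P.reflectionPerm a a) := by
    have e : D.P.reflectionPerm (D.P.reflectionPerm a a) (D.P.reflectionPerm a a) = a :=
      D.P.root.injective (by rw [root_neg', root_neg', neg_neg])
    simp only [v, e, if_pos ha]
  have hcc : Red.gmFn (toUnit X ≫ cst a) * Red.gmFn (toUnit X ≫ (cst a)⁻¹) = 1 := by
    rw [← GmPts.gmFn_mul, ← MonObj.comp_mul, mul_inv_cancel, MonObj.comp_one, GmPts.gmFn_one]
  obtain ⟨x', y', z, hz, hx', hy', he⟩ := hcst a (simple_pos D.P D.base ha) X x (y ≫ scaleLine (cst a)⁻¹) (by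
    rw [gaFn_scaleLine, show 1 + Red.gmFn (toUnit X ≫ cst a) * Red.gaFn x *
        (Red.gmFn (toUnit X ≫ (cst a)⁻¹) * Red.gaFn y) = 1 + Red.gaFn x * Red.gaFn y by
      linear_combination (Red.gaFn x * Red.gaFn y) * hcc]
    exact hu)
  refine ⟨x', y' ≫ scaleLine (cst a), z, ?_, hx', ?_, ?_⟩
  · rw [hz, gaFn_scaleLine]
    linear_combination (Red.gaFn x * Red.gaFn y) * hcc
  · rw [gaFn_scaleLine, _root_.mul_assoc, hy', gaFn_scaleLine]
    linear_combination Red.gaFn y * hcc
  · show (x ≫ v a) * (y ≫ v (D.P.reflectionPerm a a)) = _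
    rw [show opp v a = v (D.P.reflectionPerm a a) from rfl, hopp, hsimple a ha, ← Category.assoc, he,
      ← Category.assoc (y' ≫ _), Category.assoc y', scaleLine_inv, Category.comp_id]

/-- A normalised pinning. -/
def normal (D : Red.Pinning G) : Red.Pinning G :=
  { D with u := (exists_normal D).choose, rootHom := (exists_normal D).choose_spec.1 }

theorem normal_simple (D : Red.Pinning G) {a : D.idx} (ha : a ∈ D.base.support) : (normal D).u a = D.u a :=
  (exists_normal D).choose_spec.2.1 a ha

theorem normal_dual (D : Red.Pinning G) : ∀ a ∈ (normal D).base.support,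
    DualAt (D := (normal D).toSplitRed) (fun c => coav (normal D).toSplitRed c) (normal D).u (opp (normal D).u) a :=
  (exists_normal D).choose_spec.2.2

/-- A homomorphism which is the identity on the torus and on a simple root group is the identity on the dual root
group of the opposite root. -/
theorem opp_fixed (D : Red.Pinning G) {a : D.idx} (ha : a ∈ D.base.support)
    (hd : DualAt (D := D.toSplitRed) (fun c => coav D.toSplitRed c) D.u (opp D.u) a) (g : G ≅ G) [IsMonHom g.hom]
    (hi : D.i ≫ g.hom = D.i) (hua : D.u a ≫ g.hom = D.u a) :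
    D.u (D.P.reflectionPerm a a) ≫ g.hom = D.u (D.P.reflectionPerm a a) := by
  haveI : Finite D.idx := Finite.of_fintype _
  haveI : ∀ c, IsMonHom (D.u c) := fun c => (D.rootHom c).1
  set a' := D.P.reflectionPerm a a with ha'
  have hroot : Red.IsRootHom D.i (D.split.hom.hom.hom ≫ Red.chi S (D.P.root a')) (D.u a' ≫ g.hom) := by
    haveI := (D.rootHom a').2.1
    haveI : IsIso g.hom.left := inferInstanceAs (IsIso ((Over.forget S).map g.hom))
    refine ⟨inferInstance, by rw [Over.comp_left]; infer_instance, fun X t x => ?_⟩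
    obtain ⟨y, hy, hy'⟩ := (D.rootHom a').2.2 X t x
    refine ⟨y, ?_, hy'⟩
    rw [← Category.assoc, hy]
    simp only [MonObj.mul_comp, GrpObj.inv_comp, Category.assoc, hi]
  refine hom_ext_open fun R _ j _ C _ _ t => ?_
  obtain ⟨s, hs⟩ := exists_scale (j := j) D.base hroot
  suffices hs1 : s = 1 by
    rw [← gp_gv (j := j) t, hs C, hs1, map_one, _root_.one_mul]
  let E := DualNumber R
  let s' : E := algebraMap R E s
  have he : DualNumber.eps * DualNumber.eps = (0 : E) := DualNumber.eps_mul_eps
  have hs'e : (s' * DualNumber.eps) * (s' * DualNumber.eps) = (0 : E) := by linear_combination s' * s' * he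
  let w₁ : Eˣ := ⟨1 + 1 * DualNumber.eps, 1 - DualNumber.eps, by linear_combination -he, by linear_combination -he⟩
  let w₂ : Eˣ := ⟨1 + 1 * (s' * DualNumber.eps), 1 - s' * DualNumber.eps, by linear_combination -hs'e,
    by linear_combination -hs'e⟩
  let avc : D.idx → (Red.Gm S ⟶ D.T) := fun c => coav D.toSplitRed c
  have h1 := congrArg (· ≫ g.hom) (dual_pt (D := D.toSplitRed) j avc a hd (1 : E) DualNumber.eps w₁ rfl)
  have h2 := dual_pt (D := D.toSplitRed) j avc a hd (1 : E) (s' * DualNumber.eps) w₂ rfl
  simp only [MonObj.mul_comp, Category.assoc, hua, hpt] at h1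
  rw [show opp D.u a = D.u a' from rfl] at h1 h2
  rw [hs E, hs E, hi] at h1
  rw [h2] at h1
  obtain ⟨lam, hl⟩ := hasLam (D := D.toSplitRed) D.base
  have hpos := (hl a).1 (simple_pos D.P D.base ha)
  simp only [hpt, ← Category.assoc, up_avc j avc (fun _ => rfl)] at h1
  have hr : ∀ (c : D.idx) (z : E), gp j z ≫ D.u c = rootProd j D.u [c] (fun _ => z) := fun c z => by
    simp [rootProd]
  rw [hr a', hr a', hr a, hr a, _root_.mul_assoc, _root_.mul_assoc] at h1
  obtain ⟨-, -, hx⟩ := cell_injective (D := D.toSplitRed) D.rootHom (mu := lam) (List.nodup_singleton _)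
    (List.nodup_singleton _) (fun c hc => by
      rw [List.mem_singleton] at hc
      rw [hc, ha', root_neg', map_neg]; omega)
    (fun c hc => by rw [List.mem_singleton] at hc; rw [hc]; exact hpos) h1
  have := congrArg TrivSqZeroExt.snd (hx a (List.mem_singleton_self _))
  simpa [w₁, w₂, s', E, TrivSqZeroExt.algebraMap_eq_inl, TrivSqZeroExt.snd_mul, eq_comm] using this

/-- The morphism of pinned root data of an isomorphism of root data between normalised pinnings. -/
def datOf (D : Red.Pinning G) (D' : Red.Pinning G') (h : RootPairing.Equiv D'.P D.P)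
    (hΔ : ∀ a' : D'.idx, a' ∈ D'.base.support ↔ h.indexEquiv a' ∈ D.base.support) : Dat G G' where
  D := normal D
  D' := normal D'
  h := h.weightMap
  d := h.indexEquiv.symm
  q := fun _ => 1
  root_map a := by
    show h.weightMap (D'.P.root (h.indexEquiv.symm a)) = ((1 : ℕ) : ℤ) • D.P.root a
    rw [RootPairing.Hom.root_weightMap_apply D'.P D.P _ h.toHom, Equiv.apply_symm_apply, Nat.cast_one, one_smul]
  coroot_map a := by
    show h.weightMap.dualMap (D.P.coroot a) = ((1 : ℕ) : ℤ) • D'.P.coroot (h.indexEquiv.symm a)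
    rw [Nat.cast_one, one_smul, ← RootPairing.Hom.coroot_coweightMap_apply D'.P D.P a h.toHom]
    refine LinearMap.ext fun m => ?_
    have e := LinearMap.congr_fun (RootPairing.Hom.weight_coweight_transpose_apply D'.P D.P (D.P.coroot a) h.toHom) m
    simpa [D.pairing_eq, D'.pairing_eq] using e
  base_map a := by
    show a ∈ D.base.support ↔ h.indexEquiv.symm a ∈ D'.base.support
    rw [hΔ, Equiv.apply_symm_apply]
    exact Iff.rfl
  q_pos _ := one_pos
  q_add _ X x y := by simp
  e₁ := GaPts.ptOfElt 1
  he₁ := GaPts.gaFn_ptOfElt 1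
  hdual := normal_dual D
  hdual' := normal_dual D'

theorem tu_one (P : Dat G G') (a : P.D.idx) (h : P.q a = 1) : P.tu a = P.D'.u (P.d a) := by
  rw [Dat.tu, show P.fr a = 𝟙 _ from GaPts.gaFn_injective (by
    show Red.gaFn _ = Red.gaFn _
    have := P.gaFn_fr a (𝟙 (Red.Ga S))
    rwa [Category.id_comp, h, pow_one] at this), Category.id_comp]

/-- The homomorphism of an isomorphism of pinned root data is the identity for the identity. -/
theorem isHomOf_id (D : Red.Pinning G) :
    (datOf D D (RootPairing.Equiv.id D.P) fun _ => Iff.rfl).IsHomOf (𝟙 G) := by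
  refine ⟨inferInstance, ?_, fun a ha => ?_⟩
  · rw [Category.comp_id]
    show D.i = (D.split.hom.hom.hom ≫ Red.DSmap S (AddMonoidHom.id D.M) ≫ D.split.inv.hom.hom) ≫ D.i
    rw [show Red.DSmap S (AddMonoidHom.id D.M) = 𝟙 _ from Groth.L25.TorusTorsion.DSmap_id S, Category.id_comp,
      split_hom_inv, Category.id_comp]
  · rw [tu_one _ _ rfl, tu_one _ _ rfl]
    exact ⟨Category.comp_id _, Category.comp_id _⟩

end Groth.L14.Iso
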