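import Groth.Agent.L14.Iso.Comm

/-!
The positive roots of the span of two simple roots, and pairs of them whose root groups commute.
-/

set_option autoImplicit false
universe u

open CategoryTheory CategoryTheory.Limits AlgebraicGeometry MonoidalCategory CartesianMonoidalCategory MonObj
open Groth.L14.RankOne Groth.L25 Groth.L14.Chart Groth.L14.Chev Groth.L14.Chev.Words Groth.L14.Coroot
open Groth.L24.RootD (wd wd_append wd_nil wd_singleton wd_cons root_smul reflection_smul_idx IsSimple)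

set_option backward.isDefEq.respectTransparency.types false
set_option linter.style.haveILetI false
set_option linter.unusedSectionVars false
set_option maxHeartbeats 1000000

noncomputable section

namespace Groth.L14.Iso

variable {S : Scheme.{u}} {G G' : Over S} [GrpObj G] [GrpObj G']

/-- A list of coordinates holds the positive roots of a system of rank two. -/
def PlaneList (p q : ℤ) (L : List (ℤ × ℤ)) : Prop :=
  (1, 0) ∈ L ∧ (0, 1) ∈ L ∧ ∀ c : Bool, ∀ v ∈ L, step p q c v ∈ L ∨ (step p q c v).1 < 0 ∨ (step p q c v).2 < 0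

theorem planeList_zero : PlaneList 0 0 [(1, 0), (0, 1)] := by unfold PlaneList; decide

theorem planeList_A : PlaneList (-1) (-1) [(1, 0), (0, 1), (1, 1)] := by unfold PlaneList; decide

theorem planeList_B : PlaneList (-2) (-1) [(1, 0), (0, 1), (1, 1), (2, 1)] := by unfold PlaneList; decide

theorem planeList_G : PlaneList (-3) (-1) [(1, 0), (0, 1), (1, 1), (2, 1), (3, 1), (3, 2)] := by
  unfold PlaneList; decide

namespace Dat

variable (P : Dat G G') {a b : P.D.idx} (ha : a ∈ P.D.base.support) (hb : b ∈ P.D.base.support) (hne : a ≠ b)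
  {p q : ℤ} (hp : P.D.P.pairing b a = p) (hq : P.D.P.pairing a b = q) {L : List (ℤ × ℤ)} (hL : PlaneList p q L)

/-- The root `g` has coordinates `v` along `a` and `b`. -/
def At (a b g : P.D.idx) (v : ℤ × ℤ) : Prop := P.D.P.root g = v.1 • P.D.P.root a + v.2 • P.D.P.root b

theorem at_left (a b : P.D.idx) : P.At a b a (1, 0) := by simp [At]

theorem at_right (a b : P.D.idx) : P.At a b b (0, 1) := by simp [At]

include hp hq in
theorem at_step {g : P.D.idx} {v : ℤ × ℤ} (h : P.At a b g v) (c : Bool) :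
    P.At a b (P.D.P.reflectionPerm (pick a b c) g) (step p q c v) := by
  unfold At at *
  rw [P.D.P.root_reflectionPerm, h, map_add, map_zsmul, map_zsmul]
  cases c <;>
    simp only [pick, step, cond_true, cond_false, RootPairing.reflection_apply_root, P.D.P.pairing_same, hp, hq] <;>
    module

include ha hb hne in
theorem at_unique {g : P.D.idx} {v v' : ℤ × ℤ} (h : P.At a b g v) (h' : P.At a b g v') : v = v' := by
  have := indep_simple P.D ha hb hne (v.1 - v'.1) (v.2 - v'.2) (by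
    unfold At at *
    rw [sub_smul, sub_smul, sub_add_sub_comm, ← h, ← h', sub_self])
  exact Prod.ext (by omega) (by omega)

theorem idx_eq_of_at {g g' : P.D.idx} {v : ℤ × ℤ} (h : P.At a b g v) (h' : P.At a b g' v) : g = g' :=
  P.D.P.root.injective (h.trans h'.symm)

include ha hb hne in
theorem at_nonneg {g : P.D.idx} (hg : g ∈ RedSub.posRoots P.D.P P.D.base) {v : ℤ × ℤ} (h : P.At a b g v) :
    0 ≤ v.1 ∧ 0 ≤ v.2 := by
  classical
  haveI : Finite P.D.idx := Finite.of_fintype _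
  haveI := RootCombo.isCrystallographic P.D.P
  have hc := (IsSimple.of_base P.D.base).nonneg_of_pos hg (c := Finsupp.single a v.1 + Finsupp.single b v.2)
    (fun x hx => by
      rcases Finset.mem_union.1 (Finsupp.support_add hx) with h' | h'
      · exact Finset.mem_singleton.1 (Finsupp.support_single_subset h') ▸ ha
      · exact Finset.mem_singleton.1 (Finsupp.support_single_subset h') ▸ hb)
    (by simp [Groth.L24.RootD.comb, h.symm])
  have k1 := hc a
  have k2 := hc b
  simp [hne, hne.symm] at k1 k2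
  exact ⟨k1, k2⟩

include ha hb hne hp hq hL in
/-- The coordinates of the positive roots of the span. -/
theorem mem_planeList : ∀ (n : ℕ) {g : P.D.idx}, g ∈ RedSub.posRoots P.D.P P.D.base → ∀ {v : ℤ × ℤ},
    P.At a b g v → v.1 + v.2 ≤ n → v ∈ L := by
  haveI : Finite P.D.idx := Finite.of_fintype _
  haveI := RootCombo.isCrystallographic P.D.P
  intro n
  induction n using Nat.strong_induction_on with
  | _ n ih =>
    intro g hg v h hn
    obtain ⟨hv1, hv2⟩ := P.at_nonneg ha hb hne hg h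
    by_cases hga : g = a
    · subst hga; rw [P.at_unique ha hb hne h (P.at_left g b)]; exact hL.1
    by_cases hgb : g = b
    · subst hgb; rw [P.at_unique ha hb hne h (P.at_right a g)]; exact hL.2.1
    have h0 : ¬ (v.1 = 0 ∧ v.2 = 0) := fun e => P.D.P.ne_zero g (by
      rw [h, e.1, e.2, zero_smul, zero_smul, add_zero])
    have hlt : 0 < 2 * v.1 + v.2 * p ∨ 0 < v.1 * q + 2 * v.2 := by
      have hpl := pairs_base ha hb hne
      rw [hp, hq] at hpl
      simp only [pairList, List.mem_cons, List.not_mem_nil, or_false, Prod.mk.injEq] at hpl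
      rcases hpl with ⟨h1, h2⟩ | ⟨h1, h2⟩ | ⟨h1, h2⟩ | ⟨h1, h2⟩ | ⟨h1, h2⟩ | ⟨h1, h2⟩ <;> subst h1 h2 <;> omega
    have go : ∀ c : Bool, pick a b c ≠ g → pick a b c ∈ P.D.base.support →
        (step p q c v).1 + (step p q c v).2 < v.1 + v.2 → v ∈ L := by
      intro c hcg hc hdec
      have hg' := Cell.refl_simple_pos P.D.P P.D.base hc hg (Ne.symm hcg)
      obtain ⟨k1, k2⟩ := P.at_nonneg ha hb hne hg' (P.at_step hp hq h c)
      have hmem := ih ((step p q c v).1 + (step p q c v).2).toNat (by omega) hg' (P.at_step hp hq h c) (by omega)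
      have hinv : step p q c (step p q c v) = v := by
        cases c <;> simp [step] <;> ext <;> simp
      rcases hL.2.2 c _ hmem with h' | h'
      · rwa [hinv] at h'
      · rw [hinv] at h'; omega
    rcases hlt with hlt | hlt
    · exact go true (Ne.symm hga) ha (by simp [step]; omega)
    · exact go false (Ne.symm hgb) hb (by simp [step]; omega)

include ha hb hne hp hq hL in
theorem at_mem {g : P.D.idx} (hg : g ∈ RedSub.posRoots P.D.P P.D.base) {v : ℤ × ℤ} (h : P.At a b g v) : v ∈ L := by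
  obtain ⟨h1, h2⟩ := P.at_nonneg ha hb hne hg h
  exact P.mem_planeList ha hb hne hp hq hL (v.1 + v.2).toNat hg h (by omega)

include ha hb hne in
theorem at_combo {g : P.D.idx} {s : ℤ} (hs : 0 < s) {m n : ℤ} (hmn : 0 ≤ m ∧ 0 ≤ n)
    (h : s • P.D.P.root g = m • P.D.P.root a + n • P.D.P.root b) :
    g ∈ RedSub.posRoots P.D.P P.D.base ∧ ∃ v : ℤ × ℤ, P.At a b g v ∧ m = s * v.1 ∧ n = s * v.2 := by
  classical
  haveI : Finite P.D.idx := Finite.of_fintype _
  haveI := RootCombo.isCrystallographic P.D.P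
  have hΔ := IsSimple.of_base P.D.base
  obtain ⟨co, hco, hcomb⟩ : ∃ co : P.D.idx →₀ ℤ, ↑co.support ⊆ (P.D.base.support : Set P.D.idx) ∧
      Groth.L24.RootD.comb P.D.P co = P.D.P.root g := by
    rcases P.D.base.root_mem_or_neg_mem g with hm | hm
    · obtain ⟨c, h1, -, h2⟩ := Groth.L24.RootD.exists_comb_of_mem_natSpan hm
      exact ⟨c, h1, h2⟩
    · obtain ⟨c, h1, -, h2⟩ := Groth.L24.RootD.exists_comb_of_mem_natSpan hm
      exact ⟨-c, by simpa using h1, by simp [h2]⟩
  have heq : s • co = Finsupp.single a m + Finsupp.single b n := by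
    refine Groth.L24.RootD.comb_unique hΔ.linInd ?_ ?_ (by simp [map_zsmul, hcomb, h])
    · exact fun x hx => hco (Finsupp.support_smul hx)
    · intro x hx
      rcases Finset.mem_union.1 (Finsupp.support_add hx) with h' | h'
      · exact Finset.mem_singleton.1 (Finsupp.support_single_subset h') ▸ ha
      · exact Finset.mem_singleton.1 (Finsupp.support_single_subset h') ▸ hb
  have hval : ∀ x, s * co x = (Finsupp.single a m + Finsupp.single b n : P.D.idx →₀ ℤ) x := fun x => by
    rw [← heq]; simp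
  have hco2 : co = Finsupp.single a (co a) + Finsupp.single b (co b) := Finsupp.ext fun x => by
    by_cases hxa : x = a
    · subst hxa; simp [hne]
    by_cases hxb : x = b
    · subst hxb; simp [hxa]
    have := hval x
    simp [hxa, hxb] at this ⊢
    rcases this with h' | h'
    · omega
    · exact h'
  have h1 := hval a
  have h2 := hval b
  simp [hne, hne.symm] at h1 h2
  have hat : P.At a b g (co a, co b) := by
    unfold At
    rw [← hcomb, hco2]
    simp [hne, hne.symm]
  refine ⟨?_, (co a, co b), hat, h1.symm, h2.symm⟩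
  show P.D.P.root g ∈ AddSubmonoid.closure _
  rw [← hcomb]
  refine Groth.L24.RootD.comb_mem_natSpan hco fun x => ?_
  show 0 ≤ co x
  by_contra hlt
  have := hval x
  have hnn : 0 ≤ (Finsupp.single a m + Finsupp.single b n : P.D.idx →₀ ℤ) x := by
    simp only [Finsupp.add_apply, Finsupp.single_apply]; split <;> split <;> omega
  nlinarith

include ha hb hne hp hq hL in
/-- The roots of the plane, given one root for each coordinate of the list. -/
theorem mem_of_at {g : P.D.idx} (hg : g ∈ RedSub.posRoots P.D.P P.D.base) {v : ℤ × ℤ} (h : P.At a b g v)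
    (N : ℤ × ℤ → P.D.idx) (hN : ∀ w ∈ L, P.At a b (N w) w) : ∃ w ∈ L, g = N w :=
  ⟨v, P.at_mem ha hb hne hp hq hL hg h, P.idx_eq_of_at h (hN v (P.at_mem ha hb hne hp hq hL hg h))⟩

include ha hb hne hp hq hL in
/-- Twisted sums outside the system give commuting pairs in the target. -/
theorem commute_target (k : ℤ × ℤ → ℕ) (r : ℕ) (hr : 0 < r)
    (hk : ∀ g v, g ∈ RedSub.posRoots P.D.P P.D.base → P.At a b g v → P.q g = k v * r)
    {c e : P.D.idx} {v₁ v₂ : ℤ × ℤ} (hc : P.At a b c v₁) (he : P.At a b e v₂)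
    (hv₁ : 0 ≤ v₁.1 ∧ 0 ≤ v₁.2) (hv₂ : 0 ≤ v₂.1 ∧ 0 ≤ v₂.2)
    (h2 : ((k v₁ : ℤ) * v₁.1 + k v₂ * v₂.1, (k v₁ : ℤ) * v₁.2 + k v₂ * v₂.2) ≠ (0, 0))
    (hw : ∀ v ∈ L, ((k v : ℤ) * v.1, (k v : ℤ) * v.2) ≠
      ((k v₁ : ℤ) * v₁.1 + k v₂ * v₂.1, (k v₁ : ℤ) * v₁.2 + k v₂ * v₂.2))
    (hc' : c ∈ RedSub.posRoots P.D.P P.D.base) (he' : e ∈ RedSub.posRoots P.D.P P.D.base) :
    (P.q c : ℤ) • P.D.P.root c + (P.q e : ℤ) • P.D.P.root e ≠ 0 ∧
      ∀ g, (P.q g : ℤ) • P.D.P.root g ≠ (P.q c : ℤ) • P.D.P.root c + (P.q e : ℤ) • P.D.P.root e := by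
  have hsum : (P.q c : ℤ) • P.D.P.root c + (P.q e : ℤ) • P.D.P.root e =
      ((r : ℤ) * ((k v₁ : ℤ) * v₁.1 + k v₂ * v₂.1)) • P.D.P.root a +
        ((r : ℤ) * ((k v₁ : ℤ) * v₁.2 + k v₂ * v₂.2)) • P.D.P.root b := by
    rw [hk c v₁ hc' hc, hk e v₂ he' he, hc, he, Nat.cast_mul, Nat.cast_mul]
    module
  have hr' : (0 : ℤ) < r := by exact_mod_cast hr
  obtain ⟨n1, n2⟩ : 0 ≤ (k v₁ : ℤ) * v₁.1 + k v₂ * v₂.1 ∧ 0 ≤ (k v₁ : ℤ) * v₁.2 + k v₂ * v₂.2 := by
    obtain ⟨_, _⟩ := hv₁; obtain ⟨_, _⟩ := hv₂; constructor <;> positivity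
  refine ⟨fun h => h2 ?_, fun g hg => ?_⟩
  · rw [hsum] at h
    obtain ⟨e1, e2⟩ := indep_simple P.D ha hb hne _ _ h
    exact Prod.ext ((mul_eq_zero.1 e1).resolve_left hr'.ne') ((mul_eq_zero.1 e2).resolve_left hr'.ne')
  · rw [hsum] at hg
    obtain ⟨hpos, v, hv, e1, e2⟩ := P.at_combo ha hb hne (by have := P.q_pos g; omega)
      ⟨mul_nonneg hr'.le n1, mul_nonneg hr'.le n2⟩ hg
    rw [hk g v hpos hv, Nat.cast_mul] at e1 e2
    refine hw v (P.at_mem ha hb hne hp hq hL hpos hv) (Prod.ext ?_ ?_)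
    · refine mul_left_cancel₀ hr'.ne' ?_; dsimp only; linear_combination -e1
    · refine mul_left_cancel₀ hr'.ne' ?_; dsimp only; linear_combination -e2

include ha hb hne hp hq hL in
/-- Sums outside the system give commuting pairs in the source. -/
theorem commute_source {c e : P.D.idx} {v₁ v₂ : ℤ × ℤ} (hc : P.At a b c v₁) (he : P.At a b e v₂)
    (hv₁ : 0 ≤ v₁.1 ∧ 0 ≤ v₁.2) (hv₂ : 0 ≤ v₂.1 ∧ 0 ≤ v₂.2)
    (h2 : (v₁.1 + v₂.1, v₁.2 + v₂.2) ≠ (0, 0)) (hw : (v₁.1 + v₂.1, v₁.2 + v₂.2) ∉ L) :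
    P.D.P.root c + P.D.P.root e ≠ 0 ∧ ∀ g, P.D.P.root g ≠ P.D.P.root c + P.D.P.root e := by
  have hsum : P.D.P.root c + P.D.P.root e =
      (v₁.1 + v₂.1) • P.D.P.root a + (v₁.2 + v₂.2) • P.D.P.root b := by
    rw [hc, he]; module
  refine ⟨fun h => h2 ?_, fun g hg => ?_⟩
  · rw [hsum] at h
    obtain ⟨e1, e2⟩ := indep_simple P.D ha hb hne _ _ h
    exact Prod.ext e1 e2
  · rw [hsum, ← one_smul ℤ (P.D.P.root g)] at hg
    obtain ⟨hpos, v, hv, e1, e2⟩ := P.at_combo ha hb hne one_pos ⟨by omega, by omega⟩ hg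
    refine hw ?_
    rw [e1, e2, _root_.one_mul, _root_.one_mul]
    exact P.at_mem ha hb hne hp hq hL hpos hv

end Dat

end Groth.L14.Iso
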