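import Groth.Agent.L14.Iso.PlaneRoots
import Groth.Agent.S8463

/-!
Commutators of pairs of root points in systems of rank two: the general tools, the decomposable system and the system A₂.
-/

set_option autoImplicit false
universe u

open CategoryTheory CategoryTheory.Limits AlgebraicGeometry MonoidalCategory CartesianMonoidalCategory MonObj
open Groth.L14.RankOne Groth.L25 Groth.L14.Chart Groth.L14.Chev Groth.L14.Chev.Words Groth.L14.Coroot
open Groth.L24.RootD (wd wd_append wd_nil wd_singleton wd_cons root_smul reflection_smul_idx)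

set_option backward.isDefEq.respectTransparency.types false
set_option linter.style.haveILetI false
set_option linter.unusedSectionVars false
set_option maxHeartbeats 1000000

noncomputable section

namespace Groth.L14.Iso

variable {S : Scheme.{u}} {G G' : Over S} [GrpObj G] [GrpObj G']

section Pts

variable {R : Type u} [CommRing R] (j : Spec (CommRingCat.of R) ⟶ S) {C : Type u} [CommRing C] [Algebra R C]

/-- The conjugate of a root point. -/
def cj (n : 𝟙_ (Over S) ⟶ G) (u₀ : Red.Ga S ⟶ G) (x : C) : Sp j C ⟶ G :=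
  (toUnit (Sp j C) ≫ n) * (gp j x ≫ u₀) * (toUnit (Sp j C) ≫ n)⁻¹

theorem cj_add (n : 𝟙_ (Over S) ⟶ G) (u₀ : Red.Ga S ⟶ G) [IsMonHom u₀] (x y : C) :
    cj j n u₀ (x + y) = cj j n u₀ x * cj j n u₀ y := by
  rw [cj, cj, cj, gp_add, MonObj.mul_comp]; group

theorem cj_zero (n : 𝟙_ (Over S) ⟶ G) (u₀ : Red.Ga S ⟶ G) [IsMonHom u₀] : cj j n u₀ (0 : C) = 1 := by
  have h := cj_add j n u₀ (0 : C) 0
  rw [add_zero] at h
  exact right_eq_mul.1 h

theorem cj_neg (n : 𝟙_ (Over S) ⟶ G) (u₀ : Red.Ga S ⟶ G) [IsMonHom u₀] (x : C) :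
    cj j n u₀ (-x) = (cj j n u₀ x)⁻¹ := by
  refine eq_inv_of_mul_eq_one_left ?_
  rw [← cj_add, neg_add_cancel, cj_zero]

theorem formula_A [IsOpenImmersion j] (D : Red.Pinning G) (e₁ : 𝟙_ (Over S) ⟶ Red.Ga S) (he₁ : Red.gaFn e₁ = 1)
    (hd : ∀ a ∈ D.base.support, DualAt (D := D.toSplitRed) (fun c => coav D.toSplitRed c) D.u (opp D.u) a)
    (w : D.idx → (𝟙_ (Over S) ⟶ G))
    (hw : ∀ a, w a = (e₁ ≫ D.u a) * (e₁ ≫ D.u (D.P.reflectionPerm a a))⁻¹ * (e₁ ≫ D.u a))
    {a b : D.idx} (ha : a ∈ D.base.support) (hb : b ∈ D.base.support) (hne : a ≠ b)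
    (hp : D.P.pairing b a = -1) (hq : D.P.pairing a b = -1) (x y : C) :
    (gp j y ≫ D.u b) * (gp j x ≫ D.u a) =
      (gp j x ≫ D.u a) * (gp j y ≫ D.u b) * cj j (w b) (D.u a) (x * y) :=
  Groth.Agent.S8463.result S e₁ he₁ G D _ (fun _ => rfl) (fun a ha X x y h => (hd a ha).2 X x y h) w hw a b ha hb hne
    hp hq (fun X z => (toUnit X ≫ w b) * (z ≫ D.u a) * (toUnit X ≫ w b)⁻¹) (fun _ _ => rfl) _ (gp j x) (gp j y)
    (gp j (x * y)) (by rw [gaFn_gp, gaFn_gp, gaFn_gp, map_mul])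

end Pts

namespace Dat

variable (P : Dat G G')

section Pts

variable {R : Type u} [CommRing R] (j : Spec (CommRingCat.of R) ⟶ S) {C : Type u} [CommRing C] [Algebra R C]

/-- The pair attached to a word and a root. -/
abbrev U (l : List P.D.idx) (c : P.D.idx) : (Red.Ga S ⟶ G) × (Red.Ga S ⟶ G') := conj2 (val P.pw l) (P.pu c)

theorem ev_U (l : List P.D.idx) (c : P.D.idx) (x : C) : ev j x (P.U l c) =
    (cj j (val P.w l) (P.D.u c) x, cj j (val P.w' (l.map P.d)) (P.D'.u (P.d c)) (x ^ P.q c)) := by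
  rw [ev_conj2, P.val_pw]
  refine Prod.ext rfl ?_
  show (toUnit _ ≫ _) * (gp j x ≫ P.tu c) * _ = _
  rw [P.gp_tu]
  rfl

theorem ev_U_one (c : P.D.idx) (x : C) : ev j x (P.U [] c) = ev j x (P.pu c) := by
  rw [U, show val P.pw [] = 1 from rfl, conj2_one]

theorem ev_pu (c : P.D.idx) (x : C) : ev j x (P.pu c) = (gp j x ≫ P.D.u c, gp j (x ^ P.q c) ≫ P.D'.u (P.d c)) :=
  Prod.ext rfl (P.gp_tu c x)

end Pts

theorem pairing_cases {a b : P.D.idx} (ha : a ∈ P.D.base.support) (hb : b ∈ P.D.base.support) (hne : a ≠ b) :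
    (P.D'.P.pairing (P.d b) (P.d a), P.D'.P.pairing (P.d a) (P.d b)) ∈ pairList ∧
      P.D'.P.pairing (P.d b) (P.d a) * P.q a = P.q b * P.D.P.pairing b a ∧
      P.D'.P.pairing (P.d a) (P.d b) * P.q b = P.q a * P.D.P.pairing a b :=
  ⟨pairs_base ((P.base_map a).1 ha) ((P.base_map b).1 hb) (P.d.injective.ne hne), P.pairing_map b a, P.pairing_map a b⟩

/-- A pair with one simple member and one member presented by a word. -/
theorem pairComm_U {c e : P.D.idx} (he : e ∈ P.D.base.support) {l : List P.D.idx}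
    (hl : ∀ x ∈ l, x ∈ P.D.base.support) {c₀ : P.D.idx} (hc₀ : c₀ ∈ P.D.base.support) (hc : wd P.D.P l • c₀ = c)
    (h : ∀ (R : Type u) [CommRing R] (j : Spec (CommRingCat.of R) ⟶ S) [IsOpenImmersion j] (C : Type u) [CommRing C]
      [Algebra R C] (I : Ideal C) (x y : C), x ∈ I → y ∈ I → ∃ T ∈ P.gen2 j I (P.combos c e),
        ev j y (P.U l c₀) * ev j x (P.pu e) = ev j x (P.pu e) * ev j y (P.U l c₀) * T) :
    P.PairComm c e := P.pairComm_of_formula fun R _ j _ C _ _ I x y hx hy => by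
  obtain ⟨y', hy', hyy⟩ := P.exists_word_eq j (I := I) hl hc₀ hc hy
  rw [hyy, P.sys_simple he]
  exact h R j C I x y' hx hy'

theorem mem_combos_at {a b c e g : P.D.idx} {vc ve vg : ℤ × ℤ} (hc : P.At a b c vc) (he : P.At a b e ve)
    (hg : P.At a b g vg) (i k : ℕ) (hi : 1 ≤ i) (hk : 1 ≤ k) (h1 : vg.1 = i * vc.1 + k * ve.1)
    (h2 : vg.2 = i * vc.2 + k * ve.2) : g ∈ P.combos c e := by
  refine ⟨i, k, hi, hk, ?_⟩
  rw [hg, hc, he, h1, h2, ← natCast_zsmul, ← natCast_zsmul]
  module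

/-- All pairs of positive roots of the plane commute up to combinations. -/
def PlaneComm (a b : P.D.idx) : Prop :=
  ∀ c e, c ∈ RedSub.posRoots P.D.P P.D.base → e ∈ RedSub.posRoots P.D.P P.D.base →
    (∃ v, P.At a b c v) → (∃ v, P.At a b e v) → P.PairComm c e

theorem planeComm_swap {a b : P.D.idx} (h : P.PlaneComm a b) : P.PlaneComm b a :=
  fun c e hc he ⟨v, hv⟩ ⟨v', hv'⟩ => h c e hc he ⟨(v.2, v.1), hv.trans (add_comm _ _)⟩
    ⟨(v'.2, v'.1), hv'.trans (add_comm _ _)⟩

theorem commute_fst {c e : P.D.idx} (h0 : P.D.P.root c + P.D.P.root e ≠ 0)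
    (h1 : ∀ g, P.D.P.root g ≠ P.D.P.root c + P.D.P.root e) {R : Type u} [CommRing R]
    (j : Spec (CommRingCat.of R) ⟶ S) [IsOpenImmersion j] {C : Type u} [CommRing C] [Algebra R C] (x y : C) :
    (ev j y (P.sys c)).1 * (ev j x (P.sys e)).1 = (ev j x (P.sys e)).1 * (ev j y (P.sys c)).1 :=
  commute_roots (D := P.D.toSplitRed) (v := fun g => (P.sys g).1) P.rootHom_sys₁ h0 (fun ⟨g, hg⟩ => h1 g hg) y x

theorem commute_snd {c e : P.D.idx} (h0' : (P.q c : ℤ) • P.D.P.root c + (P.q e : ℤ) • P.D.P.root e ≠ 0)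
    (h1' : ∀ g, (P.q g : ℤ) • P.D.P.root g ≠ (P.q c : ℤ) • P.D.P.root c + (P.q e : ℤ) • P.D.P.root e)
    {R : Type u} [CommRing R] (j : Spec (CommRingCat.of R) ⟶ S) [IsOpenImmersion j] {C : Type u} [CommRing C]
    [Algebra R C] (x y : C) :
    (ev j y (P.sys c)).2 * (ev j x (P.sys e)).2 = (ev j x (P.sys e)).2 * (ev j y (P.sys c)).2 := by
  show (gp j y ≫ (P.sys c).2) * (gp j x ≫ (P.sys e).2) = (gp j x ≫ (P.sys e).2) * (gp j y ≫ (P.sys c).2)
  rw [P.sys_snd, P.sys_snd, ← Category.assoc, ← Category.assoc, P.gp_fr, P.gp_fr]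
  refine commute_roots (D := P.D'.toSplitRed) (v := P.sys') P.rootHom_sys' (fun h => h0' ?_)
    (fun ⟨g, hg⟩ => h1' (P.d.symm g) ?_) _ _
  · rw [← P.root_map, ← P.root_map, ← map_add, h, map_zero]
  · rw [← P.root_map, Equiv.apply_symm_apply, hg, map_add, P.root_map, P.root_map]

section Cases

variable {a b : P.D.idx} (ha : a ∈ P.D.base.support) (hb : b ∈ P.D.base.support) (hne : a ≠ b)

include ha hb hne in
theorem planeComm_of_list {p q : ℤ} {L : List (ℤ × ℤ)} (hL : PlaneList p q L) (hp : P.D.P.pairing b a = p)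
    (hq : P.D.P.pairing a b = q) (N : ℤ × ℤ → P.D.idx) (hN : ∀ w ∈ L, P.At a b (N w) w)
    (h : ∀ v ∈ L, ∀ w ∈ L, P.PairComm (N v) (N w)) : P.PlaneComm a b :=
  fun c e hc he ⟨v, hv⟩ ⟨v', hv'⟩ => by
    obtain ⟨w, hw, rfl⟩ := P.mem_of_at ha hb hne hp hq hL hc hv N hN
    obtain ⟨w', hw', rfl⟩ := P.mem_of_at ha hb hne hp hq hL he hv' N hN
    exact h w hw w' hw'

include ha hb hne in
theorem planeComm_zero (hp : P.D.P.pairing b a = 0) (hq : P.D.P.pairing a b = 0) : P.PlaneComm a b := by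
  have hna : P.At a b a (1, 0) := P.at_left a b
  have hnb : P.At a b b (0, 1) := P.at_right a b
  have hab : P.PairComm a b := by
    obtain ⟨s0, s1⟩ := P.commute_source ha hb hne hp hq planeList_zero hna hnb (by simp) (by simp) (by decide)
      (by decide)
    refine P.pairComm_of_commute s0 (fun h => ?_) s1 fun g hg => ?_
    · have := (indep_simple P.D ha hb hne _ _ h).1
      have := P.q_pos a; omega
    · obtain ⟨hpos, v, hv, e1, e2⟩ := P.at_combo ha hb hne (by have := P.q_pos g; omega)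
        ⟨by positivity, by positivity⟩ hg
      have hm := P.at_mem ha hb hne hp hq planeList_zero hpos hv
      have := P.q_pos a
      have := P.q_pos b
      simp only [List.mem_cons, List.not_mem_nil, or_false] at hm
      rcases hm with rfl | rfl <;> simp at e1 e2 <;> omega
  refine P.planeComm_of_list ha hb hne planeList_zero hp hq (fun v => if v = (1, 0) then a else b) ?_ ?_
  · intro w hw
    simp only [List.mem_cons, List.not_mem_nil, or_false] at hw
    rcases hw with rfl | rfl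
    · simpa using hna
    · simpa using hnb
  · intro v hv w hw
    simp only [List.mem_cons, List.not_mem_nil, or_false] at hv hw
    have := hab.symm P
    rcases hv with rfl | rfl <;> rcases hw with rfl | rfl <;> simp [pairComm_self, *]

include ha hb hne in
theorem planeComm_A (hp : P.D.P.pairing b a = -1) (hq : P.D.P.pairing a b = -1) : P.PlaneComm a b := by
  obtain ⟨hpl, e1, e2⟩ := P.pairing_cases ha hb hne
  rw [hp] at e1
  rw [hq] at e2
  simp only [pairList, List.mem_cons, List.not_mem_nil, or_false, Prod.mk.injEq] at hpl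
  obtain ⟨hp', hq', hab⟩ : P.D'.P.pairing (P.d b) (P.d a) = -1 ∧ P.D'.P.pairing (P.d a) (P.d b) = -1 ∧
      P.q a = P.q b := by
    have := P.q_pos a
    have := P.q_pos b
    rcases hpl with ⟨h1, h2⟩ | ⟨h1, h2⟩ | ⟨h1, h2⟩ | ⟨h1, h2⟩ | ⟨h1, h2⟩ | ⟨h1, h2⟩ <;>
      rw [h1] at e1 <;> rw [h2] at e2 <;> first | exact ⟨h1, h2, by omega⟩ | (exfalso; omega)
  let c₁ := P.D.P.reflectionPerm b a
  have hn₁ : P.At a b c₁ (1, 1) := P.at_step hp hq (P.at_left a b) false
  have hq₁ : P.q c₁ = P.q a := P.q_refl b a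
  have hw₁ : wd P.D.P [b] • a = c₁ := by rw [wd_singleton, reflection_smul_idx]
  have hk : ∀ g v, g ∈ RedSub.posRoots P.D.P P.D.base → P.At a b g v → P.q g = (fun _ => 1) v * P.q a := by
    intro g v hg hv
    have hm := P.at_mem ha hb hne hp hq planeList_A hg hv
    simp only [List.mem_cons, List.not_mem_nil, or_false] at hm
    rcases hm with rfl | rfl | rfl
    · rw [P.idx_eq_of_at hv (P.at_left a b)]; simp
    · rw [P.idx_eq_of_at hv (P.at_right a b)]; simp [hab]
    · rw [P.idx_eq_of_at hv hn₁, hq₁]; simp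
  have hpos₁ : c₁ ∈ RedSub.posRoots P.D.P P.D.base :=
    (P.at_combo ha hb hne one_pos (m := 1) (n := 1) (by simp) (by rw [one_smul]; exact hn₁)).1
  have hba : P.PairComm b a := P.pairComm_of_formula fun R _ j _ C _ _ I x y hx hy => by
    refine ⟨ev j (x * y) (P.U [b] a), P.word_mem j (by simpa using hb) ha
      (hw₁ ▸ P.mem_combos_at (P.at_right a b) (P.at_left a b) hn₁ 1 1 le_rfl le_rfl (by simp) (by simp))
      (I.mul_mem_left _ hy), ?_⟩
    rw [P.sys_simple ha, P.sys_simple hb, P.ev_U, P.ev_pu, P.ev_pu]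
    refine Prod.ext ?_ ?_
    · simpa [val] using formula_A j P.D P.e₁ P.he₁ P.hdual P.w P.hw ha hb hne hp hq x y
    · simpa [val, mul_pow, hab] using formula_A j P.D' P.e₁ P.he₁ P.hdual' P.w' P.hw' ((P.base_map a).1 ha)
        ((P.base_map b).1 hb) (P.d.injective.ne hne) hp' hq' (x ^ P.q a) (y ^ P.q b)
  have hcomm : ∀ (c : P.D.idx) (v : ℤ × ℤ), c ∈ P.D.base.support → P.At a b c v → (v = (1, 0) ∨ v = (0, 1)) →
      P.PairComm c₁ c := by
    intro c v hc hv hv'
    have hcp := Cell.simple_pos P.D.P P.D.base hc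
    have hv0 : 0 ≤ v.1 ∧ 0 ≤ v.2 := P.at_nonneg ha hb hne hcp hv
    obtain ⟨s0, s1⟩ := P.commute_source ha hb hne hp hq planeList_A hn₁ hv (by simp) hv0
      (by rcases hv' with rfl | rfl <;> decide) (by rcases hv' with rfl | rfl <;> decide)
    obtain ⟨t0, t1⟩ := P.commute_target ha hb hne hp hq planeList_A _ _ (P.q_pos a) hk hn₁ hv (by simp) hv0
      (by rcases hv' with rfl | rfl <;> decide) (by rcases hv' with rfl | rfl <;> decide) hpos₁ hcp
    exact P.pairComm_of_commute s0 t0 s1 t1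
  have h1 := hcomm a _ ha (P.at_left a b) (Or.inl rfl)
  have h2 := hcomm b _ hb (P.at_right a b) (Or.inr rfl)
  refine P.planeComm_of_list ha hb hne planeList_A hp hq
    (fun v => if v = (1, 0) then a else if v = (0, 1) then b else c₁) ?_ ?_
  · intro w hw
    simp only [List.mem_cons, List.not_mem_nil, or_false] at hw
    rcases hw with rfl | rfl | rfl
    · simpa using P.at_left a b
    · simpa using P.at_right a b
    · simpa using hn₁
  · intro v hv w hw
    simp only [List.mem_cons, List.not_mem_nil, or_false] at hv hw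
    have := hba.symm P
    have := h1.symm P
    have := h2.symm P
    rcases hv with rfl | rfl | rfl <;> rcases hw with rfl | rfl | rfl <;> simp [pairComm_self, *]

end Cases

end Dat

end Groth.L14.Iso
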