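import Groth.Agent.L14.Iso.RankTwo
import Groth.Agent.S8464

/-!
Commutators of pairs of root points in systems of type B₂, including the exceptional exponents in characteristic two.
-/

set_option autoImplicit false
universe u

open CategoryTheory CategoryTheory.Limits AlgebraicGeometry MonoidalCategory CartesianMonoidalCategory MonObj
open Groth.L14.RankOne Groth.L25 Groth.L14.Chart Groth.L14.Chev Groth.L14.Chev.Words Groth.L14.Coroot
open Groth.L24.RootD (wd wd_append wd_nil wd_singleton wd_cons root_smul reflection_smul_idx)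

set_option backward.isDefEq.respectTransparency.types false
set_option linter.style.haveILetI false
set_option linter.unusedSectionVars false
set_option maxHeartbeats 1000000

noncomputable section

namespace Groth.L14.Iso

variable {S : Scheme.{u}} {G G' : Over S} [GrpObj G] [GrpObj G']

theorem formula_B {R : Type u} [CommRing R] (j : Spec (CommRingCat.of R) ⟶ S) {C : Type u} [CommRing C] [Algebra R C]
    [IsOpenImmersion j] (D : Red.Pinning G) (e₁ : 𝟙_ (Over S) ⟶ Red.Ga S) (he₁ : Red.gaFn e₁ = 1)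
    (hd : ∀ a ∈ D.base.support, DualAt (D := D.toSplitRed) (fun c => coav D.toSplitRed c) D.u (opp D.u) a)
    (w : D.idx → (𝟙_ (Over S) ⟶ G))
    (hw : ∀ a, w a = (e₁ ≫ D.u a) * (e₁ ≫ D.u (D.P.reflectionPerm a a))⁻¹ * (e₁ ≫ D.u a))
    {a b : D.idx} (ha : a ∈ D.base.support) (hb : b ∈ D.base.support) (hne : a ≠ b)
    (hp : D.P.pairing b a = -2) (hq : D.P.pairing a b = -1) (x y : C) :
    (gp j y ≫ D.u b) * (gp j x ≫ D.u a) =
        (gp j x ≫ D.u a) * (gp j y ≫ D.u b) * cj j (w b) (D.u a) (x * y) * cj j (w a) (D.u b) (x ^ 2 * y) ∧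
      cj j (w b) (D.u a) y * (gp j x ≫ D.u a) =
        (gp j x ≫ D.u a) * cj j (w b) (D.u a) y * cj j (w a) (D.u b) (2 * x * y) :=
  Groth.Agent.S8464.result S e₁ he₁ G D _ (fun _ => rfl) (fun a ha X x y h => (hd a ha).2 X x y h) w hw a b ha hb hne
    hp hq (fun X z => (toUnit X ≫ w b) * (z ≫ D.u a) * (toUnit X ≫ w b)⁻¹) (fun _ _ => rfl)
    (fun X z => (toUnit X ≫ w a) * (z ≫ D.u b) * (toUnit X ≫ w a)⁻¹) (fun _ _ => rfl) _ (gp j x) (gp j y)
    (gp j (x * y)) (gp j (x ^ 2 * y)) (gp j (2 * x * y)) (by rw [gaFn_gp, gaFn_gp, gaFn_gp, map_mul])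
    (by rw [gaFn_gp, gaFn_gp, gaFn_gp, map_mul, map_pow]) (by rw [gaFn_gp, gaFn_gp, gaFn_gp, map_mul, map_mul, map_ofNat])

/-- The coordinates of the positive roots of a system of type B₂. -/
def rootsB {κ : Type} (a b c₁ c₂ : κ) (v : ℤ × ℤ) : κ :=
  if v = (1, 0) then a else if v = (0, 1) then b else if v = (1, 1) then c₁ else c₂

namespace Dat

variable (P : Dat G G') {a b : P.D.idx} (ha : a ∈ P.D.base.support) (hb : b ∈ P.D.base.support) (hne : a ≠ b)
  (hp : P.D.P.pairing b a = -2) (hq : P.D.P.pairing a b = -1)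

include hp hq in
theorem at_B : P.At a b (P.D.P.reflectionPerm b a) (1, 1) ∧ P.At a b (P.D.P.reflectionPerm a b) (2, 1) :=
  ⟨P.at_step hp hq (P.at_left a b) false, P.at_step hp hq (P.at_right a b) true⟩

include ha hb hne hp hq in
theorem kB {k : ℤ × ℤ → ℕ} {r : ℕ} (h₁ : P.q a = k (1, 0) * r) (h₂ : P.q b = k (0, 1) * r)
    (h₃ : P.q a = k (1, 1) * r) (h₄ : P.q b = k (2, 1) * r) :
    ∀ g v, g ∈ RedSub.posRoots P.D.P P.D.base → P.At a b g v → P.q g = k v * r := by
  intro g v hg hv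
  obtain ⟨hn₁, hn₂⟩ := P.at_B hp hq
  have hm := P.at_mem ha hb hne hp hq planeList_B hg hv
  simp only [List.mem_cons, List.not_mem_nil, or_false] at hm
  rcases hm with rfl | rfl | rfl | rfl
  · rw [P.idx_eq_of_at hv (P.at_left a b), h₁]
  · rw [P.idx_eq_of_at hv (P.at_right a b), h₂]
  · rw [P.idx_eq_of_at hv hn₁, P.q_refl, h₃]
  · rw [P.idx_eq_of_at hv hn₂, P.q_refl, h₄]

include ha hb hne hp hq in
theorem commute_B {k : ℤ × ℤ → ℕ} {r : ℕ} (hr : 0 < r)
    (hk : ∀ g v, g ∈ RedSub.posRoots P.D.P P.D.base → P.At a b g v → P.q g = k v * r)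
    {c e : P.D.idx} {v₁ v₂ : ℤ × ℤ} (hc : P.At a b c v₁) (he : P.At a b e v₂)
    (hv₁ : 0 ≤ v₁.1 ∧ 0 ≤ v₁.2) (hv₂ : 0 ≤ v₂.1 ∧ 0 ≤ v₂.2)
    (s2 : (v₁.1 + v₂.1, v₁.2 + v₂.2) ≠ (0, 0))
    (sw : (v₁.1 + v₂.1, v₁.2 + v₂.2) ∉ [((1 : ℤ), (0 : ℤ)), (0, 1), (1, 1), (2, 1)])
    (t2 : ((k v₁ : ℤ) * v₁.1 + k v₂ * v₂.1, (k v₁ : ℤ) * v₁.2 + k v₂ * v₂.2) ≠ (0, 0))
    (tw : ∀ v ∈ [((1 : ℤ), (0 : ℤ)), (0, 1), (1, 1), (2, 1)], ((k v : ℤ) * v.1, (k v : ℤ) * v.2) ≠
      ((k v₁ : ℤ) * v₁.1 + k v₂ * v₂.1, (k v₁ : ℤ) * v₁.2 + k v₂ * v₂.2))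
    (hc' : c ∈ RedSub.posRoots P.D.P P.D.base) (he' : e ∈ RedSub.posRoots P.D.P P.D.base) : P.PairComm c e := by
  obtain ⟨s0, s1⟩ := P.commute_source ha hb hne hp hq planeList_B hc he hv₁ hv₂ s2 sw
  obtain ⟨t0, t1⟩ := P.commute_target ha hb hne hp hq planeList_B k r hr hk hc he hv₁ hv₂ t2 tw hc' he'
  exact P.pairComm_of_commute s0 t0 s1 t1

include ha hb hne hp hq in
theorem pos_B : P.D.P.reflectionPerm b a ∈ RedSub.posRoots P.D.P P.D.base ∧
    P.D.P.reflectionPerm a b ∈ RedSub.posRoots P.D.P P.D.base := by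
  obtain ⟨hn₁, hn₂⟩ := P.at_B hp hq
  exact ⟨(P.at_combo ha hb hne one_pos (m := 1) (n := 1) (by simp) (by rw [one_smul]; exact hn₁)).1,
    (P.at_combo ha hb hne one_pos (m := 2) (n := 1) (by simp) (by rw [one_smul]; exact hn₂)).1⟩

include ha hb hne hp hq in
/-- The two formulas give the plane. -/
theorem planeComm_B_of {k : ℤ × ℤ → ℕ} {r : ℕ} (hr : 0 < r)
    (hk : ∀ g v, g ∈ RedSub.posRoots P.D.P P.D.base → P.At a b g v → P.q g = k v * r)
    (hk' : k = (fun _ => 1) ∨ k = fun v => if v = (1, 0) ∨ v = (1, 1) then 2 else 1)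
    (hab : P.PairComm b a) (h1a : P.PairComm (P.D.P.reflectionPerm b a) a)
    (hb2 : P.PairComm b (P.D.P.reflectionPerm a b)) : P.PlaneComm a b := by
  obtain ⟨hn₁, hn₂⟩ := P.at_B hp hq
  obtain ⟨p₁, p₂⟩ := P.pos_B ha hb hne hp hq
  have pa := Cell.simple_pos P.D.P P.D.base ha
  have pb := Cell.simple_pos P.D.P P.D.base hb
  have na := P.at_left a b
  have nb := P.at_right a b
  have hb1 : P.PairComm b (P.D.P.reflectionPerm b a) := by
    refine P.commute_B ha hb hne hp hq hr hk nb hn₁ (by simp) (by simp) (by decide) (by decide) ?_ ?_ pb p₁ <;>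
      rcases hk' with rfl | rfl <;> decide
  have ha2 : P.PairComm a (P.D.P.reflectionPerm a b) := by
    refine P.commute_B ha hb hne hp hq hr hk na hn₂ (by simp) (by simp) (by decide) (by decide) ?_ ?_ pa p₂ <;>
      rcases hk' with rfl | rfl <;> decide
  have h12 : P.PairComm (P.D.P.reflectionPerm b a) (P.D.P.reflectionPerm a b) := by
    refine P.commute_B ha hb hne hp hq hr hk hn₁ hn₂ (by simp) (by simp) (by decide) (by decide) ?_ ?_ p₁ p₂ <;>
      rcases hk' with rfl | rfl <;> decide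
  refine P.planeComm_of_list ha hb hne planeList_B hp hq
    (rootsB a b (P.D.P.reflectionPerm b a) (P.D.P.reflectionPerm a b)) ?_ ?_
  · intro w hw
    simp only [List.mem_cons, List.not_mem_nil, or_false] at hw
    rcases hw with rfl | rfl | rfl | rfl <;> simp [rootsB, na, nb, hn₁, hn₂]
  · intro v hv w hw
    simp only [List.mem_cons, List.not_mem_nil, or_false] at hv hw
    have := hab.symm P
    have := h1a.symm P
    have := hb1.symm P
    have := hb2.symm P
    have := ha2.symm P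
    have := h12.symm P
    rcases hv with rfl | rfl | rfl | rfl <;> rcases hw with rfl | rfl | rfl | rfl <;>
      simp [rootsB, pairComm_self, *]

include ha hb hne hp hq in
theorem planeComm_B : P.PlaneComm a b := by
  obtain ⟨hpl, e1, e2⟩ := P.pairing_cases ha hb hne
  rw [hp] at e1
  rw [hq] at e2
  simp only [pairList, List.mem_cons, List.not_mem_nil, or_false, Prod.mk.injEq] at hpl
  have ha' := (P.base_map a).1 ha
  have hb' := (P.base_map b).1 hb
  obtain ⟨hn₁, hn₂⟩ := P.at_B hp hq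
  obtain ⟨p₁, p₂⟩ := P.pos_B ha hb hne hp hq
  have pa := Cell.simple_pos P.D.P P.D.base ha
  have pb := Cell.simple_pos P.D.P P.D.base hb
  have hw₁ : wd P.D.P [b] • a = P.D.P.reflectionPerm b a := by rw [wd_singleton, reflection_smul_idx]
  have hw₂ : wd P.D.P [a] • b = P.D.P.reflectionPerm a b := by rw [wd_singleton, reflection_smul_idx]
  have hg₁ : ∀ {Ψ : Set P.D.idx}, P.D.P.reflectionPerm b a ∈ Ψ → wd P.D.P [b] • a ∈ Ψ := fun h => by rwa [hw₁]
  have hg₂ : ∀ {Ψ : Set P.D.idx}, P.D.P.reflectionPerm a b ∈ Ψ → wd P.D.P [a] • b ∈ Ψ := fun h => by rwa [hw₂]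
  have hlb : ∀ x ∈ [b], x ∈ P.D.base.support := by simpa using hb
  have hla : ∀ x ∈ [a], x ∈ P.D.base.support := by simpa using ha
  have cb : P.D.P.reflectionPerm b a ∈ P.combos b a :=
    P.mem_combos_at (P.at_right a b) (P.at_left a b) hn₁ 1 1 le_rfl le_rfl (by simp) (by simp)
  have cb' : P.D.P.reflectionPerm a b ∈ P.combos b a :=
    P.mem_combos_at (P.at_right a b) (P.at_left a b) hn₂ 1 2 le_rfl (by omega) (by simp) (by simp)
  have c1 : P.D.P.reflectionPerm a b ∈ P.combos (P.D.P.reflectionPerm b a) a :=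
    P.mem_combos_at hn₁ (P.at_left a b) hn₂ 1 1 le_rfl le_rfl (by simp) (by simp)
  obtain ⟨hp', hq', hab⟩ | ⟨hp', hq', hab⟩ :
      (P.D'.P.pairing (P.d b) (P.d a) = -2 ∧ P.D'.P.pairing (P.d a) (P.d b) = -1 ∧ P.q a = P.q b) ∨
        P.D'.P.pairing (P.d b) (P.d a) = -1 ∧ P.D'.P.pairing (P.d a) (P.d b) = -2 ∧ P.q a = 2 * P.q b := by
    have := P.q_pos a
    have := P.q_pos b
    rcases hpl with ⟨h1, h2⟩ | ⟨h1, h2⟩ | ⟨h1, h2⟩ | ⟨h1, h2⟩ | ⟨h1, h2⟩ | ⟨h1, h2⟩ <;>
      rw [h1] at e1 <;> rw [h2] at e2 <;>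
      first | exact Or.inl ⟨h1, h2, by omega⟩ | exact Or.inr ⟨h1, h2, by omega⟩ | (exfalso; omega)
  · refine P.planeComm_B_of ha hb hne hp hq (k := fun _ => 1) (r := P.q b) (P.q_pos b)
      (P.kB ha hb hne hp hq (by simp [hab]) (by simp) (by simp [hab]) (by simp)) (Or.inl rfl) ?_ ?_ (P.commute_B ha hb hne hp hq (P.q_pos b) (k := fun _ => 1)
        (P.kB ha hb hne hp hq (by simp [hab]) (by simp) (by simp [hab]) (by simp)) (P.at_right a b) hn₂ (by simp)
        (by simp) (by decide) (by decide) (by decide) (by decide) pb p₂)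
    · refine P.pairComm_of_formula fun R _ j _ C _ _ I x y hx hy => ?_
      refine ⟨ev j (x * y) (P.U [b] a) * ev j (x ^ 2 * y) (P.U [a] b),
        mul_mem (P.word_mem j hlb ha (hg₁ cb) (I.mul_mem_left _ hy))
          (P.word_mem j hla hb (hg₂ cb') (I.mul_mem_left _ hy)), ?_⟩
      rw [P.sys_simple ha, P.sys_simple hb, P.ev_U, P.ev_U, P.ev_pu, P.ev_pu, ← _root_.mul_assoc]
      refine Prod.ext ?_ ?_
      · simpa [val] using (formula_B j P.D P.e₁ P.he₁ P.hdual P.w P.hw ha hb hne hp hq x y).1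
      · simpa [val, mul_pow, hab, ← pow_mul, mul_comm 2] using
          (formula_B j P.D' P.e₁ P.he₁ P.hdual' P.w' P.hw' ha' hb' (P.d.injective.ne hne) hp' hq'
            (x ^ P.q a) (y ^ P.q b)).1
    · refine P.pairComm_U ha hlb ha hw₁ fun R _ j _ C _ _ I x y hx hy => ?_
      refine ⟨ev j (2 * x * y) (P.U [a] b), P.word_mem j hla hb (hg₂ c1) (I.mul_mem_left _ hy), ?_⟩
      rw [P.ev_U, P.ev_U, P.ev_pu]
      refine Prod.ext ?_ ?_
      · simpa [val] using (formula_B j P.D P.e₁ P.he₁ P.hdual P.w P.hw ha hb hne hp hq x y).2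
      · have h2 : (2 : C) ^ P.q b = 2 := by
          have h := P.add_pow (j := j) b (1 : C) 1
          rwa [one_pow, one_add_one_eq_two] at h
        simpa [val, mul_pow, hab, h2] using
          (formula_B j P.D' P.e₁ P.he₁ P.hdual' P.w' P.hw' ha' hb' (P.d.injective.ne hne) hp' hq'
            (x ^ P.q a) (y ^ P.q a)).2
  · have hk := P.kB ha hb hne hp hq (k := fun v => if v = (1, 0) ∨ v = (1, 1) then 2 else 1) (r := P.q b)
      (by simp [hab]) (by simp) (by simp [hab]) (by simp)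
    have two : ∀ {R : Type u} [CommRing R] (j : Spec (CommRingCat.of R) ⟶ S) (C : Type u) [CommRing C] [Algebra R C],
        (2 : C) = 0 := fun {R} _ j C _ _ => by
      have h1 := P.add_pow (j := j) b (1 : C) 1
      have h2 := P.add_pow (j := j) a (1 : C) 1
      rw [one_pow, one_add_one_eq_two] at h1 h2
      rw [hab, mul_comm 2 (P.q b), pow_mul, h1] at h2
      linear_combination h2
    refine P.planeComm_B_of ha hb hne hp hq (P.q_pos b) hk (Or.inr rfl) ?_ ?_ (PairComm.symm P ?_)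
    · refine P.pairComm_of_formula fun R _ j _ C _ _ I x y hx hy => ?_
      refine ⟨ev j (x * y) (P.U [b] a) * ev j (x ^ 2 * y) (P.U [a] b),
        mul_mem (P.word_mem j hlb ha (hg₁ cb) (I.mul_mem_left _ hy))
          (P.word_mem j hla hb (hg₂ cb') (I.mul_mem_left _ hy)), ?_⟩
      rw [P.sys_simple ha, P.sys_simple hb, P.ev_U, P.ev_U, P.ev_pu, P.ev_pu]
      refine Prod.ext ?_ ?_
      · simpa [val, ← _root_.mul_assoc] using
          (formula_B j P.D P.e₁ P.he₁ P.hdual P.w P.hw ha hb hne hp hq x y).1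
      · have hns : ∀ z : C, -z = z := fun z => by linear_combination (-z) * two j C
        have hsq : ∀ (n : 𝟙_ (Over S) ⟶ G') (c : P.D'.idx) (z : C),
            cj j n (P.D'.u c) z * cj j n (P.D'.u c) z = 1 := fun n c z => by
          haveI := (P.D'.rootHom c).1
          calc _ = (cj j n (P.D'.u c) z)⁻¹ * cj j n (P.D'.u c) z := by rw [← cj_neg, hns]
            _ = 1 := inv_mul_cancel _
        have hf := (formula_B j P.D' P.e₁ P.he₁ P.hdual' P.w' P.hw' hb' ha' (P.d.injective.ne hne).symm hq' hp'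
          (y ^ P.q b) (x ^ P.q a)).1
        have e1 : (x * y) ^ P.q a = (y ^ P.q b) ^ 2 * x ^ P.q a := by rw [hab]; ring
        have e2 : (x ^ 2 * y) ^ P.q b = y ^ P.q b * x ^ P.q a := by rw [hab]; ring
        simp only [Prod.snd_mul, List.map_cons, List.map_nil, val, List.prod_cons, List.prod_nil, _root_.mul_one]
        rw [hf, e1, e2]
        generalize (gp j (y ^ P.q b) ≫ P.D'.u (P.d b)) * (gp j (x ^ P.q a) ≫ P.D'.u (P.d a)) = T
        generalize hA : cj j (P.w' (P.d a)) (P.D'.u (P.d b)) (y ^ P.q b * x ^ P.q a) = A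
        generalize hB : cj j (P.w' (P.d b)) (P.D'.u (P.d a)) ((y ^ P.q b) ^ 2 * x ^ P.q a) = B
        have sA : A * A = 1 := hA ▸ hsq _ _ _
        have sB : B * B = 1 := hB ▸ hsq _ _ _
        calc T = T * (A * ((B * B) * A)) := by rw [sB, _root_.one_mul, sA, _root_.mul_one]
          _ = _ := by group
    · refine P.pairComm_of_formula fun R _ j _ C _ _ I x y hx hy => ?_
      obtain ⟨y', hy', hyy⟩ := P.exists_word_eq j (I := I) hlb ha hw₁ hy
      refine ⟨ev j (2 * x * y') (P.U [a] b), P.word_mem j hla hb (hg₂ c1) (I.mul_mem_left _ hy'), ?_⟩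
      refine Prod.ext ?_ ?_
      · rw [hyy, P.sys_simple ha, P.ev_U, P.ev_U, P.ev_pu]
        simpa [val] using (formula_B j P.D P.e₁ P.he₁ P.hdual P.w P.hw ha hb hne hp hq x y').2
      · obtain ⟨t0, t1⟩ := P.commute_target ha hb hne hp hq planeList_B _ _ (P.q_pos b) hk hn₁ (P.at_left a b)
          (by simp) (by simp) (by decide) (by decide) p₁ pa
        have hT : (ev j (2 * x * y') (P.U [a] b)).2 = 1 := by
          haveI := (P.D'.rootHom (P.d b)).1
          rw [P.ev_U, two j C, zero_mul, zero_mul, zero_pow (P.q_pos b).ne']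
          exact cj_zero j _ _
        rw [Prod.snd_mul, Prod.snd_mul, Prod.snd_mul, hT, _root_.mul_one]
        exact P.commute_snd t0 t1 j x y
    · refine P.pairComm_of_formula fun R _ j _ C _ _ I x y hx hy => ?_
      obtain ⟨y', hy', hyy⟩ := P.exists_word_eq j (I := I) hla hb hw₂ hy
      refine ⟨1, one_mem _, ?_⟩
      refine Prod.ext ?_ ?_
      · obtain ⟨s0, s1⟩ := P.commute_source ha hb hne hp hq planeList_B hn₂ (P.at_right a b) (by simp) (by simp)
          (by decide) (by decide)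
        rw [_root_.mul_one]
        exact P.commute_fst s0 s1 j x y
      · have hf := (formula_B j P.D' P.e₁ P.he₁ P.hdual' P.w' P.hw' hb' ha' (P.d.injective.ne hne).symm hq' hp'
          (x ^ P.q b) (y' ^ P.q b)).2
        haveI := (P.D'.rootHom (P.d a)).1
        rw [two j C, zero_mul, zero_mul, cj_zero, _root_.mul_one] at hf
        rw [_root_.mul_one, hyy, P.sys_simple hb, P.ev_U, P.ev_pu]
        simpa [val] using hf

end Dat

end Groth.L14.Iso
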