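import Groth.Agent.L14.Iso.Positive
import Groth.Agent.L14.Chev.Cell.HatSimple
import Groth.Agent.L14.Chev.Cell.Generated

/-!
Near the unit, products of pairs of root points lie in the big cell of pairs.
-/

set_option autoImplicit false
universe u

open CategoryTheory CategoryTheory.Limits AlgebraicGeometry MonoidalCategory CartesianMonoidalCategory MonObj
open Groth.L14.RankOne Groth.L25 Groth.L14.Chart Groth.L14.Chev Groth.L14.Chev.Cell Groth.L14.Coroot

set_option backward.isDefEq.respectTransparency.types false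
set_option linter.style.haveILetI false
set_option linter.unusedSectionVars false
set_option maxHeartbeats 1000000

noncomputable section

namespace Groth.L14.Iso

variable {S : Scheme.{u}} {G G' : Over S} [GrpObj G] [GrpObj G'] (P : Dat G G')

namespace Dat

variable {R : Type u} [CommRing R] {j : Spec (CommRingCat.of R) ⟶ S} {C : Type u} [CommRing C] [Algebra R C]

theorem prod2_congr (l : List P.D.idx) {x y : P.D.idx → C} (h : ∀ c ∈ l, x c = y c) :
    P.prod2 j l x = P.prod2 j l y := by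
  unfold prod2
  exact congrArg List.prod (List.map_congr_left fun c hc => by rw [h c hc])

theorem prod2_cons (c : P.D.idx) (l : List P.D.idx) (x : P.D.idx → C) :
    P.prod2 j (c :: l) x = ev j (x c) (P.sys c) * P.prod2 j l x := by
  simp [prod2]

theorem prod2_append (l l' : List P.D.idx) (x : P.D.idx → C) :
    P.prod2 j (l ++ l') x = P.prod2 j l x * P.prod2 j l' x := by
  simp [prod2]

theorem prod2_single (c : P.D.idx) (x : P.D.idx → C) :
    P.prod2 j [c] x = ev j (x c) (P.sys c) := by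
  simp [prod2]

variable (j) in
/-- A point of the big cell of pairs. -/
def cell2 (ln lp : List P.D.idx) (χ : Multiplicative P.D.M →* C) (y x : P.D.idx → C) :
    (Sp j C ⟶ G) × (Sp j C ⟶ G') :=
  P.prod2 j ln y * (t2 j P χ * P.prod2 j lp x)

theorem cell2_fst (ln lp : List P.D.idx) (χ : Multiplicative P.D.M →* C) (y x : P.D.idx → C) :
    (P.cell2 j ln lp χ y x).1 =
      rootProd j P.src.u ln y * ((tpt P.src j χ ≫ P.src.i) * rootProd j P.src.u lp x) := by
  rw [cell2, Prod.fst_mul, Prod.fst_mul, P.prod2_fst, P.prod2_fst]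
  rfl

variable [IsOpenImmersion j] {n m : ℕ} {eneg : Fin n → P.D.idx} {epos : Fin m → P.D.idx}

/-- Points of the big cell of pairs are determined by their source parts. -/
theorem cell2_coords (hneg : RedSub.Enumerates (RedSub.negRoots P.D.P P.D.base) eneg)
    (hpos : RedSub.Enumerates (RedSub.posRoots P.D.P P.D.base) epos) {χ χ' : Multiplicative P.D.M →* C}
    {y y' x x' : P.D.idx → C}
    (h : (P.cell2 j (List.ofFn eneg) (List.ofFn epos) χ y x).1 =
      (P.cell2 j (List.ofFn eneg) (List.ofFn epos) χ' y' x').1) :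
    P.cell2 j (List.ofFn eneg) (List.ofFn epos) χ y x = P.cell2 j (List.ofFn eneg) (List.ofFn epos) χ' y' x' := by
  haveI : Finite P.D.idx := Finite.of_fintype _
  obtain ⟨lam, hl⟩ := hasLam (D := P.D.toSplitRed) P.D.base
  rw [P.cell2_fst, P.cell2_fst] at h
  obtain ⟨rfl, hy, hx⟩ := cell_injective (D := P.src) P.src.rootHom (mu := lam) (nodup_list (D := P.src) hneg)
    (nodup_list (D := P.src) hpos) (fun c hc => (hl c).2 ((mem_list_iff (D := P.src) hneg c).1 hc))
    (fun c hc => (hl c).1 ((mem_list_iff (D := P.src) hpos c).1 hc)) h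
  rw [cell2, cell2, P.prod2_congr _ hy, P.prod2_congr _ hx]

variable (I : Ideal C)

variable (j) in
/-- The small cell of pairs. -/
def smlCell2 : Set ((Sp j C ⟶ G) × (Sp j C ⟶ G')) :=
  {g | ∃ p ∈ P.gen2 j I (RedSub.negRoots P.D.P P.D.base), ∃ χ : Multiplicative P.D.M →* C,
    ∃ q ∈ P.gen2 j I (RedSub.posRoots P.D.P P.D.base), g = p * (t2 j P χ * q)}

theorem one_mem_smlCell2 : (1 : (Sp j C ⟶ G) × (Sp j C ⟶ G')) ∈ P.smlCell2 j I :=
  ⟨1, one_mem _, 1, 1, one_mem _, by rw [t2_one, _root_.one_mul, _root_.one_mul]⟩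

theorem smlCell2_mul_pos {g q : (Sp j C ⟶ G) × (Sp j C ⟶ G')} (hg : g ∈ P.smlCell2 j I)
    (hq : q ∈ P.gen2 j I (RedSub.posRoots P.D.P P.D.base)) : g * q ∈ P.smlCell2 j I := by
  obtain ⟨p, hp, χ, q₀, hq₀, rfl⟩ := hg
  exact ⟨p, hp, χ, q₀ * q, mul_mem hq₀ hq, by simp only [_root_.mul_assoc]⟩

theorem t2_conj_smlCell2 {g : (Sp j C ⟶ G) × (Sp j C ⟶ G')} (hg : g ∈ P.smlCell2 j I)
    (τ : Multiplicative P.D.M →* C) : t2 j P τ * g * (t2 j P τ)⁻¹ ∈ P.smlCell2 j I := by
  obtain ⟨p, hp, χ, q, hq, rfl⟩ := hg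
  refine ⟨_, P.t2_conj_mem j τ hp, χ, _, P.t2_conj_mem j τ hq, ?_⟩
  have hc : t2 j P τ * t2 j P χ = t2 j P χ * t2 j P τ := by rw [← t2_mul, ← t2_mul, _root_.mul_comm]
  calc _ = t2 j P τ * p * (t2 j P τ)⁻¹ * ((t2 j P τ * t2 j P χ) * q * (t2 j P τ)⁻¹) := by group
    _ = _ := by rw [hc]; group

/-- The system at the opposite of a simple root is made of the given root homomorphisms, up to a common sign. -/
theorem ev_sys_opp {a : P.D.idx} (ha : a ∈ P.D.base.support) :
    ∃ ε : ℤ, (ε = 1 ∨ ε = -1) ∧ ∀ z : C, ev j z (P.sys (P.D.P.reflectionPerm a a)) =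
      (gp j (-((ε : C) * z)) ≫ opp P.D.u a, gp j ((-((ε : C) * z)) ^ P.q a) ≫ opp P.D'.u (P.d a)) := by
  have ha' := (P.base_map a).1 ha
  obtain ⟨ε, hε, hcar⟩ := P.car_sys ha a
  have εε : (ε : C) * (ε : C) = 1 := by rcases hε with e | e <;> simp [e]
  have he : toUnit (Sp j C) ≫ P.e₁ = gp j (1 : C) := GaPts.gaFn_injective (by
    show Red.gaFn _ = Red.gaFn _
    rw [GaPts.gaFn_comp, P.he₁, map_one, gaFn_gp, map_one])
  have hw1 : toUnit (Sp j C) ≫ P.w a =
      (gp j (1 : C) ≫ P.D.u a) * (gp j (-1 : C) ≫ opp P.D.u a) * (gp j (1 : C) ≫ P.D.u a) := by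
    haveI := (P.D.rootHom (P.D.P.reflectionPerm a a)).1
    rw [P.hw, gp_neg, GrpObj.inv_comp]
    simp only [MonObj.comp_mul, GrpObj.comp_inv, ← Category.assoc, he]
  have hw2 : toUnit (Sp j C) ≫ P.w' (P.d a) =
      (gp j (1 : C) ≫ P.D'.u (P.d a)) * (gp j (-1 : C) ≫ opp P.D'.u (P.d a)) * (gp j (1 : C) ≫ P.D'.u (P.d a)) := by
    haveI := (P.D'.rootHom (P.D'.P.reflectionPerm (P.d a) (P.d a))).1
    rw [P.hw', gp_neg, GrpObj.inv_comp]
    simp only [MonObj.comp_mul, GrpObj.comp_inv, ← Category.assoc, he]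
  refine ⟨ε, hε, fun z => ?_⟩
  have h := hcar R j C ((ε : C) * z)
  rw [← _root_.mul_assoc, εε, _root_.one_mul] at h
  rw [← h, P.sys_simple ha, P.ev_pu]
  refine Prod.ext ?_ ?_
  · show (toUnit _ ≫ P.w a) * _ * (toUnit _ ≫ P.w a)⁻¹ = _
    rw [hw1]
    exact weyl_conj (D := P.D.toSplitRed) j P.avc P.havc P.D.rootHom a (P.hdual a ha) _
  · show (toUnit _ ≫ P.w' (P.d a)) * _ * (toUnit _ ≫ P.w' (P.d a))⁻¹ = _
    rw [hw2, P.neg_pow' (j := j)]
    exact weyl_conj (D := P.D'.toSplitRed) j P.avc' P.havc' P.D'.rootHom (P.d a) (P.hdual' _ ha') _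

/-- The rule of a simple root and its opposite near the unit. -/
theorem exists_swap2 (hI : ∀ r ∈ I, IsUnit (1 + r)) {a : P.D.idx} (ha : a ∈ P.D.base.support) {p r : C}
    (hp : p ∈ I) (hr : r ∈ I) :
    ∃ r' ∈ I, ∃ τ : Multiplicative P.D.M →* C, ∃ p' ∈ I,
      ev j p (P.sys a) * ev j r (P.sys (P.D.P.reflectionPerm a a)) =
        ev j r' (P.sys (P.D.P.reflectionPerm a a)) * t2 j P τ * ev j p' (P.sys a) := by
  have ha' := (P.base_map a).1 ha
  obtain ⟨ε, hε, key⟩ := P.ev_sys_opp (j := j) (C := C) ha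
  let Y : C := -((ε : C) * r)
  obtain ⟨w, hw⟩ : IsUnit (1 + p * Y) := hI _ (I.mul_mem_right _ hp)
  have hwq : ((w ^ P.q a : Cˣ) : C) = 1 + p ^ P.q a * Y ^ P.q a := by
    rw [Units.val_pow_eq_pow_val, hw, P.add_pow (j := j), one_pow, mul_pow]
  refine ⟨(↑w⁻¹ : C) * r, I.mul_mem_left _ hr, cochi (D := P.D.toSplitRed) a w, (↑w⁻¹ : C) * p,
    I.mul_mem_left _ hp, ?_⟩
  have eY : -((ε : C) * ((↑w⁻¹ : C) * r)) = (↑w⁻¹ : C) * Y := by simp only [Y]; ring
  rw [key, key, eY, P.sys_simple ha, P.ev_pu, P.ev_pu]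
  refine Prod.ext ?_ ?_
  · show (gp j p ≫ P.D.u a) * (gp j Y ≫ opp P.D.u a) = _
    rw [dual_pt (D := P.D.toSplitRed) j P.avc a (P.hdual a ha) p Y w hw, hpt, ← Category.assoc,
      up_avc j P.avc P.havc]
    rfl
  · show (gp j (p ^ P.q a) ≫ P.D'.u (P.d a)) * (gp j (Y ^ P.q a) ≫ opp P.D'.u (P.d a)) = _
    rw [dual_pt (D := P.D'.toSplitRed) j P.avc' (P.d a) (P.hdual' _ ha') (p ^ P.q a) (Y ^ P.q a) (w ^ P.q a) hwq,
      hpt, ← Category.assoc, up_avc j P.avc' P.havc', ← P.chMap_cochi, ← inv_pow, Units.val_pow_eq_pow_val,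
      ← mul_pow, ← mul_pow]
    rfl

/-- A simple Weyl pair preserves the small cell. -/
theorem res_conj_smlCell2 (hI : ∀ r ∈ I, IsUnit (1 + r)) {a : P.D.idx} (ha : a ∈ P.D.base.support)
    {g : (Sp j C ⟶ G) × (Sp j C ⟶ G')} (hg : g ∈ P.smlCell2 j I) :
    res j C (P.pw a) * g * (res j C (P.pw a))⁻¹ ∈ P.smlCell2 j I := by
  classical
  haveI : Finite P.D.idx := Finite.of_fintype _
  obtain ⟨p, hp, χ, q, hq, rfl⟩ := hg
  set a' := P.D.P.reflectionPerm a a with ha'
  have hapos := simple_pos P.D.P P.D.base ha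
  have ha'neg : a' ∈ RedSub.negRoots P.D.P P.D.base := neg_simple_neg P.D.base ha
  obtain ⟨m, epos, hpos⟩ := exists_enum (D := P.src) (RedSub.posRoots P.D.P P.D.base)
  obtain ⟨k, eneg, hneg⟩ := exists_enum (D := P.src) (RedSub.negRoots P.D.P P.D.base)
  let Lp := (List.ofFn epos).erase a
  let Ln := (List.ofFn eneg).erase a'
  have hLp : ∀ c, c ∈ Lp ↔ c ∈ RedSub.posRoots P.D.P P.D.base ∧ c ≠ a := fun c => by
    rw [(nodup_list (D := P.src) hpos).mem_erase_iff, mem_list_iff (D := P.src) hpos, and_comm]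
  have hLn : ∀ c, c ∈ Ln ↔ c ∈ RedSub.negRoots P.D.P P.D.base ∧ c ≠ a' := fun c => by
    rw [(nodup_list (D := P.src) hneg).mem_erase_iff, mem_list_iff (D := P.src) hneg, and_comm]
  obtain ⟨x, hx, rfl⟩ := P.exists_coords2 j (P.good_pos) (l := a :: Lp)
    (List.nodup_cons.2 ⟨fun h => ((hLp a).1 h).2 rfl, (nodup_list (D := P.src) hpos).erase a⟩) (fun c => by
      rw [List.mem_cons, hLp]
      exact ⟨fun h => h.elim (fun e => e ▸ hapos) (·.1), fun h => (em (c = a)).imp_right fun h' => ⟨h, h'⟩⟩) hq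
  obtain ⟨y, hy, rfl⟩ := P.exists_coords2 j (P.good_neg) (l := Ln ++ [a'])
    (List.nodup_append.2 ⟨(nodup_list (D := P.src) hneg).erase a', List.nodup_singleton _, fun c hc d hd e => by
      rw [List.mem_singleton] at hd
      exact ((hLn c).1 hc).2 (e.trans hd)⟩) (fun c => by
      rw [List.mem_append, List.mem_singleton, hLn]
      exact ⟨fun h => h.elim (·.1) (fun e => e ▸ ha'neg), fun h => ((em (c = a')).symm).imp_left fun h' => ⟨h, h'⟩⟩) hp
  have hq' : res j C (P.pw a) * P.prod2 j Lp x * (res j C (P.pw a))⁻¹ ∈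
      P.gen2 j I (RedSub.posRoots P.D.P P.D.base) := by
    refine P.gen2_mono j ?_ (P.res_conj_mem j ha (P.prod2_mem j (Ψ := {c | c ∈ Lp}) (fun c hc => hc)
      fun c hc => hx c (List.mem_cons_of_mem _ hc)))
    rintro _ ⟨c, hc, rfl⟩
    exact refl_simple_pos P.D.P P.D.base ha ((hLp c).1 hc).1 ((hLp c).1 hc).2
  have hp' : res j C (P.pw a) * P.prod2 j Ln y * (res j C (P.pw a))⁻¹ ∈
      P.gen2 j I (RedSub.negRoots P.D.P P.D.base) := by
    refine P.gen2_mono j ?_ (P.res_conj_mem j ha (P.prod2_mem j (Ψ := {c | c ∈ Ln}) (fun c hc => hc)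
      fun c hc => hy c (List.mem_append_left _ hc)))
    rintro _ ⟨c, hc, rfl⟩
    obtain ⟨hcn, hca⟩ := (hLn c).1 hc
    have h := refl_simple_pos P.D.P P.D.base ha (c := P.D.P.reflectionPerm c c) (by
      show P.D.P.root _ ∈ AddSubmonoid.closure _
      rw [root_neg']; exact hcn) (fun e => hca (P.D.P.root.injective (by
        rw [ha', root_neg', ← congrArg P.D.P.root e, root_neg', neg_neg])))
    show -P.D.P.root _ ∈ AddSubmonoid.closure _
    rw [P.D.P.root_reflectionPerm, ← map_neg, ← root_neg' P.D.P c, ← P.D.P.root_reflectionPerm]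
    exact h
  obtain ⟨ε₁, -, hc1⟩ := P.car_sys ha a'
  obtain ⟨ε₂, -, hc2⟩ := P.car_sys ha a
  rw [ha', P.D.P.reflectionPerm_self, ← ha'] at hc1
  rw [← ha'] at hc2
  set σ := reflChar (D := P.D.toSplitRed) a χ with hσdef
  set r₁ := (ε₁ : C) * y a'
  set r₂ := (ε₂ : C) * x a
  have hr₁ : r₁ ∈ I := I.mul_mem_left _ (hy a' (by simp))
  have hr₂ : r₂ ∈ I := I.mul_mem_left _ (hx a List.mem_cons_self)
  obtain ⟨r₃, hr₃, τ, r₄, hr₄, hsw⟩ := P.exists_swap2 (j := j) I hI ha hr₁
    (I.mul_mem_left (σ (Multiplicative.ofAdd (P.D.P.root a'))) hr₂)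
  obtain ⟨σi, hσi⟩ : ∃ σi : Multiplicative P.D.M →* C, σi * σ = 1 :=
    ⟨(Units.coeHom C).comp σ.toHomUnits⁻¹, MonoidHom.ext fun z => Units.inv_mul (σ.toHomUnits z)⟩
  have hmove : t2 j P σ * ev j r₂ (P.sys a') =
      ev j (σ (Multiplicative.ofAdd (P.D.P.root a')) * r₂) (P.sys a') * t2 j P σ := by
    rw [← P.eqv_sys a' R j C σ r₂]; group
  have hmove' : ev j r₄ (P.sys a) * t2 j P σ =
      t2 j P σ * ev j (σi (Multiplicative.ofAdd (P.D.P.root a)) * r₄) (P.sys a) := by
    have hone : σ (Multiplicative.ofAdd (P.D.P.root a)) * (σi (Multiplicative.ofAdd (P.D.P.root a)) * r₄) = r₄ := by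
      rw [← _root_.mul_assoc, _root_.mul_comm (σ _), ← MonoidHom.mul_apply, hσi, MonoidHom.one_apply,
        _root_.one_mul]
    conv_lhs => rw [← hone, ← P.eqv_sys a R j C σ]
    group
  have hT := P.res_pw_t2 ha j χ
  rw [← hσdef] at hT
  have e₁ := hc1 R j C (y a')
  have e₂ := hc2 R j C (x a)
  refine ⟨(res j C (P.pw a) * P.prod2 j Ln y * (res j C (P.pw a))⁻¹) * ev j r₃ (P.sys a'),
    mul_mem hp' (P.ev_mem j ha'neg hr₃), τ * σ, ev j (σi (Multiplicative.ofAdd (P.D.P.root a)) * r₄) (P.sys a) *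
      (res j C (P.pw a) * P.prod2 j Lp x * (res j C (P.pw a))⁻¹),
    mul_mem (P.ev_mem j hapos (I.mul_mem_left _ hr₄)) hq', ?_⟩
  rw [t2_mul, P.prod2_cons, P.prod2_append, P.prod2_single]
  calc _ = (res j C (P.pw a) * P.prod2 j Ln y * (res j C (P.pw a))⁻¹) *
        (res j C (P.pw a) * ev j (y a') (P.sys a') * (res j C (P.pw a))⁻¹) *
        ((res j C (P.pw a) * t2 j P χ * (res j C (P.pw a))⁻¹) *
          (res j C (P.pw a) * ev j (x a) (P.sys a) * (res j C (P.pw a))⁻¹)) *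
          (res j C (P.pw a) * P.prod2 j Lp x * (res j C (P.pw a))⁻¹) := by group
    _ = (res j C (P.pw a) * P.prod2 j Ln y * (res j C (P.pw a))⁻¹) *
        (ev j r₁ (P.sys a) * ev j (σ (Multiplicative.ofAdd (P.D.P.root a')) * r₂) (P.sys a')) * t2 j P σ *
          (res j C (P.pw a) * P.prod2 j Lp x * (res j C (P.pw a))⁻¹) := by
      rw [hT, e₁, e₂, hmove]; simp only [← _root_.mul_assoc, r₁]
    _ = _ := by
      rw [hsw]
      simp only [_root_.mul_assoc]
      congr 3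
      rw [← _root_.mul_assoc (ev j r₄ (P.sys a)), hmove', _root_.mul_assoc]

/-- The small cell is stable under small root pairs. -/
theorem smlCell2_mul_ev (hI : ∀ r ∈ I, IsUnit (1 + r)) {g : (Sp j C ⟶ G) × (Sp j C ⟶ G')}
    (hg : g ∈ P.smlCell2 j I) (c : P.D.idx) {r : C} (hr : r ∈ I) : g * ev j r (P.sys c) ∈ P.smlCell2 j I := by
  classical
  haveI : Finite P.D.idx := Finite.of_fintype _
  haveI := Cell.isReduced P.D.P P.D.base
  haveI := Chart.RootCombo.isCrystallographic P.D.P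
  let St : Set P.D.idx := {c | ∀ g ∈ P.smlCell2 j I, ∀ r ∈ I, g * ev j r (P.sys c) ∈ P.smlCell2 j I}
  have hpos : ∀ c ∈ RedSub.posRoots P.D.P P.D.base, c ∈ St := fun c hc g hg r hr =>
    P.smlCell2_mul_pos I hg (P.ev_mem j hc hr)
  have hinv : ∀ a ∈ P.D.base.support, ∀ g ∈ P.smlCell2 j I,
      (res j C (P.pw a))⁻¹ * g * res j C (P.pw a) ∈ P.smlCell2 j I := by
    intro a ha g hg
    obtain ⟨lam, hlam⟩ := inv_mem (P.sq_mem_signs ha)
    have hk := hlam R j C
    rw [map_inv, map_mul] at hk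
    have h := P.res_conj_smlCell2 I hI ha (P.t2_conj_smlCell2 I hg (P.sgn lam C))
    rw [← hk] at h
    convert h using 1
    group
  have hrefl : ∀ a ∈ P.D.base.support, ∀ e ∈ St, P.D.P.reflectionPerm a e ∈ St := by
    intro a ha e he g hg r hr
    obtain ⟨ε, hε, hcar⟩ := P.car_sys ha e
    have h2 := P.res_conj_smlCell2 I hI ha (he _ (hinv a ha g hg) ((ε : C) * r) (I.mul_mem_left _ hr))
    have e' : g * ev j r (P.sys (P.D.P.reflectionPerm a e)) =
        res j C (P.pw a) * ((res j C (P.pw a))⁻¹ * g * res j C (P.pw a) * ev j ((ε : C) * r) (P.sys e)) *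
          (res j C (P.pw a))⁻¹ := by
      have h := hcar R j C ((ε : C) * r)
      rw [← _root_.mul_assoc, show (ε : C) * (ε : C) = 1 by rcases hε with e | e <;> simp [e], _root_.one_mul] at h
      rw [← h]; group
    rw [e']
    exact h2
  have hall : ∀ c : P.D.idx, c ∈ St ∧ P.D.P.reflectionPerm c c ∈ St := by
    intro c
    induction c using RootPairing.Base.induction_reflect (b := P.D.base) with
    | h₀ i hi =>
      refine ⟨hi.2, ?_⟩
      rw [show P.D.P.reflectionPerm (P.D.P.reflectionPerm i i) (P.D.P.reflectionPerm i i) = i from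
        P.D.P.root.injective (by rw [root_neg', root_neg', neg_neg])]
      exact hi.1
    | h₁ i hi => exact ⟨hpos i (simple_pos P.D.P P.D.base hi), hrefl i hi i (hpos i (simple_pos P.D.P P.D.base hi))⟩
    | h₂ i a hi ha =>
      refine ⟨hrefl a ha i hi.1, ?_⟩
      rw [show P.D.P.reflectionPerm (P.D.P.reflectionPerm a i) (P.D.P.reflectionPerm a i) =
          P.D.P.reflectionPerm a (P.D.P.reflectionPerm i i) from P.D.P.root.injective (by
        rw [root_neg', P.D.P.root_reflectionPerm, P.D.P.root_reflectionPerm a (P.D.P.reflectionPerm i i), root_neg',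
          map_neg])]
      exact hrefl a ha _ hi.2
  exact (hall c).1 g hg r hr

/-- Near the unit, a product of a positive and a negative pair is the pair of the decomposition of its source part. -/
theorem eq_cell2_small (hI : ∀ r ∈ I, IsUnit (1 + r))
    (hneg : RedSub.Enumerates (RedSub.negRoots P.D.P P.D.base) eneg)
    (hpos : RedSub.Enumerates (RedSub.posRoots P.D.P P.D.base) epos) {x y : P.D.idx → C}
    (hx : ∀ c, x c ∈ I) (hy : ∀ c, y c ∈ I) {χ : Multiplicative P.D.M →* C} {y' x' : P.D.idx → C}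
    (h : (P.prod2 j (List.ofFn epos) x * P.prod2 j (List.ofFn eneg) y).1 =
      (P.cell2 j (List.ofFn eneg) (List.ofFn epos) χ y' x').1) :
    P.prod2 j (List.ofFn epos) x * P.prod2 j (List.ofFn eneg) y =
      P.cell2 j (List.ofFn eneg) (List.ofFn epos) χ y' x' := by
  have hK : P.prod2 j (List.ofFn epos) x * P.prod2 j (List.ofFn eneg) y ∈ P.smlCell2 j I := by
    have hstep : ∀ (l : List P.D.idx) (g : (Sp j C ⟶ G) × (Sp j C ⟶ G')), g ∈ P.smlCell2 j I →
        g * P.prod2 j l y ∈ P.smlCell2 j I := by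
      intro l
      induction l with
      | nil => intro g hg; simpa [prod2] using hg
      | cons c l ih =>
        intro g hg
        rw [P.prod2_cons, ← _root_.mul_assoc]
        exact ih _ (P.smlCell2_mul_ev I hI hg c (hy c))
    refine hstep _ _ ?_
    have h1 := P.smlCell2_mul_pos I (P.one_mem_smlCell2 (j := j) I)
      (P.prod2_mem j (l := List.ofFn epos) (fun c hc => (mem_list_iff (D := P.src) hpos c).1 hc) fun c _ => hx c)
    rwa [_root_.one_mul] at h1
  obtain ⟨p, hp, τ, q, hq, e⟩ := hK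
  obtain ⟨x₀, -, rfl⟩ := P.exists_coords2 j P.good_pos (nodup_list (D := P.src) hpos)
    (mem_list_iff (D := P.src) hpos) hq
  obtain ⟨y₀, -, rfl⟩ := P.exists_coords2 j P.good_neg (nodup_list (D := P.src) hneg)
    (mem_list_iff (D := P.src) hneg) hp
  rw [e] at h ⊢
  exact P.cell2_coords hneg hpos h

end Dat

end Groth.L14.Iso
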